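import Cfsg.Agent.R10.DM1

/-! The normaliser of `A` inside `C(B3)` and the action on `B3`. -/

set_option autoImplicit false
set_option linter.unusedSectionVars false

namespace Cfsg.Lib.R10

open Subgroup Cfsg.Lib.Trans Cfsg.Lib.Gold Matrix
open Cfsg.Lib.J4T (N4 M12 Z3 bv rho br sqm ev comb Ind b1 b2 b3)
open scoped commutatorElement

universe u

variable {G : Type u} [Group G] {θ : Mt → G} {ψ : L5 →* G} {S : Subgroup G}
  {a b c c' k m x y : G} {f f' : M12} {l l' : N4 → N4}

variable [Finite G]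

namespace DN1

/-- The generators of `M3` by number. -/
def gn (k : ℕ) : Fin 5 × Fin 5 :=
  [(0, 0), (0, 1), (1, 0), (0, 2), (2, 0), (1, 2), (2, 1)].getD k (0, 0)

/-- Their action on `B3`. -/
def zf (k : ℕ) (ζ : Z3) : Z3 := bv 3 (Nat.shiftRight 0xfac688bbc298dec4c878cea8de56886acf88b3e688fac688 (24 * k + 3 * ζ.v))

/-- The action of a word written in base eight. -/
def aw : ℕ → ℕ → Z3 → Z3
  | 0, _, ζ => ζ
  | n + 1, c, ζ => zf (c % 8) (aw n (c / 8) ζ)

/-- The table of words. -/
def wT : ℕ := nat_lit 0xb5008d6003582a7500000000000000050b0000004630027800000022c000000000050d01194000000000047500234000000000010d00194000000000007500034000000000010b0000000630007800000002c00000000000000553008ee003b80a750000000000000000000000000000000000000000000000000000000053016a30153806b5000000000000000000000000000000000000000000000005840000000000ca90000004f5002a40000002840000002300000002380000000440000004a4000000000031d0000000f5000a400000008400000003000000003800000000400000000000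000153018ee0053807750000000000000000000000000000000000000000000000000001930000000a3002cc00000004c000000668000000000011a00000059d00068000000000000000000000000000000000000000005a840b33000000000011b8237500000000000ca4000000000011d00000019d000740000000000133000000023000cc00000000c000000cb8086e000000000001b80375000000000000000000000000000000000000000000000000000195000b000000000000b5000540000000c80000000500000000580000000080000005980b35000000000002b80575000000000000000000000000000000000000000000000000000135000940000000000035000140000000980000000100000000180000000000000004b80975000000000000b80175000000000000000000000000000000000000000000000000000395001b000000000002b5001540000003c8000000000031a00000085a00168000000d840000000001ca90000014f500aa4000000000150d011b0000000000147500a3400000000000000000000000000000000000000000039807330017002e30000000000000000000139827330117022e30000000000000000000000000000000000000000000000000000000000003930000002a300acc00000014c0000001c8000000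150000000158000000028000000000150b00000146300a78000000a2c000000a84000000a30000000a38000000144000005384073500a7014e3000000000000000000000000000000000000000000000000000000029c8273505170a2e3000000000000000000000000000000000000000000000000000000000000000003b006a3055380cec00000000000000000000350071a00b582cec00000000000d981b3500000000000ab8157500000000001a841b33000000000051b8a37500000000001384070d0027004e300000000000000000000384070b0007000e3000000000000000000000000000000000000000000000000000000000000000000000000000000000000000000000000000000000000000000000000000000000000000000000000000000000000000000000000000000000000000000000000000000000000000000000000000000000000000000000000000000000000000000000000000000000000000000000000000000000000000000000000000000000000000000000000000000000000000000000000000000000000000000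

theorem gn_eq_1' : type_of% @gn.eq_1 := @gn.eq_1
theorem zf_eq_1' : type_of% @zf.eq_1 := @zf.eq_1
theorem aw_eq_1' : type_of% @aw.eq_1 := @aw.eq_1
theorem aw_eq_2' : type_of% @aw.eq_2 := @aw.eq_2

theorem gn_zf : ∀ k, k < 8 → (gn k).1.val < 3 ∧ (gn k).2.val < 3 ∧
    ∀ ζ, zt (gn k).1 (gn k).2 ζ = zf k ζ := by decide +kernel

theorem aw_tab : ∀ p q r : Z3, Ind p q r → ∀ ζ,
    aw 6 (Nat.shiftRight wT (18 * (p.v + 8 * q.v + 64 * r.v))) ζ = comb p q r ζ := by
  decide +kernel

theorem ex_aw (h : Fr θ ψ) (n c : ℕ) :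
    ∃ m ∈ M3 ψ, ∀ ζ, m * θ (mZ ζ) * m⁻¹ = θ (mZ (aw n c ζ)) := by
  induction n generalizing c with
  | zero => exact ⟨1, one_mem _, fun ζ => by simp [aw]⟩
  | succ n ih =>
    obtain ⟨m, hm, e⟩ := ih (c / 8)
    obtain ⟨h1, h2, h3⟩ := gn_zf (c % 8) (Nat.mod_lt _ (by decide))
    refine ⟨tt ψ (gn (c % 8)).1 (gn (c % 8)).2 * m, mul_mem (tt_M3 h1 h2) hm, fun ζ => ?_⟩
    rw [aw, ← h3, ← h.dtz h1 h2, ← e]
    group

/-- The first three columns are those of the identity. -/
def Co (g : L5) : Prop := ∀ i j : Fin 5, j.val < 3 → g.1 i j = (1 : Mt) i j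

theorem Co_eq_1' : type_of% @Co.eq_1 := @Co.eq_1

theorem off {g : L5} {i j : Fin 5} (hij : i ≠ j) (k : g.1 * wm i j * g.1ᵀ = wm i j) (a : Fin 5)
    (h1 : a ≠ i) (h2 : a ≠ j) : g.1 a i = 0 := by
  have e1 : g.1ᵀ * (g⁻¹).1ᵀ = 1 := by
    rw [← transpose_mul, ← cmul, inv_mul_cancel]; exact transpose_one
  have e3 : g.1 * wm i j = wm i j * (g⁻¹).1ᵀ := by
    conv_rhs => rw [← k, Matrix.mul_assoc, e1, Matrix.mul_one]
  have e4 := congrFun (congrFun e3 a) j
  rw [mul_apply, mul_apply, Finset.sum_eq_single i, Finset.sum_eq_zero] at e4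
  · simpa [wm_ent, hij] using e4
  · intro c _
    simp [wm_ent, h1, h2]
  · intro c _ hc
    simp [wm_ent, hc, hij.symm]
  · simp

theorem wm_comm : ∀ i j, wm i j = wm j i := by decide +kernel

theorem co_of {g : L5} (k : ∀ i j : Fin 5, i.val < 3 → j.val < 3 → g.1 * wm i j * g.1ᵀ = wm i j) :
    Co g := by
  have e2 : ∀ a i : Fin 5, i.val < 3 → a ≠ i → g.1 a i = 0 := fun a i hi hai => by
    obtain ⟨j, h0, h1, h2⟩ : ∃ j : Fin 5, j.val < 3 ∧ a ≠ j ∧ i ≠ j := by revert a i; decide
    exact off h2 (k i j hi h0) a hai h1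
  intro a i hi
  by_cases e : a = i
  · subst e
    have e3 : (g⁻¹ * g).1 a a = 1 := by rw [inv_mul_cancel]; exact one_apply_eq a
    rw [cmul, mul_apply, Finset.sum_eq_single a] at e3
    · exact (CA.z2' _ (right_ne_zero_of_mul_eq_one e3)).trans (one_apply_eq a).symm
    · intro c _ hc
      rw [e2 c a hi hc, mul_zero]
    · simp
  · exact (e2 a i hi e).trans (one_apply_ne e).symm

abbrev B4 : Type := ZMod 2 × ZMod 2 × ZMod 2 × ZMod 2

/-- The lower block. -/
def bk (g : L5) : B4 := (g.1 3 3, g.1 3 4, g.1 4 3, g.1 4 4)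

/-- A column operation on the lower block. -/
def st (e : Bool) (p : B4) : B4 :=
  bif e then (p.1, p.2.1 + p.1, p.2.2.1, p.2.2.2 + p.2.2.1)
  else (p.1 + p.2.1, p.2.1, p.2.2.1 + p.2.2.2, p.2.2.2)

/-- The permutation of a word. -/
def sw : List Bool → Equiv.Perm (Fin 5)
  | [] => 1
  | e :: w => sw w * bif e then Equiv.swap 0 1 else Equiv.swap 1 2

theorem bk_eq_1' : type_of% @bk.eq_1 := @bk.eq_1
theorem st_eq_1' : type_of% @st.eq_1 := @st.eq_1
theorem sw_eq_1' : type_of% @sw.eq_1 := @sw.eq_1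
theorem sw_eq_2' : type_of% @sw.eq_2 := @sw.eq_2

theorem Co.mul {g : L5} (hg : Co g) {i j : Fin 5} (hij : i ≠ j) (hj : 3 ≤ j.val) :
    Co (g * tv i j) := fun a b hb => by
  rw [cmul, mul_tv _ hij, if_neg (fun e => by rw [e] at hb; omega), add_zero, hg a b hb]

theorem bk34 (g : L5) : bk (g * tv 3 4) = st true (bk g) := by
  simp only [bk, st, cmul, mul_tv _ (show (3 : Fin 5) ≠ 4 by decide)]
  simp

theorem bk43 (g : L5) : bk (g * tv 4 3) = st false (bk g) := by
  simp only [bk, st, cmul, mul_tv _ (show (4 : Fin 5) ≠ 3 by decide)]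
  simp

theorem base {g : L5} (hg : Co g) (hb : bk g = (1, 0, 0, 1)) : ψ g ∈ R15 θ ψ := by
  simp only [bk, Prod.mk.injEq] at hb
  obtain ⟨b1, b2, b3, b4⟩ := hb
  have hu : Up g := fun i j e => by
    by_cases hj : j.val < 3
    · exact hg i j hj
    · fin_cases i <;> fin_cases j <;> simp_all
  refine Fr.ψ_mem_of hu fun i j hij h1 => ?_
  have hj : 3 ≤ j.val := by
    by_contra h2
    exact h1 ((hg i j (by omega)).trans (one_apply_ne hij.ne))
  have hi : i.val < 3 := by
    by_contra h2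
    have h3 : i.val < j.val := hij
    have : i = 3 := Fin.ext (by omega)
    have : j = 4 := Fin.ext (by omega)
    subst_vars
    exact h1 b2
  exact subset_closure ⟨i, j, hi, hij, Or.inr ⟨hj, rfl⟩⟩

theorem rho1 : rho 1 = id := funext J4T.rho_one

theorem La.rmul {σ τ : Equiv.Perm (Fin 5)} (hc : La θ ψ c (rho σ)) (hc' : La θ ψ c' (rho τ)) :
    La θ ψ (c * c') (rho (σ * τ)) := by
  rw [show rho (σ * τ) = rho σ ∘ rho τ from funext (J4T.rho_mul σ τ)]
  exact hc.mul hc'

theorem laL (h : Fr θ ψ) (hx : x ∈ R15 θ ψ) : La θ ψ x (rho 1) := rho1 ▸ h.la_L hx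

theorem la_w (h : Fr θ ψ) (w : List Bool) {g : L5} (hg : Co g)
    (hb : w.foldl (fun p e => st e p) (bk g) = (1, 0, 0, 1)) : La θ ψ (ψ g) (rho (sw w)) := by
  induction w generalizing g with
  | nil => exact laL h (base hg hb)
  | cons e w ih =>
    cases e
    · have := La.rmul (ih (hg.mul (i := 4) (j := 3) (by decide) (by decide)) (by rwa [bk43]))
        h.la_t43
      rwa [tt, ← map_mul, mul_assoc, tv_sq, mul_one] at this
    · have := La.rmul (ih (hg.mul (i := 3) (j := 4) (by decide) (by decide)) (by rwa [bk34]))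
        h.la_t34
      rwa [tt, ← map_mul, mul_assoc, tv_sq, mul_one] at this

set_option synthInstance.maxSize 4096 in
set_option synthInstance.maxHeartbeats 200000 in
theorem six : ∀ p q : B4, p.1 * q.1 + p.2.1 * q.2.2.1 = 1 → p.1 * q.2.1 + p.2.1 * q.2.2.2 = 0 →
    p.2.2.1 * q.1 + p.2.2.2 * q.2.2.1 = 0 → p.2.2.1 * q.2.1 + p.2.2.2 * q.2.2.2 = 1 →
    ∃ w ∈ [[], [true], [false], [true, false], [false, true], [true, false, true]],
      w.foldl (fun p e => st e p) p = (1, 0, 0, 1) ∧ sw w 3 = 3 ∧ sw w 4 = 4 ∧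
        (sw w = 1 → w = []) := by decide +kernel

theorem la_g (h : Fr θ ψ) {g : L5} (hg : Co g) : ∃ σ : Equiv.Perm (Fin 5), σ 3 = 3 ∧ σ 4 = 4 ∧
    La θ ψ (ψ g) (rho σ) ∧ (σ = 1 → ψ g ∈ R15 θ ψ) := by
  have e : ∀ i j : Fin 5, 3 ≤ i.val →
      g.1 i 3 * (g⁻¹).1 3 j + g.1 i 4 * (g⁻¹).1 4 j = (1 : Mt) i j := fun i j hi => by
    have z : ∀ c : Fin 5, c.val < 3 → g.1 i c = 0 := fun c hc =>
      (hg i c hc).trans (one_apply_ne fun e => by rw [e] at hi; omega)
    have e3 : (g * g⁻¹).1 i j = (1 : Mt) i j := by rw [mul_inv_cancel]; rfl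
    rwa [cmul, mul_apply, Fin.sum_univ_five, z 0 (by decide), z 1 (by decide), z 2 (by decide),
      zero_mul, zero_mul, zero_mul, add_zero, add_zero, zero_add] at e3
  obtain ⟨w, -, h1, h2, h3, h4⟩ := six (bk g) (bk g⁻¹) (e 3 3 (by decide)) (e 3 4 (by decide))
    (e 4 3 (by decide)) (e 4 4 (by decide))
  refine ⟨_, h2, h3, la_w h w hg h1, fun e1 => ?_⟩
  rw [h4 e1] at h1
  exact base hg h1

theorem θL (h : Fr θ ψ) {m : Mt} (hm : Al m) (e : m 3 4 = 0) : θ m ∈ R15 θ ψ :=
  h.θ_mem_of hm fun i j hij h1 => by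
    have hi : i.val < 3 := by
      by_contra h2
      have h3 : i.val < j.val := hij
      have : i = 3 := Fin.ext (by omega)
      have : j = 4 := Fin.ext (by omega)
      subst_vars
      exact h1 e
    exact subset_closure ⟨i, j, hi, hij, Or.inl rfl⟩

theorem ib12 : ∀ σ : Equiv.Perm (Fin 5), IB σ →
    ∃ w ∈ [[], [true], [false], [true, false], [false, true], [true, false, true]],
      σ = sw w ∨ σ = Equiv.swap 3 4 * sw w := by decide +kernel

theorem ex_sw (h : Fr θ ψ) (w : List Bool) : ∃ c ∈ Ns (AA θ), La θ ψ c (rho (sw w)) := by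
  induction w with
  | nil => exact ⟨1, one_mem _, laL h (one_mem _)⟩
  | cons e w ih =>
    obtain ⟨c, hc, hl⟩ := ih
    cases e
    · exact ⟨_, mul_mem hc (h.dNψ _), La.rmul hl h.la_t43⟩
    · exact ⟨_, mul_mem hc (h.dNψ _), La.rmul hl h.la_t34⟩

end DN1

open DN1

theorem Fr.nc0 (h : Fr θ ψ) (hn : c ∈ Ns (AA θ)) (hc : c ∈ Cs (B3 θ)) :
    ∃ σ, IB σ ∧ La θ ψ c (rho σ) ∧ (σ = 1 → c ∈ R15 θ ψ) := by
  obtain ⟨m, g, hm, rfl⟩ := (h.nrm c).1 hn
  have k : ∀ ζ, g.1 * mZ ζ * g.1ᵀ = mZ ζ := fun ζ => (h.dcent m g (al_mZ ζ)).1 (h.dCZ.1 hc ζ)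
  have hg : Co g := co_of fun i j hi hj => by
    obtain ⟨ζ, e⟩ : ∃ ζ, wm i j = mZ ζ := by revert i j; decide +kernel
    rw [e, k]
  obtain ⟨σ, h3, h4, hl, h1⟩ := la_g h hg
  by_cases e : m 3 4 = 0
  · refine ⟨σ, ⟨Or.inl h3, Or.inr h4⟩, ?_, fun e1 => mul_mem (θL h hm e) (h1 e1)⟩
    simpa using La.rmul (laL h (θL h hm e)) hl
  · have e1 : (m + wm 3 4) 3 4 = 0 := by rw [Matrix.add_apply, CA.z2' _ e]; decide
    have e2 : θ m = θ (m + wm 3 4) * ww θ 3 4 := by
      rw [ww, ← h.add, add_assoc, CA.madd, add_zero]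
    have e3 : (Equiv.swap 3 4 * σ : Equiv.Perm (Fin 5)) 3 = 4 := by
      rw [Equiv.Perm.mul_apply, h3]; decide
    refine ⟨Equiv.swap 3 4 * σ, ⟨Or.inr e3, Or.inl (by rw [Equiv.Perm.mul_apply, h4]; decide)⟩, ?_,
      fun e4 => absurd e3 (by rw [e4]; decide)⟩
    rw [e2]
    simpa using La.rmul (La.rmul (laL h (θL h (hm.add (al_wm 3 4)) e1)) h.la_w34) hl

theorem Fr.ncs (h : Fr θ ψ) {σ : Equiv.Perm (Fin 5)} (hσ : IB σ) :
    ∃ c ∈ Ns (AA θ), La θ ψ c (rho σ) := by
  obtain ⟨w, -, rfl | rfl⟩ := ib12 σ hσ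
  · exact ex_sw h w
  · obtain ⟨c, hc, hl⟩ := ex_sw h w
    exact ⟨_, mul_mem (le_normalizer (h.θ_mem (al_wm 3 4))) hc, La.rmul h.la_w34 hl⟩

theorem Fr.exM (h : Fr θ ψ) {p q r : Z3} (hi : Ind p q r) :
    ∃ m ∈ M3 ψ, ∀ ζ, m * θ (mZ ζ) * m⁻¹ = θ (mZ (comb p q r ζ)) := by
  simp only [← aw_tab p q r hi]
  exact ex_aw h _ _

theorem Fr.nZ (h : Fr θ ψ) (hk : k ∈ Ns (B3 θ)) : ∃ m ∈ M3 ψ, k * m⁻¹ ∈ Cs (B3 θ) := by
  choose φ hφ using fun ζ => h.dZ.1 ((mem_normalizer_iff.1 hk _).1 (h.dZ.2 ⟨ζ, rfl⟩))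
  have inj : ∀ ζ η, θ (mZ ζ) = θ (mZ η) → ζ = η := fun ζ η e =>
    mZ_inj _ _ (h.inj' (al_mZ _) (al_mZ _) e)
  have ad : ∀ ζ η, φ (ζ + η) = φ ζ + φ η := fun ζ η => inj _ _ (by
    rw [mZ_add, h.add, ← hφ, ← hφ, ← hφ, mZ_add, h.add]
    group)
  have ij : Function.Injective φ := fun ζ η e => inj _ _ (by
    have := (hφ ζ).trans ((congrArg (fun t => θ (mZ t)) e).trans (hφ η).symm)
    simpa using this)
  have h0 : φ 0 = 0 := by simpa using ad 0 0
  obtain ⟨m, hm, e⟩ := h.exM (p := φ b1) (q := φ b2) (r := φ b3) fun ζ e =>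
    ij (by rw [J4T.eq_comb ad, e, h0])
  refine ⟨m, hm, h.dCZ.2 fun ζ => ?_⟩
  obtain ⟨η, rfl⟩ := Finite.injective_iff_surjective.1 ij ζ
  conv_lhs => rw [← hφ]
  conv_rhs => rw [J4T.eq_comb ad, ← e]
  group

end Cfsg.Lib.R10
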