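import Cfsg.Agent.R10.GA
import Cfsg.Agent.R10.GB
import Cfsg.Agent.Gold.Cm

/-! Fusion of `ww 0 2` and the action of `C_{Q_s}(z)` on `Q / ⟨z⟩`. -/

set_option autoImplicit false
set_option linter.unusedVariables false
set_option linter.unusedSectionVars false

namespace Cfsg.Lib.R10.GN

open Subgroup Cfsg.Lib.Trans Cfsg.Lib.Gold Matrix

universe u

variable {G : Type u} [Group G] [Finite G] {θ : Mt → G} {ψ : L5 →* G} {S : Subgroup G}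
  {α : C1 (zz θ) →* Equiv.Perm V12}

namespace GC

theorem ent (l : Mt) (p q i j : Fin 5) (h : p ≠ q) :
    (l * wm p q * lᵀ) i j = l i p * l j q + l i q * l j p := by
  fin_cases p <;> fin_cases q <;> first | exact absurd rfl h | skip
  all_goals simp [mul_apply, Fin.sum_univ_five, wm] <;> ring

theorem pl8 : ∀ a b c d e f g h : ZMod 2,
    (a * f + e * b) * (c * h + g * d) + (a * g + e * c) * (b * h + f * d) +
      (a * h + e * d) * (b * g + f * c) = 0 := by decide +kernel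

theorem pl (l : Mt) (j k : Fin 5) : (l * wm 0 2 * lᵀ) 0 1 * (l * wm 0 2 * lᵀ) j k +
    (l * wm 0 2 * lᵀ) 0 j * (l * wm 0 2 * lᵀ) 1 k +
      (l * wm 0 2 * lᵀ) 0 k * (l * wm 0 2 * lᵀ) 1 j = 0 := by
  simp only [ent l 0 2 _ _ (by decide)]
  exact pl8 _ _ _ _ _ _ _ _

theorem pure6 : ∀ a b c d e f : ZMod 2, a * e + b * d = 0 → a * f + c * d = 0 → b * f + c * e = 0 →
    Pure ((a, (b, c, 0, 0), 0), (d, (e, f, 0, 0), 0)) := by decide +kernel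

theorem al_mU (v : V12) : Al (mU v) :=
  ⟨by ext i j; fin_cases i <;> fin_cases j <;> rfl, fun i => by fin_cases i <;> rfl⟩

theorem ep_zero (v : V12) : ep 0 v = v := by
  ext <;> simp [ep_eq_1, ep6_eq_1, bw_eq_1, qw_eq_1]

theorem ta_ep (w : W4) (v : V12) : ta (ep w v) = ep w (ta v) := by
  ext <;> simp [ep_eq_1, ep6_eq_1, bw_eq_1, qw_eq_1, ta_eq_1] <;> ring

theorem ta_ta (v : V12) : ta (ta v) = v := by
  ext <;> simp [ta_eq_1, add_assoc, CA.z2]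

/-- The transposition of `e 1` and `e 2`. -/
def p12 : L5 := tv 1 2 * tv 2 1 * tv 1 2

theorem p12_eq_1' : type_of% @p12.eq_1 := @p12.eq_1

theorem p12_val : p12.1 = !![1, 0, 0, 0, 0; 0, 0, 1, 0, 0; 0, 1, 0, 0, 0; 0, 0, 0, 1, 0; 0, 0, 0, 0, 1] := by
  decide +kernel

theorem p12_inv : p12⁻¹ = p12 :=
  inv_eq_of_mul_eq_one_right (Subtype.ext (by decide +kernel : p12.1 * p12.1 = 1))

theorem p12_T : p12.1ᵀ = p12.1 := by decide +kernel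

theorem p12_ent (m : Mt) (i j : Fin 5) :
    (p12.1 * m * p12.1) i j = m (Equiv.swap 1 2 i) (Equiv.swap 1 2 j) := by
  rw [p12_val]
  fin_cases i <;> fin_cases j <;> 
    simp [mul_apply, Fin.sum_univ_five, Equiv.swap_apply_def, vecMul, dotProduct]

theorem cw (h : Fr θ ψ) (i j : Fin 5) : ww θ i j ∈ C1 (zz θ) := mem_C1.2 (h.comm _ _)

theorem ct (h : Fr θ ψ) {l : L5} (e : l.1 * wm 0 1 * l.1ᵀ = wm 0 1) : ψ l ∈ C1 (zz θ) :=
  mem_C1.2 (by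
    have := h.act' l (al_wm 0 1)
    rwa [e] at this)

theorem mw (h : Fr θ ψ) {i j k l : Fin 5} (hi : i.val < 2)
    (e : p12.1 * wm i j * p12.1ᵀ = wm k l) : ww θ k l ∈ cj (ψ p12) (QQ θ ψ) := by
  have := h.act p12 _ (al_wm i j)
  rw [e] at this
  change θ (wm k l) ∈ _
  rw [← this]
  exact conj_mem_cj.2 (h.θ_mem_QQ (u7_wm i j hi))

theorem mt (h : Fr θ ψ) {i j k l : Fin 5} (hi : i.val < 2) (hj : 2 ≤ j.val)
    (e : p12.1 * tm i j * p12.1 = tm k l) : tt ψ k l ∈ cj (ψ p12) (QQ θ ψ) := by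
  have : p12 * tv i j * p12⁻¹ = tv k l := by rw [p12_inv]; exact Subtype.ext e
  change ψ (tv k l) ∈ _
  rw [← this, map_mul, map_mul, map_inv]
  exact conj_mem_cj.2 (Fr.ψ_mem_QQ (rr_tv i j hi hj))

/-- The elements acting as a Siegel transformation, possibly followed by `ta`. -/
def Gd (α : C1 (zz θ) →* Equiv.Perm V12) : Subgroup (C1 (zz θ)) :=
  CA.mkSub (fun x => ∃ w, (∀ v, α x v = ep w v) ∨ ∀ v, α x v = ta (ep w v))
    ⟨0, Or.inl fun v => by rw [map_one, ep_zero]; rfl⟩ fun a b ⟨w, ha⟩ ⟨w', hb⟩ => ⟨w + w', by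
      simp only [map_mul, Equiv.Perm.mul_apply, ep_add]
      rcases ha with ha | ha <;> rcases hb with hb | hb
      · exact Or.inl fun v => by rw [ha, hb]
      · exact Or.inr fun v => by rw [ha, hb, ta_ep w]
      · exact Or.inr fun v => by rw [ha, hb]
      · exact Or.inl fun v => by rw [ha, hb, ← ta_ep w, ta_ta]⟩

theorem Gd_eq_1' : type_of% @Gd.eq_1 := @Gd.eq_1

theorem mem_Gd {x : C1 (zz θ)} :
    x ∈ Gd α ↔ ∃ w, (∀ v, α x v = ep w v) ∨ ∀ v, α x v = ta (ep w v) := Iff.rfl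

theorem good (h : Fr θ ψ) (hα : Ind θ ψ α) {x : C1 (zz θ)}
    (hx : (x : G) ∈ cj (ψ p12) (QQ θ ψ)) : x ∈ Gd α := by
  obtain ⟨m, l, hm, hl, e⟩ := h.mem_QQ.1 (mem_cj.1 hx)
  have am : Al (p12.1 * m * p12.1ᵀ) := hm.1.act _
  have e1 : (x : G) = θ (p12.1 * m * p12.1ᵀ) * ψ (p12 * l * p12⁻¹) := by
    rw [← h.act p12 m hm.1, map_mul, map_mul, map_inv, conj_mul, ← e]
    group
  have le : ∀ i j, (p12 * l * p12⁻¹).1 i j = l.1 (Equiv.swap 1 2 i) (Equiv.swap 1 2 j) :=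
    fun i j => by rw [p12_inv]; exact p12_ent l.1 i j
  have c1 : ψ (p12 * l * p12⁻¹) ∈ C1 (zz θ) :=
    (mul_mem_cancel_left (mem_C1.2 (h.comm _ _))).1 (e1 ▸ x.2)
  generalize p12 * l * p12⁻¹ = k at e1 le c1
  have c2 : k.1 * wm 0 1 * k.1ᵀ = wm 0 1 := h.inj' ((al_wm 0 1).act _) (al_wm 0 1) (by
    rw [← h.act k _ (al_wm 0 1)]
    exact mul_inv_eq_iff_eq_mul.2 (mem_C1.1 c1))
  have l12 : l.1 1 2 = 0 := by
    have := congrFun (congrFun c2 0) 2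
    rw [ent _ 0 1 0 2 (by decide), le, le, le, le] at this
    have a1 := hl 0 0 (by decide)
    have a2 := hl 1 0 (by decide)
    simp only [Equiv.swap_apply_def] at this
    simp at a1 a2 this
    rw [a1, a2] at this
    simpa [wm] using this
  have up : Up k := fun i j hij => by
    rw [le]
    by_cases c : i = 2 ∧ j = 1
    · obtain ⟨rfl, rfl⟩ := c
      exact l12
    · rw [hl _ _ (by revert i j; decide)]
      simp only [one_apply, EmbeddingLike.apply_eq_iff_eq]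
  have mQ : ∀ y ∈ QQ θ ψ, y ∈ (Gd α).map (C1 (zz θ)).subtype := fun y hy =>
    ⟨⟨y, QQ_le h hy⟩, ⟨0, Or.inl fun v => by rw [hα.of_Q h hy, ep_zero]; rfl⟩, rfl⟩
  have k1 : θ (p12.1 * m * p12.1ᵀ) ∈ (Gd α).map (C1 (zz θ)).subtype :=
    h.θ_mem_of am fun i j hij hn => by
      rw [p12_T, p12_ent] at hn
      have c : i.val < 2 ∨ (i = 2 ∧ j = 3) ∨ (i = 2 ∧ j = 4) := by
        by_contra c
        refine hn (hm.2 _ _ ?_ ?_) <;> clear hn <;> revert i j <;> decide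
      rcases c with c | ⟨rfl, rfl⟩ | ⟨rfl, rfl⟩
      · exact mQ _ (h.θ_mem_QQ (u7_wm i j c))
      · exact ⟨⟨_, cw h 2 3⟩, ⟨_, Or.inl (hα.ww23 h rfl)⟩, rfl⟩
      · exact ⟨⟨_, cw h 2 4⟩, ⟨_, Or.inl (hα.ww24 h rfl)⟩, rfl⟩
  have k2 : ψ k ∈ (Gd α).map (C1 (zz θ)).subtype :=
    Fr.ψ_mem_of up fun i j hij hn => by
      rw [le] at hn
      have c : (i.val < 2 ∧ 2 ≤ j.val) ∨ (i = 0 ∧ j = 1) ∨ (i = 2 ∧ j = 3) ∨ (i = 2 ∧ j = 4) := by
        by_contra c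
        refine hn ((hl _ _ ?_).trans ?_) <;> clear hn <;> revert i j <;> decide
      rcases c with c | ⟨rfl, rfl⟩ | ⟨rfl, rfl⟩ | ⟨rfl, rfl⟩
      · exact mQ _ (Fr.ψ_mem_QQ (rr_tv i j c.1 c.2))
      · exact ⟨⟨_, ct h (l := tv 0 1) (by decide +kernel)⟩,
          ⟨0, Or.inr fun v => by rw [ep_zero]; exact hα.tt01 h rfl v⟩, rfl⟩
      · exact ⟨⟨_, ct h (l := tv 2 3) (by decide +kernel)⟩, ⟨_, Or.inl (hα.tt23 h rfl)⟩, rfl⟩
      · exact ⟨⟨_, ct h (l := tv 2 4) (by decide +kernel)⟩, ⟨_, Or.inl (hα.tt24 h rfl)⟩, rfl⟩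
  obtain ⟨y, hy, e2⟩ := mul_mem k1 k2
  rwa [show x = y from Subtype.ext (e1.trans e2.symm)]

theorem key (h : Fr θ ψ) (hQ : LXQ θ ψ) (hα : Ind θ ψ α) (g : C1 (zz θ)) (e : α g s0 = s0)
    {x : C1 (zz θ)} (hx : (x : G) ∈ cj (ψ p12) (QQ θ ψ)) :
    ∃ w', (∀ v, α g (α x v) = ep w' (α g v)) ∨ ∀ v, α g (α x v) = ta (ep w' (α g v)) := by
  obtain ⟨q, hq, k, -⟩ := hα.lift h e
  have e1 : α g = α (g * q) := by rw [map_mul, hα.of_Q h hq, mul_one]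
  rw [e1]
  generalize g * q = g at k
  have e2 : ψ p12 * zz θ * (ψ p12)⁻¹ = ww θ 0 2 :=
    (h.act p12 _ (al_wm 0 1)).trans (congrArg θ (by decide +kernel))
  have k2 : (g : G) ∈ Ns (cj (ψ p12) (QQ θ ψ)) := by
    rw [← e2, ← cj_C1] at k
    rw [← cj_Ns]
    exact cj_mono _ hQ.pre.norm k
  obtain ⟨w, hw⟩ := good h hα (x := g * x * g⁻¹) (mem_normalizer_conj k2 hx)
  have e3 : ∀ v, α g (α x v) = α (g * x * g⁻¹) (α g v) := fun v => by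
    rw [← Equiv.Perm.mul_apply, ← Equiv.Perm.mul_apply, ← map_mul, ← map_mul, inv_mul_cancel_right]
  exact ⟨w, hw.imp (fun k v => by rw [e3, k]) fun k v => by rw [e3, k]⟩

theorem ex (h : Fr θ ψ) (hα : Ind θ ψ α) (w : W4) :
    ∃ x : C1 (zz θ), (x : G) ∈ cj (ψ p12) (QQ θ ψ) ∧ ∀ v, α x v = ep w v := by
  let P : W4 → Prop := fun w =>
    ∃ x : C1 (zz θ), (x : G) ∈ cj (ψ p12) (QQ θ ψ) ∧ ∀ v, α x v = ep w v
  have ad : ∀ {a b}, P a → P b → P (a + b) := fun ⟨x, x1, x2⟩ ⟨y, y1, y2⟩ =>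
    ⟨x * y, mul_mem x1 y1, fun v => by rw [map_mul, Equiv.Perm.mul_apply, x2, y2, ep_add]⟩
  have sm : ∀ (c : K2) {a}, P a → P (c • a) := fun c a ha => by
    by_cases c0 : c = 0
    · rw [c0, zero_smul]
      exact ⟨1, one_mem _, fun v => by rw [map_one, ep_zero]; rfl⟩
    · rwa [CA.z2' c c0, one_smul]
  have p1 : P (1, 0, 0, 0) :=
    ⟨⟨_, cw h 2 3⟩, mw h (i := 1) (j := 3) (by decide) (by decide +kernel), hα.ww23 h rfl⟩
  have p2 : P (0, 1, 0, 0) :=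
    ⟨⟨_, cw h 2 4⟩, mw h (i := 1) (j := 4) (by decide) (by decide +kernel), hα.ww24 h rfl⟩
  have p3 : P (0, 0, 1, 0) := ⟨⟨_, ct h (l := tv 2 3) (by decide +kernel)⟩,
    mt h (i := 1) (j := 3) (k := 2) (l := 3) (by decide) (by decide) (by decide +kernel),
    hα.tt23 h rfl⟩
  have p4 : P (0, 0, 0, 1) := ⟨⟨_, ct h (l := tv 2 4) (by decide +kernel)⟩,
    mt h (i := 1) (j := 4) (k := 2) (l := 4) (by decide) (by decide) (by decide +kernel),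
    hα.tt24 h rfl⟩
  have := ad (ad (ad (sm w.1 p1) (sm w.2.1 p2)) (sm w.2.2.1 p3)) (sm w.2.2.2 p4)
  rwa [show w.1 • ((1, 0, 0, 0) : W4) + w.2.1 • ((0, 1, 0, 0) : W4) + w.2.2.1 • ((0, 0, 1, 0) : W4) +
    w.2.2.2 • ((0, 0, 0, 1) : W4) = w by ext <;> simp] at this

end GC

open GC

theorem Ind.fus (h : Fr θ ψ) (hS : Sy θ ψ S) (hα : Ind θ ψ α) (g : C1 (zz θ)) (e : InU (α g s0)) :
    Pure (α g s0) := by
  have k := hα g s0
  rw [qe_s0 h] at k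
  generalize α g s0 = v at e k
  obtain ⟨⟨a, ⟨b, c, x1⟩, x2⟩, ⟨d, ⟨e', f, y1⟩, y2⟩⟩ := v
  obtain ⟨⟨rfl, rfl⟩, ⟨rfl, rfl⟩⟩ : (x1 = 0 ∧ x2 = 0) ∧ (y1 = 0 ∧ y2 = 0) := e
  have q1 : qe θ ψ ((a, (b, c, 0), 0), (d, (e', f, 0), 0)) =
      θ (mU ((a, (b, c, 0), 0), (d, (e', f, 0), 0))) := by
    have : gR ((a, (b, c, 0), 0), (d, (e', f, 0), 0)) = 1 :=
      Subtype.ext (by ext i j; fin_cases i <;> fin_cases j <;> rfl)
    rw [qe_eq_1, this, map_one, mul_one]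
  obtain ⟨M, hM, k1, k2⟩ : ∃ M, Al M ∧ g * ww θ 0 2 * (g : G)⁻¹ = θ M ∧
      (M = mU ((a, (b, c, 0), 0), (d, (e', f, 0), 0)) ∨
        M = mU ((a, (b, c, 0), 0), (d, (e', f, 0), 0)) + wm 0 1) := by
    rcases k with k | k
    · exact ⟨_, al_mU _, k.trans q1, Or.inl rfl⟩
    · exact ⟨_, (al_mU _).add (al_wm 0 1), by rw [k, q1, h.add]; rfl, Or.inr rfl⟩
  obtain ⟨n, hn, k3⟩ := hS.fus (zpowers (ww θ 0 2)) g (zpowers_le.2 (h.θ_mem (al_wm 0 2)))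
    (by rw [cj_zpowers, k1]; exact zpowers_le.2 (h.θ_mem hM))
  obtain ⟨m, l, hm, rfl⟩ := (h.nrm n).1 hn
  have k4 : M = l.1 * wm 0 2 * l.1ᵀ := h.inj' hM ((al_wm 0 2).act _) (by
    rw [← k1, k3 _ (mem_zpowers _)]
    calc _ = θ m * (ψ l * θ (wm 0 2) * (ψ l)⁻¹) * (θ m)⁻¹ := by rw [ww]; group
      _ = _ := by rw [h.act l _ (al_wm 0 2), h.comm m, mul_inv_cancel_right])
  have r1 := pl l.1 2 3
  have r2 := pl l.1 2 4
  have r3 := pl l.1 3 4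
  rw [← k4] at r1 r2 r3
  refine pure6 a b c d e' f ?_ ?_ ?_
  · rcases k2 with rfl | rfl <;> simpa [mU_eq_1, wm_ent] using r1
  · rcases k2 with rfl | rfl <;> simpa [mU_eq_1, wm_ent] using r2
  · rcases k2 with rfl | rfl <;> simpa [mU_eq_1, wm_ent] using r3

theorem Ind.rs (h : Fr θ ψ) (hQ : LXQ θ ψ) (hα : Ind θ ψ α) (g : C1 (zz θ)) (e : α g s0 = s0) (w : W4) :
    ∃ w', (∀ v, α g (ep w v) = ep w' (α g v)) ∨ ∀ v, α g (ep w v) = ta (ep w' (α g v)) := by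
  obtain ⟨x, x1, x2⟩ := ex h hα w
  simpa only [x2] using key h hQ hα g e x1

theorem Ind.rt (h : Fr θ ψ) (hQ : LXQ θ ψ) (hα : Ind θ ψ α) (g : C1 (zz θ)) (e : α g s0 = s0) :
    ∃ w', (∀ v, α g (ta v) = ep w' (α g v)) ∨ ∀ v, α g (ta v) = ta (ep w' (α g v)) := by
  have := key h hQ hα g e (x := ⟨_, ct h (l := tv 0 1) (by decide +kernel)⟩)
    (mt h (i := 0) (j := 2) (k := 0) (l := 1) (by decide) (by decide) (by decide +kernel))
  simpa only [hα.tt01 h (g := ⟨_, ct h (l := tv 0 1) (by decide +kernel)⟩) rfl] using this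

end Cfsg.Lib.R10.GN
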