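import Cfsg.Agent.R10.CC

/-! Finite checks for the elementary abelian subgroups of order `2¹⁰` of `T`. -/

set_option autoImplicit false
set_option linter.unusedSectionVars false
set_option linter.unusedVariables false

namespace Cfsg.Lib.R10

open Subgroup Cfsg.Lib.Trans Cfsg.Lib.Gold Matrix CB
open scoped commutatorElement

universe u

namespace E10

def j6 (m : Mt) : V6 := ((m 0 1, m 0 2, m 0 3), (m 1 2, m 1 3, m 2 3))

def c4 (m : Mt) : V4 := (m 0 4, m 1 4, m 2 4, m 3 4)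

theorem j6_eq_1' : type_of% @j6.eq_1 := @j6.eq_1
theorem c4_eq_1' : type_of% @c4.eq_1 := @c4.eq_1

def fH (x : V6) (v : V4) : Prop :=
  x.1.1 * v.2.1 + x.1.2.1 * v.2.2.1 + x.1.2.2 * v.2.2.2 = 0 ∧
    x.2.1 * v.2.2.1 + x.2.2.1 * v.2.2.2 = 0 ∧ x.2.2.2 * v.2.2.2 = 0

def fZ (x w : V6) : Prop :=
  x.2.1 * w.2.2.2 = 0 ∧ x.2.2.1 * w.2.2.2 + (w.2.2.1 + x.2.1 * w.2.2.2) * x.2.2.2 = 0 ∧
    x.1.1 * w.2.2.1 + x.1.2.1 * w.2.2.2 = 0 ∧
    x.1.1 * w.2.1 + x.1.2.2 * w.2.2.2 + (w.1.2.2 + x.1.1 * w.2.2.1 + x.1.2.1 * w.2.2.2) * x.2.2.2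
      = 0 ∧
    x.1.2.1 * w.2.1 + x.1.2.2 * w.2.2.1 + (w.1.2.1 + x.1.1 * w.2.1 + x.1.2.2 * w.2.2.2) * x.2.1 +
      (w.1.2.2 + x.1.1 * w.2.2.1 + x.1.2.1 * w.2.2.2) * x.2.2.1 = 0

/-- The exterior product. -/
def wd (a v : V4) : V6 :=
  ((a.1 * v.2.1 + v.1 * a.2.1, a.1 * v.2.2.1 + v.1 * a.2.2.1, a.1 * v.2.2.2 + v.1 * a.2.2.2),
    (a.2.1 * v.2.2.1 + v.2.1 * a.2.2.1, a.2.1 * v.2.2.2 + v.2.1 * a.2.2.2,
      a.2.2.1 * v.2.2.2 + v.2.2.1 * a.2.2.2))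

def iv (x : V6) : Prop :=
  x.1.1 * x.2.1 = 0 ∧ x.2.1 * x.2.2.2 = 0 ∧ x.1.1 * x.2.2.1 + x.1.2.1 * x.2.2.2 = 0

instance (x : V6) : DecidablePred (fH x) := fun c => by unfold fH; infer_instance

instance (x : V6) : DecidablePred (fZ x) := fun c => by unfold fZ; infer_instance

instance : DecidablePred iv := fun c => by unfold iv; infer_instance

theorem nH : ∀ x : V6, x ≠ 0 → (Finset.univ.filter (fH x)).card ≤ 8 := by decide +kernel

theorem nH1 : ∀ x : V6, x ≠ 0 → (Finset.univ.filter (fH x)).card ≤ 4 ∨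
    (Finset.univ.filter fun y => ∀ v, fH x v → fH y v).card ≤ 8 := by decide +kernel

theorem nH2 : ∀ x : V6, x = 0 ∨ (Finset.univ.filter (fH x)).card ≤ 4 ∨ ∀ y : V6,
    (∀ v, fH x v → fH y v) ∨ (Finset.univ.filter fun v => fH x v ∧ fH y v).card ≤ 4 := by
  decide +kernel

theorem nZ : ∀ x : V6, x ≠ 0 → (Finset.univ.filter (fZ x)).card ≤ 16 := by decide +kernel

def PZ (x : V6) : Prop := x = 0 ∨ ¬ iv x ∨ ∀ y : V6, y = 0 ∨ ¬ iv y ∨ y = x ∨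
  (Finset.univ.filter fun w => fZ x w ∧ fZ y w).card ≤ 8

instance : DecidablePred PZ := fun c => by unfold PZ; infer_instance

theorem nZa : ∀ a b c d, PZ ((0, a, b), (0, c, d)) := by decide +kernel

theorem nZb : ∀ a b c d, PZ ((0, a, b), (1, c, d)) := by decide +kernel

theorem nZc : ∀ a b c d, PZ ((1, a, b), (0, c, d)) := by decide +kernel

theorem nZd : ∀ a b c d, PZ ((1, a, b), (1, c, d)) := by decide +kernel

theorem nZ2 (x : V6) : PZ x := by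
  obtain ⟨⟨p, a, b⟩, q, c, d⟩ := x
  fin_cases p <;> fin_cases q
  exacts [nZa a b c d, nZb a b c d, nZc a b c d, nZd a b c d]

theorem nI : (Finset.univ.filter iv).card ≤ 28 := by decide +kernel

theorem n4 : (Finset.univ : Finset V4).card = 16 := by decide +kernel

theorem wd0 : ∀ a v : V4, wd a v ≠ 0 ∨ a = 0 ∨ v = 0 ∨ v = a := by decide +kernel

theorem nW : ∀ a : V4, a ≠ 0 → (Finset.univ.filter fun v => wd a v = 0).card ≤ 2 := by
  decide +kernel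

end E10

end Cfsg.Lib.R10
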