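import Cfsg.Agent.R10.CA

/-! The linear model `Q / ⟨z⟩ = 2 ⊗ 6` of the action of `C(z)`. -/

set_option autoImplicit false

namespace Cfsg.Lib.R10.GN

open Subgroup Cfsg.Lib.Trans Cfsg.Lib.Gold Matrix

universe u

abbrev K2 : Type := ZMod 2

/-- Coordinates `e 3, e 4, f 3, f 4`. -/
abbrev W4 : Type := K2 × K2 × K2 × K2

/-- Coordinates `e 2`, `W4`, `f 2`. -/
abbrev S6 : Type := K2 × W4 × K2

/-- `e 0 ⊗ u + e 1 ⊗ w`. -/
abbrev V12 : Type := S6 × S6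

def bw (u v : W4) : K2 := u.1 * v.2.2.1 + u.2.1 * v.2.2.2 + u.2.2.1 * v.1 + u.2.2.2 * v.2.1

def qw (u : W4) : K2 := u.1 * u.2.2.1 + u.2.1 * u.2.2.2

def b6 (u v : S6) : K2 := u.1 * v.2.2 + u.2.2 * v.1 + bw u.2.1 v.2.1

/-- The commutator form. -/
def bf (u v : V12) : K2 := b6 u.1 v.2 + b6 u.2 v.1

def ep6 (w : W4) (u : S6) : S6 := (u.1 + bw u.2.1 w + qw w * u.2.2, u.2.1 + u.2.2 • w, u.2.2)

/-- The Siegel transformations with centre `e 2`. -/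
def ep (w : W4) (v : V12) : V12 := (ep6 w v.1, ep6 w v.2)

/-- The action of `tt 0 1`. -/
def ta (v : V12) : V12 := (v.1 + v.2, v.2)

/-- The action of the transposition of `e 0` and `e 1`. -/
def sw (v : V12) : V12 := (v.2, v.1)

def a4 (u : W4) : W4 := (u.1 + u.2.2.2, u.2.1 + u.2.2.1, u.2.2.1, u.2.2.2)

/-- The action of `ww 3 4`. -/
def a34 (v : V12) : V12 := ((v.1.1, a4 v.1.2.1, v.1.2.2), (v.2.1, a4 v.2.2.1, v.2.2.2))

/-- `e 0 ⊗ e 2`. -/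
def s0 : V12 := ((1, 0, 0), 0)

/-- `e 1 ⊗ e 2`. -/
def s1 : V12 := (0, (1, 0, 0))

/-- The image of `B3`. -/
def InP (v : V12) : Prop := v.1.2 = 0 ∧ v.2.2 = 0

/-- The orthogonal complement of the image of `B3`. -/
def PP (v : V12) : Prop := v.1.2.2 = 0 ∧ v.2.2.2 = 0

/-- `⟨e 2, e 3, e 4⟩`. -/
def U3 (u : S6) : Prop := u.2.1.2.2 = 0 ∧ u.2.2 = 0

/-- The image of `A ∩ Q`. -/
def InU (v : V12) : Prop := U3 v.1 ∧ U3 v.2

/-- Pure tensors. -/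
def Pure (v : V12) : Prop := v.1 = 0 ∨ v.2 = 0 ∨ v.1 = v.2

/-- The image in `2 ⊗ W4`. -/
def pw (v : V12) : W4 × W4 := (v.1.2.1, v.2.2.1)

instance (v : V12) : Decidable (InP v) := inferInstanceAs (Decidable (_ ∧ _))
instance (v : V12) : Decidable (PP v) := inferInstanceAs (Decidable (_ ∧ _))
instance (u : S6) : Decidable (U3 u) := inferInstanceAs (Decidable (_ ∧ _))
instance (v : V12) : Decidable (InU v) := inferInstanceAs (Decidable (_ ∧ _))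
instance (v : V12) : Decidable (Pure v) := inferInstanceAs (Decidable (_ ∨ _))

/-- What the group theory gives about the action of `C(z)`; `M` is `C(z) ∩ N(A)`. -/
structure LM0 {Γ : Type u} [Group Γ] (α : Γ →* Equiv.Perm V12) (M : Subgroup Γ) : Prop where
  add : ∀ g u v, α g (u + v) = α g u + α g v
  bf : ∀ g u v, bf (α g u) (α g v) = bf u v
  eM : ∀ w, ∃ m ∈ M, ∀ v, α m v = ep w v
  tM : ∃ m ∈ M, ∀ v, α m v = ta v
  sM : ∃ m ∈ M, ∀ v, α m v = sw v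
  aM : ∃ m ∈ M, ∀ v, α m v = a34 v
  uM : ∀ u, U3 u → u ≠ 0 → ∃ m ∈ M, α m s0 = (u, 0) ∧ α m s1 = (0, u)
  fus : ∀ g, InU (α g s0) → Pure (α g s0)
  rs : ∀ g, α g s0 = s0 → ∀ w, ∃ w', (∀ v, α g (ep w v) = ep w' (α g v)) ∨
    ∀ v, α g (ep w v) = ta (ep w' (α g v))
  rt : ∀ g, α g s0 = s0 → ∃ w', (∀ v, α g (ta v) = ep w' (α g v)) ∨
    ∀ v, α g (ta v) = ta (ep w' (α g v))

/-- The orthogonal case. -/
structure LM {Γ : Type u} [Group Γ] (α : Γ →* Equiv.Perm V12) (M : Subgroup Γ) : Prop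
    extends LM0 α M where
  ker : ∀ g, α g s0 = s0 → α g s1 = s1 → (∀ v, PP v → pw (α g v) = pw v) → ∃ w, ∀ v, α g v = ep w v
  orth : ∀ g, α g s0 = s0 → α g s1 = s1 → ∀ u, qw u = 0 → qw (pw (α g ((0, u, 0), 0))).1 = 0

/-- The part in `A` of the element of `Q` with coordinates `v`. -/
def mU (v : V12) : Mt :=
  !![0, 0, v.1.1, v.1.2.1.1, v.1.2.1.2.1;
     0, 0, v.2.1, v.2.2.1.1, v.2.2.1.2.1;
     v.1.1, v.2.1, 0, 0, 0;
     v.1.2.1.1, v.2.2.1.1, 0, 0, 0;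
     v.1.2.1.2.1, v.2.2.1.2.1, 0, 0, 0]

def mR (v : V12) : Mt :=
  !![1, 0, v.1.2.2, v.1.2.1.2.2.1, v.1.2.1.2.2.2;
     0, 1, v.2.2.2, v.2.2.1.2.2.1, v.2.2.1.2.2.2;
     0, 0, 1, 0, 0;
     0, 0, 0, 1, 0;
     0, 0, 0, 0, 1]

theorem det_mR (v : V12) : (mR v).det = 1 := by
  rw [det_of_isUpperTriangular (fun i j h => by fin_cases i <;> fin_cases j <;> first | rfl | simp at h)]
  simp [mR, Fin.prod_univ_five]

/-- The part in the complement of the element of `Q` with coordinates `v`. -/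
def gR (v : V12) : L5 := ⟨mR v, det_mR v⟩

variable {G : Type u} [Group G]

/-- The element of `Q` with coordinates `v`. -/
def qe (θ : Mt → G) (ψ : L5 →* G) (v : V12) : G := θ (mU v) * ψ (gR v)

/-- `α` is the action of `C(z)` on `Q / ⟨z⟩`. -/
def Ind (θ : Mt → G) (ψ : L5 →* G) (α : C1 (zz θ) →* Equiv.Perm V12) : Prop :=
  ∀ (g : C1 (zz θ)) v, g * qe θ ψ v * (g : G)⁻¹ = qe θ ψ (α g v) ∨
    g * qe θ ψ v * (g : G)⁻¹ = qe θ ψ (α g v) * zz θ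

theorem bw_eq_1 : type_of% @bw.eq_1 := @bw.eq_1
theorem qw_eq_1 : type_of% @qw.eq_1 := @qw.eq_1
theorem b6_eq_1 : type_of% @b6.eq_1 := @b6.eq_1
theorem bf_eq_1 : type_of% @bf.eq_1 := @bf.eq_1
theorem ep6_eq_1 : type_of% @ep6.eq_1 := @ep6.eq_1
theorem ep_eq_1 : type_of% @ep.eq_1 := @ep.eq_1
theorem ta_eq_1 : type_of% @ta.eq_1 := @ta.eq_1
theorem sw_eq_1 : type_of% @sw.eq_1 := @sw.eq_1
theorem a4_eq_1 : type_of% @a4.eq_1 := @a4.eq_1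
theorem a34_eq_1 : type_of% @a34.eq_1 := @a34.eq_1
theorem s0_eq_1 : type_of% @s0.eq_1 := @s0.eq_1
theorem s1_eq_1 : type_of% @s1.eq_1 := @s1.eq_1
theorem InP_eq_1 : type_of% @InP.eq_1 := @InP.eq_1
theorem PP_eq_1 : type_of% @PP.eq_1 := @PP.eq_1
theorem U3_eq_1 : type_of% @U3.eq_1 := @U3.eq_1
theorem InU_eq_1 : type_of% @InU.eq_1 := @InU.eq_1
theorem Pure_eq_1 : type_of% @Pure.eq_1 := @Pure.eq_1
theorem pw_eq_1 : type_of% @pw.eq_1 := @pw.eq_1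
theorem mU_eq_1 : type_of% @mU.eq_1 := @mU.eq_1
theorem mR_eq_1 : type_of% @mR.eq_1 := @mR.eq_1
theorem gR_eq_1 : type_of% @gR.eq_1 := @gR.eq_1
theorem qe_eq_1 : type_of% @qe.eq_1 := @qe.eq_1
theorem Ind_eq_1 : type_of% @Ind.eq_1 := @Ind.eq_1

end Cfsg.Lib.R10.GN
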