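import Cfsg.Agent.R10.GD

/-! Finite checks in the linear model. -/

set_option autoImplicit false
set_option maxRecDepth 100000
set_option synthInstance.maxSize 4096
set_option synthInstance.maxHeartbeats 400000

namespace Cfsg.Lib.R10.GN

abbrev W8 : Type := W4 × W4

abbrev M4 : Type := W4 × W4 × W4 × W4

def rh (v : V12) : V12 := (v.2, v.1 + v.2)

def r2 (y : W8) : W8 := (y.2, y.1 + y.2)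

def b2 (y z : W8) : K2 := bw y.1 z.2 + bw y.2 z.1

def lin (g : M4) (u : W4) : W4 := u.1 • g.1 + u.2.1 • g.2.1 + u.2.2.1 • g.2.2.1 + u.2.2.2 • g.2.2.2

def l2 (g : M4) (y : W8) : W8 := (lin g y.1, lin g y.2)

def i4 : M4 := ((1, 0, 0, 0), (0, 1, 0, 0), (0, 0, 1, 0), (0, 0, 0, 1))

def a2 (y : W8) : W8 := (a4 y.1, a4 y.2)

/-- Both components are orthogonal to `w`. -/
def Pe (w : W4) (y : W8) : Prop := bw y.1 w = 0 ∧ bw y.2 w = 0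

/-- Both components are multiples of `w`. -/
def Ov (w : W4) (y : W8) : Prop := (y.1 = 0 ∨ y.1 = w) ∧ (y.2 = 0 ∨ y.2 = w)

/-- Both components lie in `⟨e 3, e 4⟩`. -/
def L0 (y : W8) : Prop := y.1.2.2 = 0 ∧ y.2.2.2 = 0

def Gd (y : W8) (g : M4) : Prop := g ≠ i4 ∧ l2 g y = y ∧ ∀ a b : W4, b2 (a, b) y = 0 →
  b2 (a, b) (r2 y) = 0 → l2 g (a, b) + (a, b) = 0 ∨ l2 g (a, b) + (a, b) = y ∨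
    l2 g (a, b) + (a, b) = r2 y ∨ l2 g (a, b) + (a, b) = r2 (r2 y)

instance (w : W4) (y : W8) : Decidable (Pe w y) := inferInstanceAs (Decidable (_ ∧ _))
instance (w : W4) (y : W8) : Decidable (Ov w y) := inferInstanceAs (Decidable (_ ∧ _))
instance (y : W8) : Decidable (L0 y) := inferInstanceAs (Decidable (_ ∧ _))
instance (y : W8) (g : M4) : Decidable (Gd y g) := inferInstanceAs (Decidable (_ ∧ _))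

/-- The orthogonal group `O₄⁺(2)`. -/
def O4L : List M4 :=
  [((0, 0, 0, 1), (0, 0, 1, 0), (0, 1, 0, 0), (1, 0, 0, 0)),
   ((0, 0, 0, 1), (0, 0, 1, 0), (0, 1, 1, 0), (1, 0, 0, 1)),
   ((0, 0, 0, 1), (0, 0, 1, 1), (1, 1, 0, 0), (1, 0, 0, 0)),
   ((0, 0, 0, 1), (0, 0, 1, 1), (1, 1, 1, 1), (1, 0, 0, 1)),
   ((0, 0, 0, 1), (1, 0, 0, 0), (0, 1, 0, 0), (0, 0, 1, 0)),
   ((0, 0, 0, 1), (1, 0, 0, 0), (1, 1, 0, 0), (0, 0, 1, 1)),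
   ((0, 0, 0, 1), (1, 0, 0, 1), (0, 1, 1, 0), (0, 0, 1, 0)),
   ((0, 0, 0, 1), (1, 0, 0, 1), (1, 1, 1, 1), (0, 0, 1, 1)),
   ((0, 0, 1, 0), (0, 0, 0, 1), (1, 0, 0, 0), (0, 1, 0, 0)),
   ((0, 0, 1, 0), (0, 0, 0, 1), (1, 0, 0, 1), (0, 1, 1, 0)),
   ((0, 0, 1, 0), (0, 0, 1, 1), (1, 1, 0, 0), (0, 1, 0, 0)),
   ((0, 0, 1, 0), (0, 0, 1, 1), (1, 1, 1, 1), (0, 1, 1, 0)),
   ((0, 0, 1, 0), (0, 1, 0, 0), (1, 0, 0, 0), (0, 0, 0, 1)),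
   ((0, 0, 1, 0), (0, 1, 0, 0), (1, 1, 0, 0), (0, 0, 1, 1)),
   ((0, 0, 1, 0), (0, 1, 1, 0), (1, 0, 0, 1), (0, 0, 0, 1)),
   ((0, 0, 1, 0), (0, 1, 1, 0), (1, 1, 1, 1), (0, 0, 1, 1)),
   ((0, 0, 1, 1), (0, 0, 0, 1), (1, 0, 0, 0), (1, 1, 0, 0)),
   ((0, 0, 1, 1), (0, 0, 0, 1), (1, 0, 0, 1), (1, 1, 1, 1)),
   ((0, 0, 1, 1), (0, 0, 1, 0), (0, 1, 0, 0), (1, 1, 0, 0)),
   ((0, 0, 1, 1), (0, 0, 1, 0), (0, 1, 1, 0), (1, 1, 1, 1)),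
   ((0, 0, 1, 1), (1, 1, 0, 0), (0, 1, 0, 0), (0, 0, 1, 0)),
   ((0, 0, 1, 1), (1, 1, 0, 0), (1, 0, 0, 0), (0, 0, 0, 1)),
   ((0, 0, 1, 1), (1, 1, 1, 1), (0, 1, 1, 0), (0, 0, 1, 0)),
   ((0, 0, 1, 1), (1, 1, 1, 1), (1, 0, 0, 1), (0, 0, 0, 1)),
   ((0, 1, 0, 0), (0, 0, 1, 0), (0, 0, 0, 1), (1, 0, 0, 0)),
   ((0, 1, 0, 0), (0, 0, 1, 0), (0, 0, 1, 1), (1, 1, 0, 0)),
   ((0, 1, 0, 0), (0, 1, 1, 0), (1, 0, 0, 1), (1, 0, 0, 0)),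
   ((0, 1, 0, 0), (0, 1, 1, 0), (1, 1, 1, 1), (1, 1, 0, 0)),
   ((0, 1, 0, 0), (1, 0, 0, 0), (0, 0, 0, 1), (0, 0, 1, 0)),
   ((0, 1, 0, 0), (1, 0, 0, 0), (1, 0, 0, 1), (0, 1, 1, 0)),
   ((0, 1, 0, 0), (1, 1, 0, 0), (0, 0, 1, 1), (0, 0, 1, 0)),
   ((0, 1, 0, 0), (1, 1, 0, 0), (1, 1, 1, 1), (0, 1, 1, 0)),
   ((0, 1, 1, 0), (0, 0, 1, 0), (0, 0, 0, 1), (1, 0, 0, 1)),
   ((0, 1, 1, 0), (0, 0, 1, 0), (0, 0, 1, 1), (1, 1, 1, 1)),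
   ((0, 1, 1, 0), (0, 1, 0, 0), (1, 0, 0, 0), (1, 0, 0, 1)),
   ((0, 1, 1, 0), (0, 1, 0, 0), (1, 1, 0, 0), (1, 1, 1, 1)),
   ((0, 1, 1, 0), (1, 0, 0, 1), (0, 0, 0, 1), (0, 0, 1, 0)),
   ((0, 1, 1, 0), (1, 0, 0, 1), (1, 0, 0, 0), (0, 1, 0, 0)),
   ((0, 1, 1, 0), (1, 1, 1, 1), (0, 0, 1, 1), (0, 0, 1, 0)),
   ((0, 1, 1, 0), (1, 1, 1, 1), (1, 1, 0, 0), (0, 1, 0, 0)),
   ((1, 0, 0, 0), (0, 0, 0, 1), (0, 0, 1, 0), (0, 1, 0, 0)),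
   ((1, 0, 0, 0), (0, 0, 0, 1), (0, 0, 1, 1), (1, 1, 0, 0)),
   ((1, 0, 0, 0), (0, 1, 0, 0), (0, 0, 1, 0), (0, 0, 0, 1)),
   ((1, 0, 0, 0), (0, 1, 0, 0), (0, 1, 1, 0), (1, 0, 0, 1)),
   ((1, 0, 0, 0), (1, 0, 0, 1), (0, 1, 1, 0), (0, 1, 0, 0)),
   ((1, 0, 0, 0), (1, 0, 0, 1), (1, 1, 1, 1), (1, 1, 0, 0)),
   ((1, 0, 0, 0), (1, 1, 0, 0), (0, 0, 1, 1), (0, 0, 0, 1)),
   ((1, 0, 0, 0), (1, 1, 0, 0), (1, 1, 1, 1), (1, 0, 0, 1)),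
   ((1, 0, 0, 1), (0, 0, 0, 1), (0, 0, 1, 0), (0, 1, 1, 0)),
   ((1, 0, 0, 1), (0, 0, 0, 1), (0, 0, 1, 1), (1, 1, 1, 1)),
   ((1, 0, 0, 1), (0, 1, 1, 0), (0, 0, 1, 0), (0, 0, 0, 1)),
   ((1, 0, 0, 1), (0, 1, 1, 0), (0, 1, 0, 0), (1, 0, 0, 0)),
   ((1, 0, 0, 1), (1, 0, 0, 0), (0, 1, 0, 0), (0, 1, 1, 0)),
   ((1, 0, 0, 1), (1, 0, 0, 0), (1, 1, 0, 0), (1, 1, 1, 1)),
   ((1, 0, 0, 1), (1, 1, 1, 1), (0, 0, 1, 1), (0, 0, 0, 1)),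
   ((1, 0, 0, 1), (1, 1, 1, 1), (1, 1, 0, 0), (1, 0, 0, 0)),
   ((1, 1, 0, 0), (0, 0, 1, 1), (0, 0, 0, 1), (1, 0, 0, 0)),
   ((1, 1, 0, 0), (0, 0, 1, 1), (0, 0, 1, 0), (0, 1, 0, 0)),
   ((1, 1, 0, 0), (0, 1, 0, 0), (0, 0, 1, 0), (0, 0, 1, 1)),
   ((1, 1, 0, 0), (0, 1, 0, 0), (0, 1, 1, 0), (1, 1, 1, 1)),
   ((1, 1, 0, 0), (1, 0, 0, 0), (0, 0, 0, 1), (0, 0, 1, 1)),
   ((1, 1, 0, 0), (1, 0, 0, 0), (1, 0, 0, 1), (1, 1, 1, 1)),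
   ((1, 1, 0, 0), (1, 1, 1, 1), (0, 1, 1, 0), (0, 1, 0, 0)),
   ((1, 1, 0, 0), (1, 1, 1, 1), (1, 0, 0, 1), (1, 0, 0, 0)),
   ((1, 1, 1, 1), (0, 0, 1, 1), (0, 0, 0, 1), (1, 0, 0, 1)),
   ((1, 1, 1, 1), (0, 0, 1, 1), (0, 0, 1, 0), (0, 1, 1, 0)),
   ((1, 1, 1, 1), (0, 1, 1, 0), (0, 0, 1, 0), (0, 0, 1, 1)),
   ((1, 1, 1, 1), (0, 1, 1, 0), (0, 1, 0, 0), (1, 1, 0, 0)),
   ((1, 1, 1, 1), (1, 0, 0, 1), (0, 0, 0, 1), (0, 0, 1, 1)),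
   ((1, 1, 1, 1), (1, 0, 0, 1), (1, 0, 0, 0), (1, 1, 0, 0)),
   ((1, 1, 1, 1), (1, 1, 0, 0), (0, 1, 0, 0), (0, 1, 1, 0)),
   ((1, 1, 1, 1), (1, 1, 0, 0), (1, 0, 0, 0), (1, 0, 0, 1))]

theorem rh_eq_1 : type_of% @rh.eq_1 := @rh.eq_1
theorem r2_eq_1 : type_of% @r2.eq_1 := @r2.eq_1
theorem b2_eq_1 : type_of% @b2.eq_1 := @b2.eq_1
theorem lin_eq_1 : type_of% @lin.eq_1 := @lin.eq_1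
theorem l2_eq_1 : type_of% @l2.eq_1 := @l2.eq_1
theorem i4_eq_1 : type_of% @i4.eq_1 := @i4.eq_1
theorem a2_eq_1 : type_of% @a2.eq_1 := @a2.eq_1
theorem Pe_eq_1 : type_of% @Pe.eq_1 := @Pe.eq_1
theorem Ov_eq_1 : type_of% @Ov.eq_1 := @Ov.eq_1
theorem L0_eq_1 : type_of% @L0.eq_1 := @L0.eq_1
theorem Gd_eq_1 : type_of% @Gd.eq_1 := @Gd.eq_1
theorem O4L_eq_1 : type_of% @O4L.eq_1 := @O4L.eq_1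

end Cfsg.Lib.R10.GN
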