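import Cfsg.Agent.R10.CA
import Cfsg.Agent.Gold.Cm
import Cfsg.Agent.Trans.Centric
import Cfsg.Agent.Local.JBasic

/-! The centraliser of `z` when `Q` is normal in it. -/

set_option autoImplicit false
set_option linter.unusedSectionVars false

namespace Cfsg.Lib.R10

open Subgroup Cfsg.Lib.Trans Cfsg.Lib.Gold Cfsg.Lib.Local Matrix
open scoped commutatorElement

universe u

namespace LX

/-- An element of order seven. -/
def g0 : L5 := ⟨!![1, 0, 0, 0, 0; 0, 1, 0, 0, 0; 0, 0, 0, 0, 1; 0, 0, 1, 0, 1; 0, 0, 0, 1, 0],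
  by decide +kernel⟩

/-- The longest element of the Weyl group of the Levi factor. -/
def n0 : L5 := ⟨!![0, 1, 0, 0, 0; 1, 0, 0, 0, 0; 0, 0, 0, 0, 1; 0, 0, 0, 1, 0; 0, 0, 1, 0, 0],
  by decide +kernel⟩

/-- The alternating matrices supported on the last three coordinates. -/
def mk (a b c : ZMod 2) : Mt := a • wm 2 3 + b • wm 2 4 + c • wm 3 4

theorem g0_eq_1' : type_of% @g0.eq_1 := @g0.eq_1
theorem n0_eq_1' : type_of% @n0.eq_1 := @n0.eq_1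
theorem mk_eq_1' : type_of% @mk.eq_1 := @mk.eq_1

theorem g0_7 : g0 ^ 7 = 1 := by decide +kernel

theorem g0_inv : g0⁻¹ = g0 ^ 6 := inv_eq_of_mul_eq_one_left (by rw [← pow_succ, g0_7])

theorem g0_z : g0.1 * wm 0 1 * g0.1ᵀ = wm 0 1 := by decide +kernel

theorem g0_w : ∀ i j : Fin 5, i.val < 2 → U7 (g0.1 * wm i j * g0.1ᵀ) := by decide +kernel

theorem g0_t : ∀ i j : Fin 5, i.val < 2 → 2 ≤ j.val → RR (g0 * tv i j * g0 ^ 6) := by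
  decide +kernel

theorem g0_row (i : Fin 5) (hi : i.val < 2) : g0.1 i = Pi.single i 1 := by
  obtain rfl | rfl : i = 0 ∨ i = 1 := by omega
  all_goals decide +kernel

theorem g0_fix : ∀ v : Fin 5 → ZMod 2, (∀ j : Fin 5, 2 ≤ j.val → (v ᵥ* g0.1) j = v j) ∨
    (∀ j : Fin 5, 2 ≤ j.val → (v ᵥ* g0.1ᵀ) j = v j) → ∀ j : Fin 5, 2 ≤ j.val → v j = 0 := by
  decide +kernel

theorem g0_orb : ∀ a b c : ZMod 2, ¬ (a = 0 ∧ b = 0 ∧ c = 0) → ∀ i j : Fin 5, 2 ≤ i.val → i < j →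
    ∃ k : Fin 7, (g0 ^ k.val).1 * mk a b c * (g0 ^ k.val).1ᵀ = wm i j := by
  decide +kernel

theorem mk_ent : ∀ a b c : ZMod 2, Al (mk a b c) ∧ mk a b c 2 3 = a ∧ mk a b c 2 4 = b ∧
    mk a b c 3 4 = c := by decide +kernel

theorem n0_inv : n0⁻¹ = n0 := inv_eq_of_mul_eq_one_left (by decide +kernel)

theorem n0_z : n0.1 * wm 0 1 * n0.1ᵀ = wm 0 1 := by decide +kernel

theorem n0_ent (g : L5) : (n0 * g * n0).1 1 0 = g.1 0 1 ∧ (n0 * g * n0).1 4 3 = g.1 2 3 ∧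
    (n0 * g * n0).1 4 2 = g.1 2 4 ∧ (n0 * g * n0).1 3 2 = g.1 3 4 := by
  have e : n0.1 = !![0, 1, 0, 0, 0; 1, 0, 0, 0, 0; 0, 0, 0, 0, 1; 0, 0, 0, 1, 0; 0, 0, 1, 0, 0] := rfl
  simp only [cmul, e]
  simp [mul_apply, Fin.sum_univ_five, vecMul, dotProduct]

theorem tv_z : ∀ i j : Fin 5, i < j → (tv i j).1 * wm 0 1 * (tv i j).1ᵀ = wm 0 1 := by
  decide +kernel

theorem wm_ent' (i j : Fin 5) (hj : 2 ≤ j.val) : wm 0 1 i j = 0 := by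
  rw [wm_ent, if_neg]
  rintro ⟨-, ⟨-, rfl⟩ | ⟨-, rfl⟩⟩ <;> exact absurd hj (by decide)

theorem row (m : Mt) {i : Fin 5} (hi : i.val < 2) : (g0.1 * m) i = m i := by
  rw [mul_apply_eq_vecMul, g0_row i hi, single_one_vecMul]
  rfl

theorem r_one {r : L5} (hr : RR r) (e : g0 * r * g0⁻¹ = r) : r = 1 := by
  rw [mul_inv_eq_iff_eq_mul] at e
  refine hr.up.ext up_one fun i j hij => ?_
  by_cases k : i.val < 2 ∧ 2 ≤ j.val
  swap
  · exact hr i j k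
  refine (g0_fix (r.1 i) (.inl fun j _ => ?_) j k.2).trans (one_apply_ne hij.ne).symm
  rw [← mul_apply_eq_vecMul, ← cmul, ← e, cmul, row _ k.1]

theorem m_z {m : Mt} (hm : U7 m)
    (e : ∀ i j : Fin 5, 2 ≤ j.val → (g0.1 * m * g0.1ᵀ) i j = m i j) : m = 0 ∨ m = wm 0 1 := by
  have k : ∀ i j : Fin 5, 2 ≤ j.val → m i j = 0 := fun i j hj => by
    by_cases hi : i.val < 2
    swap
    · exact hm.2 i j (by omega) hj
    refine g0_fix (m i) (.inr fun j hj => ?_) j hj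
    rw [← e i j hj, mul_apply_eq_vecMul, row _ hi]
  have k' : ∀ i j : Fin 5, i < j → 2 ≤ j.val ∨ (i = 0 ∧ j = 1) := by decide
  by_cases c : m 0 1 = 0
  · refine .inl (hm.1.ext al_zero fun i j hij => ?_)
    rcases k' i j hij with l | ⟨rfl, rfl⟩
    exacts [k i j l, c]
  · refine .inr (hm.1.ext (al_wm 0 1) fun i j hij => ?_)
    rcases k' i j hij with l | ⟨rfl, rfl⟩
    exacts [(k i j l).trans (wm_ent' i j l).symm, CA.z2' _ c]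

variable {G : Type u} [Group G] [Finite G] {θ : Mt → G} {ψ : L5 →* G} {S : Subgroup G}

theorem t34 : tt ψ 3 4 ∈ A1 θ ψ := mem_sup_right (subset_closure ⟨3, by decide, rfl⟩)

variable (h : Fr θ ψ)
include h

theorem cz {g : L5} (e : g.1 * wm 0 1 * g.1ᵀ = wm 0 1) : ψ g ∈ C1 (zz θ) :=
  mem_C1.2 ((h.act' g (al_wm 0 1)).trans (by rw [e]; rfl))

theorem AA_le : AA θ ≤ C1 (zz θ) := fun a ha => by
  obtain ⟨m, -, rfl⟩ := h.mem_AA.1 ha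
  exact mem_C1.2 (h.comm _ _)

theorem TT_le : TT θ ψ ≤ C1 (zz θ) := by
  refine sup_le (AA_le h) ((closure_le _).2 ?_)
  rintro _ ⟨i, j, hij, rfl⟩
  exact cz h (tv_z i j hij)

theorem conj (g : L5) {m : Mt} (hm : Al m) (r : L5) :
    ψ g * (θ m * ψ r) * (ψ g)⁻¹ = θ (g.1 * m * g.1ᵀ) * ψ (g * r * g⁻¹) := by
  rw [← h.act g m hm, map_mul, map_mul, map_inv]
  group

theorem g0_Q : ψ g0 ∈ Ns (QQ θ ψ) := by
  refine mem_normalizer_of_cj_le (map_le_iff_le_comap.2 ((closure_le _).2 ?_))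
  rintro _ ⟨i, j, hi, -, rfl | ⟨hj, rfl⟩⟩
  · change ψ g0 * θ (wm i j) * (ψ g0)⁻¹ ∈ QQ θ ψ
    rw [h.act _ _ (al_wm i j)]
    exact h.θ_mem_QQ (g0_w i j hi)
  · change ψ g0 * ψ (tv i j) * (ψ g0)⁻¹ ∈ QQ θ ψ
    rw [← map_inv, ← map_mul, ← map_mul, g0_inv]
    exact Fr.ψ_mem_QQ (g0_t i j hi hj)

theorem TT_le_S (hS : Sy θ ψ S) : TT θ ψ ≤ S := by
  rcases hS.alt with ⟨rfl, -⟩ | ⟨a, -, rfl, -⟩
  exacts [le_rfl, le_sup_left]

theorem alt (hS : Sy θ ψ S) {g : G} (hg : cj g (AA θ) ≤ S) :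
    g ∈ Ns (AA θ) ∨ cj g (AA θ) = A1 θ ψ := by
  rcases hS.alt with ⟨-, k⟩ | ⟨a, -, -, k⟩
  exacts [.inl (mem_Ns_iff.2 (k g hg)), (k g hg).imp_left mem_Ns_iff.2]

theorem mem_TT_of (hS : Sy θ ψ S) {s : G} (hs : s ∈ S) (hn : s ∈ Ns (AA θ)) : s ∈ TT θ ψ := by
  rcases hS.alt with ⟨rfl, -⟩ | ⟨a, ha, rfl, -⟩
  · exact hs
  have n : a ∈ Ns (TT θ ψ) := mem_normalizer_of_cj_le (cj_le_iff.2 fun g hg => by
    have := mul_mem (h.O14_le_TT (ha.cG g (Fr.TT_le_G01 hg))) hg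
    rwa [commutatorElement_def, inv_mul_cancel_right] at this)
  refine ((JC.mem_sup_zpowers_two n (h.O14_le_TT ha.sq)).1 hs).resolve_right fun k => ?_
  have e := mem_Ns_iff.1 ((mul_mem_cancel_right hn).1 (h.TT_le_Ns k))
  rw [ha.a01] at e
  exact absurd (h.ψ_mem (g := tv 3 4) (e ▸ t34)) (by decide +kernel)

end LX

open LX

variable {G : Type u} [Group G] [Finite G] {θ : Mt → G} {ψ : L5 →* G} {S : Subgroup G}

theorem Fr.S_le (h : Fr θ ψ) (hS : Sy θ ψ S) : S ≤ C1 (zz θ) := by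
  rcases hS.alt with ⟨rfl, -⟩ | ⟨a, ha, rfl, -⟩
  · exact TT_le h
  · exact sup_le (TT_le h) (zpowers_le.2 (Cs_le_C1 (U := Z6 θ)
      (subset_closure ⟨0, 1, by decide, by decide, rfl⟩) ha.cZ))

theorem Fr.sylC (h : Fr θ ψ) (hS : Sy θ ψ S) : IsSylowIn 2 S (C1 (zz θ)) :=
  hS.syl.mono (h.S_le hS) le_top

theorem Fr.g7 (h : Fr θ ψ) : ∃ g, g ^ 7 = 1 ∧ g ∈ C1 (zz θ) ∧ g ∈ Ns (QQ θ ψ) ∧
    ∀ x ∈ QQ θ ψ, g * x * g⁻¹ = x ∨ g * x * g⁻¹ = x * zz θ → x = 1 ∨ x = zz θ := by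
  refine ⟨ψ g0, by rw [← map_pow, g0_7, map_one], cz h g0_z, g0_Q h, fun x hx e => ?_⟩
  have c : x * zz θ = θ (wm 0 1) * x := mem_C1.1 (TT_le h (h.QQ_le_TT hx))
  obtain ⟨m, r, hm, hr, rfl⟩ := h.mem_QQ.1 hx
  rw [conj h g0 hm.1, c, ← mul_assoc, ← h.add] at e
  have k : (∀ i j : Fin 5, 2 ≤ j.val → (g0.1 * m * g0.1ᵀ) i j = m i j) ∧ g0 * r * g0⁻¹ = r := by
    rcases e with e | e
    · obtain ⟨e1, e2⟩ := h.el_inj (hm.1.act _) hm.1 e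
      exact ⟨fun i j _ => by rw [e1], e2⟩
    · obtain ⟨e1, e2⟩ := h.el_inj (hm.1.act _) ((al_wm 0 1).add hm.1) e
      exact ⟨fun i j hj => by rw [e1, Matrix.add_apply, wm_ent' i j hj, zero_add], e2⟩
  rw [r_one hr k.2, map_one, mul_one]
  rcases m_z hm k.1 with rfl | rfl
  exacts [.inl h.zero, .inr rfl]

namespace LX

variable (h : Fr θ ψ) (hS : Sy θ ψ S) {R : Subgroup G} (hR : R ≤ S) (n : C1 (zz θ) ≤ Ns R)
include h hS hR n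

theorem rr {m : Mt} (hm : Al m) {g : L5} (hx : θ m * ψ g ∈ R) : RR g := by
  have up : ∀ {m g}, Al m → θ m * ψ g ∈ R → Up g := fun {m g} hm hx => by
    obtain ⟨m', g', hm', hg', e⟩ := h.mem_TT.1
      (mem_TT_of h hS (hR hx) ((h.nrm _).2 ⟨m, g, hm, rfl⟩))
    exact (h.el_inj hm hm' e).2 ▸ hg'
  have k := mem_normalizer_conj (n (cz h n0_z)) hx
  rw [conj h n0 hm, n0_inv] at k
  obtain ⟨e1, e2, e3, e4⟩ := n0_ent g
  obtain ⟨-, -, -, -, -, a1, -, -, -, -, -, -, a4, a3, a2⟩ := (up (hm.act _) k).ent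
  exact (up hm hx).rr (e1 ▸ a1) (e2 ▸ a2) (e3 ▸ a3) (e4 ▸ a4)

theorem no34 {m : Mt} (hm : Al m) : θ m * tt ψ 3 4 ∉ R := fun k =>
  absurd (rr h hS hR n hm (g := tv 3 4) k) (by decide +kernel)

theorem le_Ns : R ≤ Ns (AA θ) := fun u hu => by
  refine (alt h hS (cj_le_of_mem_of_le (hR hu) (le_sup_left.trans (TT_le_S h hS)))).resolve_right
    fun e => ?_
  have k : u⁻¹ * tt ψ 3 4 * u ∈ AA θ := mem_cj.1 (e ▸ t34)
  have k1 := mul_mem (mem_normalizer_conj' (n (AA_le h k)) hu) (inv_mem hu)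
  obtain ⟨m, hm, e1⟩ := h.mem_AA.1 k
  refine no34 h hS hR n hm ?_
  rwa [show (u⁻¹ * tt ψ 3 4 * u)⁻¹ * u * (u⁻¹ * tt ψ 3 4 * u) * u⁻¹ =
    (u⁻¹ * tt ψ 3 4 * u)⁻¹ * tt ψ 3 4 by group, ← e1, h.inv] at k1

theorem dich (hQ : QQ θ ψ ≤ R) : C1 (zz θ) ≤ Ns (AA θ) ∨ R ≤ QQ θ ψ := by
  refine or_iff_not_imp_right.2 fun hn c hc => ?_
  obtain ⟨x, hx, hx'⟩ := SetLike.not_le_iff_exists.1 hn
  obtain ⟨m, g, hm, rfl⟩ := (h.nrm x).1 (le_Ns h hS hR n hx)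
  have hg := Fr.ψ_mem_QQ (θ := θ) (ψ := ψ) (rr h hS hR n hm hx)
  rw [mul_mem_cancel_right hg] at hx'
  rw [mul_mem_cancel_right (hQ hg)] at hx
  obtain ⟨a0, a1, a2, a3⟩ := mk_ent (m 2 3) (m 2 4) (m 3 4)
  have m1 : θ (mk (m 2 3) (m 2 4) (m 3 4)) ∈ R := by
    have := hQ (h.θ_mem_QQ ((hm.add a0).u7 (by rw [Matrix.add_apply, a1, CA.z2])
      (by rw [Matrix.add_apply, a2, CA.z2]) (by rw [Matrix.add_apply, a3, CA.z2])))
    rwa [h.add, mul_mem_cancel_left hx] at this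
  have hA : AA θ ≤ R := fun a ha => by
    obtain ⟨m', hm', rfl⟩ := h.mem_AA.1 ha
    refine h.θ_mem_of hm' fun i j hij _ => ?_
    by_cases hi : i.val < 2
    · exact hQ (h.θ_mem_QQ (u7_wm i j hi))
    obtain ⟨k, e⟩ := g0_orb _ _ _ (fun e => hx' (h.θ_mem_QQ (hm.u7 e.1 e.2.1 e.2.2))) i j
      (by omega) hij
    have := mem_normalizer_conj (n (pow_mem (cz h g0_z) k)) m1
    rwa [← map_pow, h.act _ _ a0, e] at this
  have k : cj c (AA θ) ≤ R := (cj_mono c hA).trans (mem_Ns_iff.1 (n hc)).le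
  refine (alt h hS (k.trans hR)).resolve_right fun e => no34 h hS hR n al_zero ?_
  rw [h.zero, one_mul]
  exact k (e ▸ t34)

end LX

theorem Fr.lx_of (h : Fr θ ψ) (hS : Sy θ ψ S) (hN : C1 (zz θ) ≤ Ns (QQ θ ψ))
    (card : Nat.card (QQ θ ψ) = 2 ^ 13) (sp : Local.SympPair (QQ θ ψ) (zz θ))
    (cS : ∀ s ∈ S, (∀ q ∈ QQ θ ψ, s * q = q * s) → s ∈ zpowers (zz θ)) :
    C1 (zz θ) ≤ Ns (AA θ) ∨ LXQ θ ψ := by
  have hQ : QQ θ ψ ≤ pCoreOf 2 (C1 (zz θ)) :=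
    MSS.le_pCoreOf (h.QQ_le_TT.trans (TT_le h)) hN (.of_card card)
  refine (dich h hS (MSS.pCoreOf_le_of_isSylowIn (h.sylC hS)) (MSS.self_le_normalizer_pCoreOf _)
    hQ).imp_right fun k => ⟨⟨sp, ?_, hN, fun e => ?_⟩, card, le_antisymm k hQ⟩
  · have le : Cs (QQ θ ψ) ≤ C1 (zz θ) := Cs_le_C1 sp.mem
    have z : S ⊓ Cs (QQ θ ψ) ≤ zpowers (zz θ) := fun s hs =>
      cS s hs.1 fun q hq => (mem_Cs.1 hs.2 q hq).symm
    have e := sup_map_pPrimeCore_of_sylow_central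
      ((h.sylC hS).inf_normal_of_le (le_Ns_Cs hN) le) (le.trans ((Cs_zpowers _).ge.trans (Cs_anti z)))
    have o : Oc (Cs (QQ θ ψ)) ≤ ⊥ := h.core ▸
      le_Oc_of_le_Ns (Oc_le.trans le) (le_Ns_Oc (le_Ns_Cs hN)) odd_card_Oc
    exact e.ge.trans (sup_le z (o.trans bot_le))
  · have := Subgroup.card_le_of_le e
    rw [card, Nat.card_zpowers, sp.ord] at this
    exact absurd this (by decide)

end Cfsg.Lib.R10
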