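import Cfsg.Agent.R10.Ho1
import Cfsg.Agent.R10.LX

/-! Fusion of `z` when `C(z) ≤ N(A)`. -/

set_option autoImplicit false

namespace Cfsg.Lib.R10

open Subgroup Cfsg.Lib.Trans Cfsg.Lib.Gold Matrix

universe u

variable {G : Type u} [Group G] [Finite G] {θ : Mt → G} {ψ : L5 →* G} {S : Subgroup G}

namespace Ho

variable (h : Fr θ ψ)
include h

omit [Finite G] in
theorem el_conj (m : Mt) (g : L5) {n : Mt} (hn : Al n) :
    θ m * ψ g * θ n * (θ m * ψ g)⁻¹ = θ (g.1 * n * g.1ᵀ) := by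
  rw [mul_assoc (θ m), h.act' g hn, ← mul_assoc, h.comm m, mul_assoc, mul_assoc, ← mul_assoc (θ m),
    mul_inv_cancel, mul_one]

omit [Finite G] in
theorem sq_one {m : Mt} (hm : Al m) {g : L5} (e : θ m * ψ g * (θ m * ψ g) = 1) : g * g = 1 := by
  rw [h.el_mul m g hm g, ← h.zero, ← mul_one (θ 0), ← map_one ψ] at e
  exact (h.el_inj (hm.add (hm.act _)) al_zero e).2

omit [Finite G] in
theorem cpure (hC : C1 (zz θ) ≤ Ns (AA θ)) {v w : V5} (hp : wg v w ≠ 0) :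
    C1 (θ (wg v w)) ≤ Ns (AA θ) := fun x hx => by
  obtain ⟨g, e⟩ := pure hp
  have gM : ψ g ∈ Ns (AA θ) := (h.nrm _).2 ⟨0, g, al_zero, by rw [h.zero, one_mul]⟩
  rw [← e, ← h.act g _ (al_wm 0 1)] at hx
  have : (ψ g)⁻¹ * x * ψ g ∈ C1 (zz θ) := mem_C1.2 (by
    have := mem_C1.1 hx
    change _ * θ (wm 0 1) = θ (wm 0 1) * _
    calc _ = (ψ g)⁻¹ * (x * (ψ g * θ (wm 0 1) * (ψ g)⁻¹)) * ψ g := by group
      _ = _ := by rw [this]; group)
  have k := mul_mem (mul_mem gM (hC this)) (inv_mem gM)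
  simpa only [mul_assoc, mul_inv_cancel, mul_one, mul_inv_cancel_left] using k

theorem wk (hS : Sy θ ψ S) (hC : C1 (zz θ) ≤ Ns (AA θ)) {g : G} (hg : cj g (AA θ) ≤ Ns (AA θ)) :
    g ∈ Ns (AA θ) := by
  have SM := (h.S_le hS).trans hC
  have hA : IsPGroup 2 (AA θ) := hS.syl.isPGroup.to_le (le_sup_left.trans (LX.TT_le_S h hS))
  obtain ⟨n, hn, e⟩ := (hS.syl.mono SM le_top).exists_cj_le (isPGroup_cj hA g) hg
  rw [cj_cj] at e
  rcases hS.alt with ⟨-, k⟩ | ⟨a, ha, hs, -⟩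
  · exact (mul_mem_cancel_left hn).1 (mem_Ns_iff.2 (k _ e))
  · have e := mem_Ns_iff.1 (SM (hs ▸ mem_sup_right (mem_zpowers a)))
    rw [ha.a01] at e
    exact absurd (h.ψ_mem (g := tv 3 4) (e ▸ LX.t34)) (by decide +kernel)

theorem nop (hS : Sy θ ψ S) (hC : C1 (zz θ) ≤ Ns (AA θ)) {g : G} (hg : g ∉ Ns (AA θ)) {v w : V5}
    (hp : wg v w ≠ 0) : g * θ (wg v w) * g⁻¹ ∉ AA θ := fun k => by
  refine hg ((inv_mem_iff).1 (wk h hS hC fun x hx => cpure h hC hp (mem_C1.2 ?_)))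
  obtain ⟨m, -, e⟩ := h.mem_AA.1 (mem_cj_inv.1 hx)
  obtain ⟨m', -, e'⟩ := h.mem_AA.1 k
  have := h.comm m m'
  rw [e, e'] at this
  calc _ = g⁻¹ * (g * x * g⁻¹ * (g * θ (wg v w) * g⁻¹)) * g := by group
    _ = _ := by rw [this]; group

omit [Finite G] in
theorem fixed {t : G} (tM : t ∈ Ns (AA θ)) (t2 : t * t = 1) : ∃ p q r : V5,
    t * θ (wg p q) = θ (wg p q) * t ∧ t * θ (wg p r) = θ (wg p r) * t ∧
    wg p q ≠ 0 ∧ wg p r ≠ 0 ∧ wg p (q + r) ≠ 0 := by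
  obtain ⟨m, γ, hm, rfl⟩ := (h.nrm t).1 tM
  obtain ⟨p, q, r, e1, e2, e3, k⟩ := fix3 (sq_one h hm t2)
  refine ⟨p, q, r, ?_, ?_, k⟩ <;> rw [← mul_inv_eq_iff_eq_mul, el_conj h _ _ (al_wg _ _), act_wg]
  exacts [by rw [e1, e2], by rw [e1, e3]]

omit [Finite G] in
/-- An element commuting with a conjugate of a decomposable element normalises the conjugate. -/
theorem cconj (hC : C1 (zz θ) ≤ Ns (AA θ)) {g x : G} {v w : V5} (hp : wg v w ≠ 0)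
    (e : g * θ (wg v w) * g⁻¹ * x = x * (g * θ (wg v w) * g⁻¹)) : g⁻¹ * x * g ∈ Ns (AA θ) :=
  cpure h hC hp (mem_C1.2 (by
    calc _ = g⁻¹ * (x * (g * θ (wg v w) * g⁻¹)) * g := by group
      _ = _ := by rw [← e]; group))

end Ho

open Ho

theorem Fr.fusz (h : Fr θ ψ) (hS : Sy θ ψ S) (hC : C1 (zz θ) ≤ Ns (AA θ)) (g : G)
    (tM : g * zz θ * g⁻¹ ∈ Ns (AA θ)) : g * zz θ * g⁻¹ ∈ AA θ := by
  by_contra tA
  have gM : g ∉ Ns (AA θ) := fun k => tA (mem_normalizer_conj k (h.θ_mem (al_wm 0 1)))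
  have cs : ∀ (x : G) (m : Mt), x * θ m * x⁻¹ * (x * θ m * x⁻¹) = 1 := fun x m => by
    calc _ = x * (θ m * θ m) * x⁻¹ := by group
      _ = 1 := by rw [h.sq]; group
  obtain ⟨p, q, -, e1, -, hy, -⟩ := fixed h tM (cs g _)
  have z0 : wg (Pi.single 0 1) (Pi.single 1 1) ≠ 0 := by decide +kernel
  have bM := cconj h hC z0 (g := g) (x := θ (wg p q)) (by rw [← wm01]; exact e1)
  obtain ⟨a, b, c, f1, f2, r1, r2, r3⟩ := fixed h bM (by simpa only [inv_inv] using cs g⁻¹ (wg p q))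
  have uM : ∀ m, g⁻¹ * θ (wg p q) * g * θ m = θ m * (g⁻¹ * θ (wg p q) * g) →
      g * θ m * g⁻¹ ∈ Ns (AA θ) := fun m e => cpure h hC hy (mem_C1.2 (by
    calc _ = g * (θ m * (g⁻¹ * θ (wg p q) * g)) * g⁻¹ := by group
      _ = _ := by rw [← e]; group))
  obtain ⟨m1, γ1, hm1, u1⟩ := (h.nrm _).1 (uM _ f1)
  obtain ⟨m2, γ2, hm2, u2⟩ := (h.nrm _).1 (uM _ f2)
  have s1 := sq_one h hm1 (u1 ▸ cs g _)
  have s2 := sq_one h hm2 (u2 ▸ cs g _)
  have cm : γ1 * γ2 = γ2 * γ1 := by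
    have e : g * θ (wg a b) * g⁻¹ * (g * θ (wg a c) * g⁻¹) =
        g * θ (wg a c) * g⁻¹ * (g * θ (wg a b) * g⁻¹) := by
      calc _ = g * (θ (wg a b) * θ (wg a c)) * g⁻¹ := by group
        _ = _ := by rw [h.comm]; group
    rw [u1, u2, h.el_mul _ _ hm2, h.el_mul _ _ hm1] at e
    exact (h.el_inj (hm1.add (hm2.act _)) (hm2.add (hm1.act _)) e).2
  have key : ∀ v w v' w', γ1.1 * wg v w * γ1.1ᵀ = wg v w →
      γ2.1 * wg v w * γ2.1ᵀ + wg v w = wg v' w' → wg v' w' = 0 := fun v w v' w' e e' => by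
    by_contra hp
    have c1 := cconj h hC r1 (x := θ (wg v w)) (g := g) (by
      rw [u1, ← mul_inv_eq_iff_eq_mul, el_conj h _ _ (al_wg _ _), e])
    refine nop h hS hC (fun k => gM (inv_mem_iff.1 k)) hp ?_
    rw [← e', h.add, ← el_conj h m2 _ (al_wg _ _), ← u2, inv_inv]
    have k := mul_mem (h.θ_mem (al_wg a c))
      (mem_normalizer_conj c1 (inv_mem (h.θ_mem (al_wg a c))))
    convert k using 1
    rw [show (g⁻¹ * θ (wg v w) * g)⁻¹ = g⁻¹ * θ (wg v w) * g by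
      rw [_root_.mul_inv_rev, _root_.mul_inv_rev, h.inv]; group]
    group
  rcases same s1 s2 cm key with e | e
  · refine nop h hS hC gM r2 ?_
    rw [u2, e, map_one, mul_one]; exact h.θ_mem hm2
  · refine nop h hS hC gM r3 ?_
    have : g * θ (wg a (b + c)) * g⁻¹ = g * θ (wg a b) * g⁻¹ * (g * θ (wg a c) * g⁻¹) := by
      rw [wg_add, h.add]; group
    rw [this, u1, u2, h.el_mul _ _ hm2, e, s1, map_one, mul_one]
    exact h.θ_mem (hm1.add (hm2.act _))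

end Cfsg.Lib.R10
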