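import Cfsg.Agent.R10.PD

/-! The preimage of the unipotent radical over the last column. -/

set_option autoImplicit false
set_option linter.unusedVariables false
set_option linter.unusedSectionVars false

namespace Cfsg.Lib.R10

open Subgroup Cfsg.Lib.Trans Cfsg.Lib.Gold Matrix

universe u

variable {Γ : Type u} [Group Γ] [Finite Γ] {φ : Γ →* L5} {θ : Mt → Γ}

namespace P1

theorem r4_comm {r s : L5} (h : R4 r) (h' : R4 s) : r * s = s * r := by
  obtain ⟨a0, a1, a2, a3, a4, a5⟩ := h.ent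
  obtain ⟨b0, b1, b2, b3, b4, b5⟩ := h'.ent
  obtain ⟨c0, c1, c2, c3, c4, c5, c6, c7, c8, c9⟩ := h.up.mul_ent h'.up
  obtain ⟨d0, d1, d2, d3, d4, d5, d6, d7, d8, d9⟩ := h'.up.mul_ent h.up
  refine (h.up.mul h'.up).ext (h'.up.mul h.up) fun i j hij => ?_
  fin_cases i <;> fin_cases j <;> simp_all [add_comm]

theorem r4_sq {r : L5} (h : R4 r) : r * r = 1 := by
  obtain ⟨a0, a1, a2, a3, a4, a5⟩ := h.ent
  obtain ⟨c0, c1, c2, c3, c4, c5, c6, c7, c8, c9⟩ := h.up.mul_ent h.up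
  refine (h.up.mul h.up).ext up_one fun i j hij => ?_
  fin_cases i <;> fin_cases j <;> simp_all [CA.z2]

theorem r4_col {r : L5} (h : R4 r) {m : Mt} (hm : Al m) (i : Fin 5) :
    (r.1 * m * r.1ᵀ) i 4 = m i 4 := by
  obtain ⟨a0, a1, a2, a3, a4, a5⟩ := h.ent
  obtain ⟨c0, c1, -, c3, -, -, c6, -⟩ := h.up.act_ent hm
  have e := (hm.act r.1).2 4
  have f := hm.2 4
  fin_cases i <;> simp_all

theorem r4_fix {r : L5} (h : R4 r) {m : Mt} (hm : W6 m) : r.1 * m * r.1ᵀ = m := by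
  obtain ⟨a0, a1, a2, a3, a4, a5⟩ := h.ent
  obtain ⟨c0, c1, c2, c3, c4, c5, c6, c7, c8, c9⟩ := h.up.act_ent hm.1
  have e := hm.2
  refine (hm.1.act _).ext hm.1 fun i j hij => ?_
  fin_cases i <;> fin_cases j <;> simp_all

theorem tv_T : ∀ k l : Fin 5, (tv k l).1ᵀ = (tv l k).1 := by decide +kernel

theorem tv_mul (m : Mt) {k l : Fin 5} (h : k ≠ l) (a b : Fin 5) :
    ((tv k l).1 * m) a b = m a b + if a = k then m l b else 0 := by
  have := mul_tv mᵀ h.symm b a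
  rw [← tv_T, ← transpose_mul] at this
  exact this

theorem tv_act (m : Mt) {k l : Fin 5} (h : k ≠ l) (a b : Fin 5) :
    ((tv k l).1 * m * (tv k l).1ᵀ) a b = m a b + (if a = k then m l b else 0) +
      if b = k then m a l + (if a = k then m l l else 0) else 0 := by
  rw [tv_T, mul_tv _ h.symm, tv_mul _ h, tv_mul _ h]

theorem ne4 {i : Fin 5} (hi : i.val < 4) : i ≠ 4 := fun e => by rw [e] at hi; exact absurd hi (by decide)

theorem tv_fix {i k l : Fin 5} (hk : k.val < 4) (e : l ≠ i) :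
    tv k l * tv i 4 * (tv k l)⁻¹ = tv i 4 := by
  rw [MD.tv_comm k l i 4 e (ne4 hk), mul_inv_cancel_right]

open Classical in
/-- The last column of the commutator. -/
noncomputable def be (θ : Mt → Γ) (x y : Γ) (i : Fin 5) : ZMod 2 :=
  if h : ∃ m, Al m ∧ θ m = x * y * x⁻¹ * y⁻¹ then h.choose i 4 else 0

theorem be_eq_1' : type_of% @be.eq_1.{u} := @be.eq_1.{u}

variable (h : Md φ θ) {x x' y n : Γ}
include h

theorem be_of {m : Mt} (hm : Al m) (e : θ m = x * y * x⁻¹ * y⁻¹) (i : Fin 5) :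
    be θ x y i = m i 4 := by
  have k : ∃ m, Al m ∧ θ m = x * y * x⁻¹ * y⁻¹ := ⟨m, hm, e⟩
  rw [be, dif_pos k, h.inj' k.choose_spec.1 hm (k.choose_spec.2.trans e.symm)]

theorem ex (hx : R4 (φ x)) (hy : R4 (φ y)) : ∃ m, Al m ∧ θ m = x * y * x⁻¹ * y⁻¹ :=
  (h.ker _).1 (by
    rw [map_mul, map_mul, map_mul, map_inv, map_inv, r4_comm hx hy, mul_inv_cancel_right,
      mul_inv_cancel])

theorem be_symm (hx : R4 (φ x)) (hy : R4 (φ y)) (i : Fin 5) : be θ x y i = be θ y x i := by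
  obtain ⟨m, hm, e⟩ := ex h hx hy
  rw [be_of h hm e, be_of h hm (x := y) (y := x) (by rw [← h.inv, e]; group)]

theorem be_mul (hx : R4 (φ x)) (hx' : R4 (φ x')) (hy : R4 (φ y)) (i : Fin 5) :
    be θ (x * x') y i = be θ x y i + be θ x' y i := by
  obtain ⟨m, hm, e⟩ := ex h hx hy
  obtain ⟨m', hm', e'⟩ := ex h hx' hy
  rw [be_of h hm e, be_of h hm' e', be_of h ((hm'.act (φ x).1).add hm) (x := x * x') (y := y) (by
    rw [h.add, ← h.act x m' hm', e, e']; group), Matrix.add_apply, r4_col hx hm', add_comm]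

theorem be_one (hx : φ x = 1) (hy : R4 (φ y)) (i : Fin 5) : be θ x y i = 0 := by
  obtain ⟨m, hm, rfl⟩ := (h.ker x).1 hx
  rw [be_of h (hm.add (hm.act (φ y).1)) (x := θ m) (y := y) (by
    rw [h.add, ← h.act y m hm, h.inv]; group), Matrix.add_apply, r4_col hy hm, CA.z2]

theorem be_self (i : Fin 5) : be θ x x i = 0 :=
  be_of h al_zero (by rw [h.zero]; group) i

theorem be_congr (hx : R4 (φ x)) (hy : R4 (φ y)) (e : φ x' = φ x) (i : Fin 5) :
    be θ x' y i = be θ x y i := by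
  obtain ⟨m, hm, rfl⟩ := h.diff e
  rw [be_mul h (by rw [h.phi hm]; exact r4_one) hx hy, be_one h (h.phi hm) hy, zero_add]

theorem be_conj (hx : R4 (φ x)) (hy : R4 (φ y)) {k l : Fin 5} (hk : k.val < 4) (kl : k ≠ l)
    (hn : φ n = tv k l) (e : be θ (n * x * n⁻¹) (n * y * n⁻¹) k = be θ x y k) :
    be θ x y l = 0 := by
  obtain ⟨m, hm, e1⟩ := ex h hx hy
  rw [be_of h hm e1, be_of h (hm.act (φ n).1) (by rw [← h.act n m hm, e1]; group), hn,
    tv_act m kl, if_pos rfl, if_neg (ne4 hk).symm, add_zero, add_eq_left] at e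
  rw [be_of h hm e1, e]

theorem be_tv {i j : Fin 5} (hi : i.val < 4) (hj : j.val < 4) (ij : i ≠ j) (hx : φ x = tv i 4)
    (hy : φ y = tv j 4) {l : Fin 5} (li : l ≠ i) : be θ x y l = 0 := by
  have rx : R4 (φ x) := hx ▸ r4_tv i hi
  have ry : R4 (φ y) := hy ▸ r4_tv j hj
  obtain ⟨n, hn⟩ := h.surj (tv i l)
  have e1 : φ (n * x * n⁻¹) = φ x := by
    rw [map_mul, map_mul, map_inv, hn, hx, tv_fix hi li]
  refine be_conj h rx ry hi li.symm hn ?_
  by_cases lj : l = j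
  · subst lj
    have e2 : φ (n * y * n⁻¹) = φ (y * x) := by
      rw [map_mul, map_mul, map_inv, hn, map_mul, hx, hy, MD.tv_inv,
        (MD.tv_st i l 4 ij (ne4 hj) (ne4 hi)).1]
    have r2 : R4 (φ (y * x)) := by rw [map_mul]; exact ry.mul rx
    rw [be_congr h rx (e2 ▸ r2) e1, be_symm h rx (e2 ▸ r2), be_congr h r2 rx e2,
      be_mul h ry rx rx, be_self h, add_zero, be_symm h ry rx]
  · have e2 : φ (n * y * n⁻¹) = φ y := by
      rw [map_mul, map_mul, map_inv, hn, hy, tv_fix hi lj]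
    rw [be_congr h rx (e2 ▸ ry) e1, be_symm h rx (e2 ▸ ry), be_congr h ry rx e2,
      be_symm h ry rx]

theorem red (hy : R4 (φ y)) {l : Fin 5}
    (k : ∀ i : Fin 5, i.val < 4 → ∀ x, φ x = tv i 4 → be θ x y l = 0) (hx : R4 (φ x)) :
    be θ x y l = 0 := by
  have := hx.up.mem (H := CA.mkSub (fun g => R4 g ∧ ∀ x, φ x = g → be θ x y l = 0)
    ⟨r4_one, fun x e => be_one h e hy l⟩ fun a b ha hb => ⟨ha.1.mul hb.1, fun z e => by
      obtain ⟨z₁, e1⟩ := h.surj a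
      have e2 : φ (z₁⁻¹ * z) = b := by rw [map_mul, map_inv, e1, e, inv_mul_cancel_left]
      rw [← mul_inv_cancel_left z₁ z, be_mul h (e1 ▸ ha.1) (e2 ▸ hb.1) hy, ha.2 _ e1, hb.2 _ e2,
        add_zero]⟩) fun i j hij h1 => by
    have : i.val < 4 ∧ j = 4 := by
      by_contra h2
      exact h1 ((hx i j h2).trans (one_apply_ne hij.ne))
    obtain ⟨h2, rfl⟩ := this
    exact ⟨r4_tv i h2, k i h2⟩
  exact this.2 x rfl

theorem be_zero (hx : R4 (φ x)) (hy : R4 (φ y)) (l : Fin 5) : be θ x y l = 0 := by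
  refine red h hy (fun i hi x hx => ?_) hx
  have rx : R4 (φ x) := hx ▸ r4_tv i hi
  rw [be_symm h rx hy]
  refine red h rx (fun j hj y hy => ?_) hy
  have ry : R4 (φ y) := hy ▸ r4_tv j hj
  by_cases ij : i = j
  · rw [be_congr h rx rx (by rw [hx, hy, ij]), be_self h]
  by_cases li : l = i
  · exact be_tv h hj hi (Ne.symm ij) hy hx (li ▸ ij)
  · rw [be_symm h ry rx]
    exact be_tv h hi hj ij hx hy li

end P1

open P1

theorem Md.cZ (h : Md φ θ) {x : Γ} (hx : R4 (φ x)) {m : Mt} (hm : W6 m) : x * θ m = θ m * x := by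
  rw [h.act' x hm.1, r4_fix hx hm]

theorem Md.cmZ (h : Md φ θ) {x y : Γ} (hx : R4 (φ x)) (hy : R4 (φ y)) :
    ∃ m, W6 m ∧ x * y * x⁻¹ * y⁻¹ = θ m := by
  obtain ⟨m, hm, e⟩ := ex h hx hy
  exact ⟨m, ⟨hm, fun i => by rw [← be_of h hm e, be_zero h hx hy]⟩, e.symm⟩

theorem Md.sqZ (h : Md φ θ) {x : Γ} (hx : R4 (φ x)) : ∃ m, W6 m ∧ x * x = θ m := by
  obtain ⟨m, hm, e⟩ := (h.ker (x * x)).1 (by rw [map_mul, r4_sq hx])
  refine ⟨m, ⟨hm, fun b => ?_⟩, e.symm⟩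
  obtain ⟨i, hi, ib⟩ : ∃ i : Fin 5, i.val < 4 ∧ i ≠ b := by revert b; decide
  obtain ⟨y, hy⟩ := h.surj (tv i 4)
  obtain ⟨w, hw, e1⟩ := h.cmZ hx (hy ▸ r4_tv i hi)
  have e2 : y * θ m * y⁻¹ = θ m := by
    have c := h.cZ hx hw
    have e3 : y * x * y⁻¹ = θ w * x := by rw [← h.inv, ← e1]; group
    calc _ = y * x * y⁻¹ * (y * x * y⁻¹) := by rw [e]; group
      _ = θ w * (x * θ w) * x := by rw [e3]; group
      _ = _ := by rw [c, ← mul_assoc, h.sq, one_mul, e]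
  rw [h.act y m hm, hy] at e2
  have e4 := congrFun (congrFun (h.inj' (hm.act _) hm e2) i) b
  rw [tv_act m (ne4 hi), if_pos rfl, if_neg ib.symm, add_zero, add_eq_left] at e4
  rw [hm.symm, e4]

theorem P1.sq_mul (h : Md φ θ) {x : Γ} {m n : Mt} (e : x * x = θ m) (hn : Al n) :
    θ n * x * (θ n * x) = θ (n + (φ x).1 * n * (φ x).1ᵀ + m) := by
  rw [h.add, h.add, ← h.act x n hn, ← e]; group

theorem Md.inv4 (h : Md φ θ) (i : Fin 5) (hi : i.val < 4) : ∃ x, φ x = tv i 4 ∧ x * x = 1 := by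
  obtain ⟨x, hx⟩ := h.surj (tv i 4)
  obtain ⟨m, hm, e⟩ := h.sqZ (hx ▸ r4_tv i hi)
  have k : ∀ a b, a ≠ i → b ≠ i → m a b = 0 := fun a b ai bi => by
    by_cases ab : a = b
    · rw [ab, hm.1.2]
    by_cases a4 : a = 4
    · rw [a4, hm.1.symm, hm.2]
    by_cases b4 : b = 4
    · rw [b4, hm.2]
    obtain ⟨c, hc, ci, ca, cb⟩ : ∃ c : Fin 5, c.val < 4 ∧ c ≠ i ∧ c ≠ a ∧ c ≠ b := by
      clear hx; revert a b i; decide
    obtain ⟨n, hn⟩ := h.surj (tv c a)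
    obtain ⟨w, hw, e1⟩ := h.diff (x := n * x * n⁻¹) (y := x) (by
      rw [map_mul, map_mul, map_inv, hn, hx, tv_fix hc ai])
    have e2 := sq_mul h e hw
    rw [← e1, show n * x * n⁻¹ * (n * x * n⁻¹) = n * (x * x) * n⁻¹ by group, e, h.act n m hm.1, hn,
      hx] at e2
    have e3 := congrFun (congrFun (h.inj' (hm.1.act _) ((hw.add (hw.act _)).add hm.1) e2) c) b
    rw [Matrix.add_apply, Matrix.add_apply, tv_act m ca, tv_act w (ne4 hi), if_pos rfl,
      if_neg cb.symm, if_neg ci, if_neg bi, add_zero, add_zero, add_zero, CA.z2, zero_add,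
      add_eq_left] at e3
    exact e3
  have hn := Ho.al_wg (m i) (Pi.single 4 1)
  refine ⟨θ (Ho.wg (m i) (Pi.single 4 1)) * x, by rw [map_mul, h.phi hn, one_mul, hx], ?_⟩
  rw [sq_mul h e hn, hx, ← h.zero]
  congr 1
  ext a b
  rw [Matrix.add_apply, Matrix.add_apply, tv_act _ (ne4 hi), hn.2 4, hn.symm b 4, ite_self, add_zero,
    ← add_assoc, ← add_assoc, CA.z2, zero_add, Ho.wg_ent, Ho.wg_ent, hm.2 i, mul_zero, mul_zero,
    Pi.single_eq_same, mul_one, mul_one, add_zero, add_zero]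
  by_cases ai : a = i <;> by_cases bi : b = i
  · rw [if_pos ai, if_pos bi, ai, bi, CA.z2, zero_add, hm.1.2]; rfl
  · rw [if_pos ai, if_neg bi, ai, add_zero, CA.z2]; rfl
  · rw [if_neg ai, if_pos bi, bi, zero_add, hm.1.symm a i, CA.z2]; rfl
  · rw [if_neg ai, if_neg bi, k a b ai bi]; rfl

end Cfsg.Lib.R10
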