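import Cfsg.Agent.R10.P1

/-! Commutators of involutions over the transvections of the last column. -/

set_option autoImplicit false
set_option linter.unusedSectionVars false

namespace Cfsg.Lib.R10

open Subgroup Cfsg.Lib.Trans Cfsg.Lib.Gold Matrix

universe u

variable {Γ : Type u} [Group Γ] [Finite Γ] {φ : Γ →* L5} {θ : Mt → Γ}

namespace P1b

open Ho

theorem tv_tr : ∀ k l : Fin 5, (tv k l).1ᵀ = (tv l k).1 := by decide +kernel

theorem act {k l : Fin 5} (kl : k ≠ l) {n : Mt} (hn : Al n) :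
    (tv k l).1 * n * (tv k l).1ᵀ + n = wg (Pi.single k 1) fun a => n a l := by
  have e : ∀ a b, ((tv k l).1 * n) a b = n a b + if a = k then n b l else 0 := fun a b => by
    rw [← transpose_apply ((tv k l).1 * n), transpose_mul, hn.1, tv_tr, mul_tv _ kl.symm,
      hn.symm a b]
  ext a b
  rw [Matrix.add_apply, tv_tr, mul_tv _ kl.symm, e, e, hn.2, ite_self, add_zero, wg_ent,
    Pi.single_apply, Pi.single_apply, add_assoc (n a b), add_right_comm (n a b), CA.z2, zero_add]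
  split_ifs <;> simp

theorem wg_wm : ∀ i j : Fin 5, i ≠ j → wg (Pi.single j 1) (Pi.single i 1) = wm i j := by
  decide +kernel

theorem wm_symm : ∀ i j : Fin 5, wm j i = wm i j := by decide +kernel

theorem pick : ∀ i j a l : Fin 5, i.val < 4 ∧ j.val < 4 ∧ i ≠ j ∧ l ≠ 4 ∧ l ≠ i ∧ l ≠ j →
    ∃ k : Fin 5, k ≠ 4 ∧ k ≠ l ∧ k ≠ a ∧ wm i j k a = 0 := by decide +kernel

theorem back : ∀ i k j : Fin 5, i ≠ j ∧ k ≠ j ∧ i ≠ k →
    (tv i k).1 * wm k j * (tv i k).1ᵀ = wm i j + wm k j := by decide +kernel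

/-- Two involutions over the same transvection. -/
theorem dif (h : Md φ θ) {i j : Fin 5} (hi : i ≠ 4) (hj : j ≠ 4) (ij : i ≠ j) {x x' : Γ}
    (hx : φ x = tv i 4) (hx' : φ x' = tv i 4) (x2 : x * x = 1) (x2' : x' * x' = 1) :
    ∃ n, Al n ∧ x' = θ n * x ∧ ((tv j 4).1 * n * (tv j 4).1ᵀ + n = 0 ∨
      (tv j 4).1 * n * (tv j 4).1ᵀ + n = wm i j) := by
  obtain ⟨n, hn, rfl⟩ := h.diff (hx'.trans hx.symm)
  refine ⟨n, hn, rfl, ?_⟩
  rw [mul_assoc, ← mul_assoc x, h.act' x hn, mul_assoc, x2, mul_one, ← h.add, hx, add_comm] at x2'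
  have e := h.inj _ ((hn.act _).add hn) x2'
  rw [act hi hn] at e
  rw [act hj hn]
  rcases wg_zero e with e | e | e
  · exact absurd (congrFun e i) (by simp)
  · left
    rw [e]
    ext a b
    simp [wg_ent]
  · right
    rw [← e, wg_wm i j ij]

theorem chg (h : Md φ θ) {i j : Fin 5} (hi : i ≠ 4) (hj : j ≠ 4) (ij : i ≠ j) {x x' y y' : Γ}
    (hx : φ x = tv i 4) (hx' : φ x' = tv i 4) (x2 : x * x = 1) (x2' : x' * x' = 1)
    (hy : φ y = tv j 4) (hy' : φ y' = tv j 4) (y2 : y * y = 1) (y2' : y' * y' = 1) {c c' : Mt}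
    (hc : Al c) (hc' : Al c') (e : x * y * x⁻¹ * y⁻¹ = θ c) (e' : x' * y' * x'⁻¹ * y'⁻¹ = θ c') :
    c' + c = 0 ∨ c' + c = wm i j := by
  obtain ⟨n, hn, k, h1⟩ := dif h hi hj ij hx hx' x2 x2'
  obtain ⟨m, hm, rfl, h2⟩ := dif h hj hi ij.symm hy hy' y2 y2'
  have a1 := h.act x' m hm
  have a2 := h.act y n hn
  rw [hx'] at a1
  rw [hy] at a2
  have e1 : x' * (θ m * y) * x'⁻¹ * (θ m * y)⁻¹ = x' * θ m * x'⁻¹ * (θ n * (x * y * x⁻¹ * y⁻¹) *
      (y * (θ n)⁻¹ * y⁻¹)) * (θ m)⁻¹ := by rw [k]; group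
  rw [e', e, h.inv, h.inv, a1, a2, ← h.add, ← h.add, ← h.add, ← h.add] at e1
  have e2 := h.inj' hc' (((hm.act _).add ((hn.add hc).add (hn.act _))).add hm) e1
  have e3 : c' + c = ((tv j 4).1 * n * (tv j 4).1ᵀ + n) + ((tv i 4).1 * m * (tv i 4).1ᵀ + m) +
      (c + c) := by rw [e2]; abel
  rw [CA.madd, add_zero] at e3
  rw [wm_symm i j] at h2
  rcases h1 with h1 | h1 <;> rcases h2 with h2 | h2 <;> rw [e3, h1, h2] <;>
    simp only [add_zero, zero_add, CA.madd, true_or, or_true]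

end P1b

open P1b

theorem Md.pr (h : Md φ θ) {i j : Fin 5} (hi : i.val < 4) (hj : j.val < 4) (ij : i ≠ j) {x y : Γ}
    (hx : φ x = tv i 4) (hy : φ y = tv j 4) (x2 : x * x = 1) (y2 : y * y = 1) :
    x * y = y * x ∨ x * y * x⁻¹ * y⁻¹ = θ (wm i j) := by
  obtain ⟨c, hc, e⟩ := h.cmZ (hx ▸ r4_tv i hi) (hy ▸ r4_tv j hj)
  have z : ∀ a l, l ≠ i → l ≠ j → c a l = 0 := fun a l li lj => by
    by_cases l4 : l = 4
    · rw [l4, hc.2]
    obtain ⟨k, k4, kl, ka, kw⟩ := pick i j a l ⟨hi, hj, ij, l4, li, lj⟩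
    obtain ⟨n, hn⟩ := h.surj (tv k l)
    have f : ∀ p : Fin 5, l ≠ p → ∀ w, φ w = tv p 4 → φ (n * w * n⁻¹) = tv p 4 := fun p lp w hw => by
      rw [map_mul, map_mul, map_inv, hn, hw, MD.tv_comm k l p 4 lp k4, mul_inv_cancel_right]
    have s : ∀ w : Γ, w * w = 1 → n * w * n⁻¹ * (n * w * n⁻¹) = 1 := fun w hw => by
      rw [conj_mul, hw, mul_one, mul_inv_cancel]
    have := chg h (by omega) (by omega) ij hx (f i li x hx) x2 (s x x2) hy (f j lj y hy) y2 (s y y2)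
      hc.1 (hc.1.act (tv k l).1) e (by rw [← hn, ← h.act n c hc.1, ← e]; group)
    rw [P1b.act kl hc.1] at this
    have e1 : Ho.wg (Pi.single k 1) (fun a => c a l) k a = c a l := by simp [Ho.wg_ent, ka.symm]
    rcases this with t | t
    · rw [← e1, t]; rfl
    · rw [← e1, t, kw]
  have key : ∀ a b, c a b = c i j * wm i j a b := fun a b => by
    rw [wm_ent]
    split_ifs with h1
    · rcases h1.2 with ⟨rfl, rfl⟩ | ⟨rfl, rfl⟩
      · rw [mul_one]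
      · rw [mul_one, hc.1.symm]
    · rw [mul_zero]
      by_cases hb : b ≠ i ∧ b ≠ j
      · exact z a b hb.1 hb.2
      by_cases ha : a ≠ i ∧ a ≠ j
      · rw [hc.1.symm, z b a ha.1 ha.2]
      · rw [show a = b by omega, hc.1.2]
  by_cases h0 : c i j = 0
  · left
    rw [show c = 0 by ext a b; rw [key, h0, zero_mul]; rfl, h.zero] at e
    exact mul_inv_eq_iff_eq_mul.1 (mul_inv_eq_one.1 e)
  · right
    rw [e, show c = wm i j by ext a b; rw [key, CA.z2' _ h0, one_mul]]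

theorem Md.pr' (h : Md φ θ) {i k j : Fin 5} (hi : i.val < 4) (hk : k.val < 4) (hj : j.val < 4)
    (ij : i ≠ j) (kj : k ≠ j) (ik : i ≠ k) {x y : Γ}
    (hx : φ x = tv i 4 * tv k 4) (hy : φ y = tv j 4) (x2 : x * x = 1) (y2 : y * y = 1) :
    x * y = y * x ∨ x * y * x⁻¹ * y⁻¹ = θ (wm i j + wm k j) := by
  obtain ⟨n, hn⟩ := h.surj (tv i k)
  have i4 : i ≠ 4 := by omega
  have k4 : k ≠ 4 := by omega
  have s : ∀ w : Γ, w * w = 1 → n⁻¹ * w * n * (n⁻¹ * w * n) = 1 := fun w hw => by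
    rw [show n⁻¹ * w * n * (n⁻¹ * w * n) = n⁻¹ * (w * w) * n by group, hw, mul_one, inv_mul_cancel]
  have f1 : φ (n⁻¹ * x * n) = tv k 4 := by
    rw [map_mul, map_mul, map_inv, hn, hx, MD.tv_comm i 4 k 4 k4.symm i4,
      ← (MD.tv_st i k 4 ik k4 i4).1, ← mul_assoc, ← mul_assoc, inv_mul_cancel, one_mul, mul_assoc,
      MD.tv_sq, mul_one]
  have f2 : φ (n⁻¹ * y * n) = tv j 4 := by
    rw [map_mul, map_mul, map_inv, hn, hy, mul_assoc, ← MD.tv_comm i k j 4 kj i4,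
      inv_mul_cancel_left]
  rcases h.pr hk hj kj f1 f2 (s x x2) (s y y2) with e | e
  · left
    rw [show x * y = n * (n⁻¹ * x * n * (n⁻¹ * y * n)) * n⁻¹ by group, e]
    group
  · right
    rw [← back i k j ⟨ij, kj, ik⟩, ← hn, ← h.act n _ (al_wm k j), ← e]
    group

end Cfsg.Lib.R10
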