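import Cfsg.Agent.R10.P1
import Cfsg.Agent.R10.P1b

/-! The two elementary abelian subgroups over the last column. -/

set_option autoImplicit false
set_option linter.unusedSectionVars false

namespace Cfsg.Lib.R10

open Subgroup Cfsg.Lib.Trans Cfsg.Lib.Gold Matrix

universe u

variable {Γ : Type u} [Group Γ] [Finite Γ] {φ : Γ →* L5} {θ : Mt → Γ}

namespace P2

/-- Commuting involutions over the transvections of the last column. -/
structure Gd (φ : Γ →* L5) (s : Fin 5 → Γ) : Prop where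
  f : ∀ i : Fin 5, i.val < 4 → φ (s i) = tv i 4
  sq : ∀ i : Fin 5, i.val < 4 → s i * s i = 1
  cm : ∀ i j : Fin 5, i.val < 4 → j.val < 4 → s i * s j = s j * s i

/-- The subgroup generated by them and `Λ²⟨e 0, …, e 3⟩`. -/
def BB (θ : Mt → Γ) (s : Fin 5 → Γ) : Subgroup Γ :=
  closure {x | (∃ m, W6 m ∧ x = θ m) ∨ ∃ i : Fin 5, i.val < 4 ∧ x = s i}

theorem BB_eq_1' : type_of% @BB.eq_1 := @BB.eq_1

theorem col {r : L5} (hr : R4 r) {m : Mt} (hm : Al m) (i : Fin 5) :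
    (r.1 * m * r.1ᵀ) i 4 = m i 4 := by
  obtain ⟨a1, a2, -, a4, -, -, a7, -⟩ := hr.up.act_ent hm
  obtain ⟨b1, b2, b3, b4, b5, b6⟩ := hr.ent
  fin_cases i
  · simpa [b1, b2, b3] using a7
  · simpa [b4, b5] using a4
  · simpa [b6] using a2
  · exact a1
  · exact ((hm.act _).2 4).trans (hm.2 4).symm

theorem mulc {r r' : L5} (hr : R4 r) (hr' : R4 r') (i : Fin 5) (hi : i.val < 4) :
    (r * r').1 i 4 = r.1 i 4 + r'.1 i 4 := by
  obtain ⟨-, -, -, a1, -, -, a2, -, a3, a4⟩ := hr.up.mul_ent hr'.up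
  obtain ⟨b1, b2, b3, b4, b5, b6⟩ := hr.ent
  fin_cases i
  · simpa [b1, b2, b3, add_comm] using a1
  · simpa [b4, b5, add_comm] using a2
  · simpa [b6, add_comm] using a3
  · simpa [add_comm] using a4
  · exact absurd hi (by decide)

theorem bits : ∀ a0 a1 a2 a3 b0 b1 b2 b3 : ZMod 2, a0 * b1 + b0 * a1 = 0 → a0 * b2 + b0 * a2 = 0 →
    a0 * b3 + b0 * a3 = 0 → a1 * b2 + b1 * a2 = 0 → a1 * b3 + b1 * a3 = 0 →
    a2 * b3 + b2 * a3 = 0 → (a0 = 0 ∧ a1 = 0 ∧ a2 = 0 ∧ a3 = 0) ∨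
      (b0 = 0 ∧ b1 = 0 ∧ b2 = 0 ∧ b3 = 0) ∨ (b0 = a0 ∧ b1 = a1 ∧ b2 = a2 ∧ b3 = a3) := by decide

theorem all4 {P : Fin 5 → Prop} (k : P 0 ∧ P 1 ∧ P 2 ∧ P 3) (i : Fin 5) (hi : i.val < 4) : P i := by
  fin_cases i
  exacts [k.1, k.2.1, k.2.2.1, k.2.2.2, absurd hi (by decide)]

theorem w6 {m : Mt} (hm : Al m) (k : ∀ i : Fin 5, i.val < 4 → m i 4 = 0) : W6 m :=
  ⟨hm, fun i => if c : i.val < 4 then k i c else (by omega : i = 4) ▸ hm.2 4⟩

theorem fix {r : L5} (hr : R4 r) {m : Mt} (hm : Al m) (e : r.1 * m * r.1ᵀ = m) :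
    r = 1 ∨ W6 m ∨ ∀ i : Fin 5, i.val < 4 → m i 4 = r.1 i 4 := by
  obtain ⟨-, -, a3, -, a5, a6, -, a8, a9, a10⟩ := hr.up.act_ent hm
  obtain ⟨b1, b2, b3, b4, b5, b6⟩ := hr.ent
  simp only [e, b1, b2, b3, b4, b5, b6, zero_mul, mul_zero, add_zero, add_assoc,
    left_eq_add] at a3 a5 a6 a8 a9 a10
  rcases bits _ _ _ _ _ _ _ _ a10 a9 a8 a6 a5 a3 with k | k | k
  · refine .inl (hr.up.ext up_one fun i j hij => ?_)
    by_cases c : i.val < 4 ∧ j = 4
    · rw [c.2, all4 (P := fun i => r.1 i 4 = 0) k i c.1]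
      exact (one_apply_ne (c.2 ▸ hij.ne)).symm
    · exact hr i j c
  · exact .inr (.inl (w6 hm (all4 (P := fun i => m i 4 = 0) k)))
  · exact .inr (.inr (all4 (P := fun i => m i 4 = r.1 i 4) k))

theorem exc (r : L5) : ∃ m, Al m ∧ ∀ i : Fin 5, i.val < 4 → m i 4 = r.1 i 4 :=
  ⟨r.1 0 4 • wm 0 4 + r.1 1 4 • wm 1 4 + r.1 2 4 • wm 2 4 + r.1 3 4 • wm 3 4, by
    refine ⟨?_, fun i => ?_⟩
    · simp only [transpose_add, transpose_smul, (al_wm _ _).1]
    · simp [(al_wm _ _).2], all4 (by simp [wm_ent])⟩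

theorem fw : ∀ i j : Fin 5, i.val < 4 → j.val < 4 →
    tm i 4 * wm j 4 * (tm i 4)ᵀ = wm j 4 + wm i j ∧ wm i j = wm j i ∧
      tm i 4 * tm j 4 = tm j 4 * tm i 4 ∧ (wm i 4 j 4 = tm i 4 j 4) := by decide +kernel

theorem fw' : ∀ i : Fin 5, wm i i = 0 := by decide +kernel

theorem fw3 : ∀ i j : Fin 5, j ≠ 0 → i ≠ j → ¬ wm i j = wm 0 j + wm i j ∧ ¬ wm i j = 0 := by
  decide +kernel

variable (h : Md φ θ) {s : Fin 5 → Γ}
include h

theorem sw {x : Γ} {i j : Fin 5} (hi : i.val < 4) (hj : j.val < 4) (hx : φ x = tv i 4) :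
    x * θ (wm j 4) = θ (wm j 4) * θ (wm i j) * x := by
  rw [h.act' x (al_wm j 4), hx, ← h.add, ← (fw i j hi hj).1]
  rfl

theorem Gd.r (g : Gd φ s) {x : Γ} (hx : x ∈ BB θ s) : R4 (φ x) := by
  induction hx using closure_induction_left with
  | one => rw [map_one]; exact r4_one
  | mul_left x hx y _ hy =>
    rw [map_mul]
    rcases hx with ⟨m, hm, rfl⟩ | ⟨i, hi, rfl⟩
    · rwa [h.phi hm.1, one_mul]
    · rw [g.f i hi]; exact (r4_tv i hi).mul hy
  | inv_mul_cancel x hx y _ hy =>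
    rw [map_mul, map_inv]
    rcases hx with ⟨m, hm, rfl⟩ | ⟨i, hi, rfl⟩
    · rwa [h.phi hm.1, inv_one, one_mul]
    · rw [g.f i hi, MD.tv_inv]; exact (r4_tv i hi).mul hy

theorem Gd.ab (g : Gd φ s) {x y : Γ} (hx : x ∈ BB θ s) (hy : y ∈ BB θ s) : x * y = y * x := by
  have k : BB θ s ≤ Cs (BB θ s) := by
    rw [BB, Cs, centralizer_closure, closure_le]
    rintro _ (⟨m, hm, rfl⟩ | ⟨i, hi, rfl⟩) _ (⟨m', hm', rfl⟩ | ⟨j, hj, rfl⟩)
    · exact h.comm _ _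
    · exact h.cZ (g.f j hj ▸ r4_tv j hj) hm
    · exact (h.cZ (g.f i hi ▸ r4_tv i hi) hm').symm
    · exact g.cm j i hj hi
  exact mem_Cs.1 (k hy) x hx

theorem Gd.sq' (g : Gd φ s) {x : Γ} (hx : x ∈ BB θ s) : x * x = 1 := by
  induction hx using closure_induction with
  | mem x hx =>
    rcases hx with ⟨m, -, rfl⟩ | ⟨i, hi, rfl⟩
    exacts [h.sq m, g.sq i hi]
  | one => exact one_mul 1
  | mul x y hx hy kx ky =>
    rw [mul_assoc, ← mul_assoc y, ← g.ab h hx hy, mul_assoc x, ky, mul_one, kx]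
  | inv x _ kx => rw [← _root_.mul_inv_rev, kx, inv_one]

theorem Gd.z (g : Gd φ s) {m : Mt} (hm : Al m) : θ m ∈ BB θ s ↔ W6 m := by
  refine ⟨fun k => ?_, fun k => subset_closure (.inl ⟨m, k, rfl⟩)⟩
  have e : ∀ i : Fin 5, i.val < 4 → W6 m ∨ ∀ j : Fin 5, j.val < 4 → m j 4 = (tv i 4).1 j 4 :=
    fun i hi => (fix (r4_tv i hi) hm (h.inj' (hm.act _) hm (by
      rw [← g.f i hi, ← h.act _ _ hm, g.ab h (subset_closure (.inr ⟨i, hi, rfl⟩)) k,
        mul_inv_cancel_right]))).resolve_left (by revert i; decide +kernel)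
  rcases e 0 (by decide) with k0 | k0
  · exact k0
  rcases e 1 (by decide) with k1 | k1
  · exact k1
  exact absurd ((k0 0 (by decide)).symm.trans (k1 0 (by decide))) (by decide +kernel)

theorem Gd.ex (g : Gd φ s) {r : L5} (hr : R4 r) : ∃ x ∈ BB θ s, φ x = r :=
  hr.up.mem (H := (BB θ s).map φ) fun i j hij e => by
    have c : i.val < 4 ∧ j = 4 := by_contra fun c => e ((hr i j c).trans (one_apply_ne hij.ne))
    exact ⟨s i, subset_closure (.inr ⟨i, c.1, rfl⟩), c.2 ▸ g.f i c.1⟩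

theorem Gd.flip (g : Gd φ s) : Gd φ fun i => s i * θ (wm i 4) where
  f i hi := by rw [map_mul, h.phi (al_wm i 4), mul_one, g.f i hi]
  sq i hi := by
    have e := sw h hi hi (g.f i hi)
    rw [fw', h.zero, mul_one] at e
    rw [mul_assoc, ← mul_assoc (θ _), ← e, mul_assoc, h.sq, mul_one, g.sq i hi]
  cm i j hi hj := by
    have k : ∀ i j : Fin 5, i.val < 4 → j.val < 4 → s i * θ (wm i 4) * (s j * θ (wm j 4)) =
        s i * s j * θ (wm i 4 + wm j 4 + wm i j) := fun i j hi hj => by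
      have e := sw h hj hi (g.f j hj)
      have c := h.cZ (g.f j hj ▸ r4_tv j hj) (w6_wm j i hj hi)
      rw [mul_assoc, ← c, ← mul_assoc, ← mul_inv_eq_iff_eq_mul, h.inv] at e
      rw [mul_assoc, ← mul_assoc (θ _), ← e, (fw j i hj hi).2.1, add_right_comm, h.add, h.add]
      group
    rw [k i j hi hj, k j i hj hi, g.cm i j hi hj, (fw j i hj hi).2.1, add_comm (wm i 4)]

theorem Gd.rel (g : Gd φ s) {x : Γ} (hx : x ∈ BB θ s) : ∀ m, Al m →
    (∀ i : Fin 5, i.val < 4 → m i 4 = (φ x).1 i 4) → x * θ m ∈ BB θ fun i => s i * θ (wm i 4) := by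
  have k0 : ∀ m, Al m → (∀ i : Fin 5, i.val < 4 → m i 4 = (1 : L5).1 i 4) →
      θ m ∈ BB θ fun i => s i * θ (wm i 4) := fun m hm e => ((g.flip h).z h hm).2
    (w6 hm fun i hi => (e i hi).trans (one_apply_ne (by omega)))
  induction hx using closure_induction with
  | mem x hx =>
    intro m hm e
    rcases hx with ⟨m', hm', rfl⟩ | ⟨i, hi, rfl⟩
    · exact mul_mem (subset_closure (.inl ⟨m', hm', rfl⟩)) (k0 m hm (h.phi hm'.1 ▸ e))
    · rw [show m = wm i 4 + (wm i 4 + m) by rw [← add_assoc, CA.madd, zero_add], h.add, ← mul_assoc]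
      refine mul_mem (subset_closure (.inr ⟨i, hi, rfl⟩)) (subset_closure (.inl
        ⟨_, w6 ((al_wm i 4).add hm) fun j hj => ?_, rfl⟩))
      rw [Matrix.add_apply, e j hj, g.f i hi, (fw i j hi hj).2.2.2]
      exact CA.z2 _
  | one => intro m hm e; rw [one_mul]; exact k0 m hm (map_one φ ▸ e)
  | mul x y hx hy kx ky =>
    intro m hm e
    obtain ⟨n, hn, e1⟩ := exc (φ x)
    have ry := g.r h hy
    have e2 := h.act' y hn
    rw [← mul_inv_eq_iff_eq_mul, inv_eq_of_mul_eq_one_right (g.sq' h hy)] at e2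
    have := mul_mem (kx n hn e1) (ky _ ((hn.act (φ y).1).add hm) fun i hi => by
      rw [Matrix.add_apply, col ry hn, e1 i hi, e i hi, map_mul, mulc (g.r h hx) ry i hi,
        ← add_assoc, CA.z2, zero_add])
    rw [h.add, ← e2] at this
    convert this using 1
    calc _ = x * (θ n * (y * y) * θ n) * y * θ m := by rw [g.sq' h hy, mul_one, h.sq, mul_one]
      _ = _ := by group
  | inv x hx kx => rwa [inv_eq_of_mul_eq_one_right (g.sq' h hx)]

theorem exG : ∃ s, Gd φ s := by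
  obtain ⟨s0, f0, q0⟩ := h.inv4 0 (by decide)
  have k : ∀ i : Fin 5, ∃ x, i.val < 4 → φ x = tv i 4 ∧ x * x = 1 ∧ s0 * x = x * s0 ∧
      (i = 0 → x = s0) := fun i => by
    by_cases hi : i.val < 4
    swap
    · exact ⟨1, fun c => absurd c hi⟩
    by_cases i0 : i = 0
    · exact ⟨s0, fun _ => ⟨i0 ▸ f0, q0, rfl, fun _ => rfl⟩⟩
    obtain ⟨x, fx, qx⟩ := h.inv4 i hi
    rcases h.pr (by decide) hi (Ne.symm i0) f0 fx q0 qx with e | e
    · exact ⟨x, fun _ => ⟨fx, qx, e, fun c => absurd c i0⟩⟩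
    refine ⟨θ (wm i 4) * x, fun _ => ⟨by rw [map_mul, h.phi (al_wm i 4), one_mul, fx], ?_, ?_,
      fun c => absurd c i0⟩⟩
    · have e := sw h hi hi fx
      rw [fw', h.zero, mul_one] at e
      rw [mul_assoc, ← mul_assoc x, e, mul_assoc, qx, mul_one, h.sq]
    · rw [← mul_assoc, sw h (by decide) hi f0, ← h.inv (wm 0 i), ← e]
      group
  choose s hs using k
  refine ⟨s, fun i hi => (hs i hi).1, fun i hi => (hs i hi).2.1, fun i j hi hj => ?_⟩
  obtain ⟨fi, qi, ci, ei⟩ := hs i hi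
  obtain ⟨fj, qj, cj, ej⟩ := hs j hj
  by_cases i0 : i = 0
  · rw [ei i0, cj]
  by_cases j0 : j = 0
  · rw [ej j0, ci]
  by_cases ij : i = j
  · rw [ij]
  refine (h.pr hi hj ij fi fj qi qj).elim id fun e => ?_
  have c := h.cZ (f0 ▸ r4_tv 0 (by decide)) (w6_wm i j hi hj)
  have e1 : s0 * s i * s j * (s0 * s i)⁻¹ * (s j)⁻¹ = θ (wm i j) :=
    calc _ = s0 * (s i * s j * (s i)⁻¹ * (s j)⁻¹) * (s j * s0⁻¹ * (s j)⁻¹) := by group
      _ = _ := by
        rw [e, c, inv_eq_of_mul_eq_one_right q0, ← cj, mul_inv_cancel_right, mul_assoc, q0, mul_one]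
  rcases h.pr' (by decide) hi hj (Ne.symm j0) ij (Ne.symm i0) (x := s0 * s i)
    (by rw [map_mul, f0, fi]) fj (by
      rw [mul_assoc, ← mul_assoc (s i), ← ci, mul_assoc, qi, mul_one, q0]) qj with k | k
  · rw [k, mul_assoc (s j), mul_inv_cancel, mul_one, mul_inv_cancel] at e1
    exact absurd (h.inj _ (al_wm i j) e1.symm) (fw3 i j j0 ij).2
  · exact absurd (h.inj' (al_wm i j) ((al_wm 0 j).add (al_wm i j)) (e1.symm.trans k))
      (fw3 i j j0 ij).1

end P2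

open P2

theorem Md.two (h : Md φ θ) : ∃ B B', Two φ θ B B' := by
  obtain ⟨s, g⟩ := exG h
  have g' := g.flip h
  refine ⟨BB θ s, BB θ fun i => s i * θ (wm i 4), fun _ => g.r h, fun _ => g'.r h,
    fun _ => g.sq' h, fun _ => g'.sq' h, fun _ => g.z h, fun _ => g'.z h, fun _ => g.ex h,
    fun _ => g.rel h, fun x hx m hm e => ?_, fun x hx h1 h2 => ?_⟩
  · simpa only [mul_assoc, h.sq, mul_one] using g'.rel h hx m hm e
  obtain ⟨b, hb, e⟩ := g.ex h hx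
  obtain ⟨m, hm, e1⟩ := h.diff e.symm
  have b2 := g.sq' h hb
  have e2 : b * θ m = θ m * b := by
    rw [e1] at h2
    rw [← inv_eq_of_mul_eq_one_right h2, _root_.mul_inv_rev, h.inv, inv_eq_of_mul_eq_one_right b2]
  rw [e1, ← e2]
  rcases fix hx hm (h.inj' (hm.act _) hm (by
    rw [← e, ← h.act _ _ hm, e2, mul_inv_cancel_right])) with k | k | k
  · exact absurd k h1
  · exact .inl (mul_mem hb ((g.z h hm).2 k))
  · exact .inr (g.rel h hb m hm (e ▸ k))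

end Cfsg.Lib.R10
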