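import Cfsg.Agent.R10.PD

/-! Splitting of `2¹⁰ . L₅(2)`: the column groups. -/

set_option autoImplicit false
set_option linter.unusedVariables false
set_option linter.unusedSectionVars false

namespace Cfsg.Lib.R10

open Subgroup Cfsg.Lib.Trans Cfsg.Lib.Gold Matrix

universe u

variable {Γ : Type u} [Group Γ] [Finite Γ] {φ : Γ →* L5} {θ : Mt → Γ}

namespace P3

/-- Elements normalising the unipotent radical and stabilising the hyperplane. -/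
structure Ok (g : L5) : Prop where
  p : P4 g
  r : ∀ r, R4 r → R4 (g * r * g⁻¹)

theorem r4c : ∀ k l i : Fin 5, k ≠ 4 → i.val < 4 → R4 (tv k l * tv i 4 * tv k l) := by
  decide +kernel

theorem p4c : ∀ k l : Fin 5, k ≠ 4 → P4 (tv k l) := by decide +kernel

theorem third : ∀ k l : Fin 5, ∃ m : Fin 5, m ≠ k ∧ m ≠ l ∧ m ≠ 4 := by decide

theorem cm : ∀ k l m : Fin 5, k ≠ l → m ≠ k → m ≠ l →
    tv k l = tv k m * tv m l * tv k m * tv m l := by decide +kernel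

theorem tv_ne : ∀ i : Fin 5, i ≠ 4 → tv i 4 ≠ 1 ∧ R4 (tv i 4) := by decide +kernel

theorem w04 : (∀ i : Fin 5, i.val < 4 → wm 0 4 i 4 = (tv 0 4).1 i 4) ∧ ¬ W6 (wm 0 4) := by
  decide +kernel

theorem ok_tv {k : Fin 5} (l : Fin 5) (hk : k ≠ 4) : Ok (tv k l) := ⟨p4c k l hk, fun r hr => by
  refine hr.up.mem (H := CA.mkSub (fun r => R4 (tv k l * r * (tv k l)⁻¹))
    (by rw [mul_one, mul_inv_cancel]; exact r4_one) fun a b ha hb => by
      rw [← conj_mul (b := tv k l)]; exact ha.mul hb) fun i j hij hne => ?_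
  have : i.val < 4 ∧ j = 4 := by
    by_contra e
    exact hne ((hr i j e).trans (one_apply_ne hij.ne))
  obtain ⟨hi, rfl⟩ := this
  change R4 (tv k l * tv i 4 * (tv k l)⁻¹)
  rw [MD.tv_inv]
  exact r4c k l i hk hi⟩

theorem w6_p4 {m : Mt} (hm : W6 m) {g : L5} (hg : P4 g) : W6 (g.1 * m * g.1ᵀ) :=
  ⟨hm.1.act _, fun i => by
    simp [mul_apply, Fin.sum_univ_five, hg 0 (by decide), hg 1 (by decide), hg 2 (by decide),
      hg 3 (by decide), hm.2]⟩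

theorem w6_r4 {m : Mt} (hm : Al m) {g : L5} (hg : R4 g) : W6 (m + g.1 * m * g.1ᵀ) := by
  obtain ⟨a, b, -, c, -, -, d, -⟩ := hg.up.act_ent hm
  obtain ⟨e0, e1, e2, e3, e4, e5⟩ := hg.ent
  have k := hm.add (hm.act g.1)
  refine ⟨k, fun i => ?_⟩
  have f := k.2 4
  fin_cases i
  · change m 0 4 + (g.1 * m * g.1ᵀ) 0 4 = 0
    rw [d, e0, e1, e2]; simpa using CA.z2 _
  · change m 1 4 + (g.1 * m * g.1ᵀ) 1 4 = 0
    rw [c, e3, e4]; simpa using CA.z2 _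
  · change m 2 4 + (g.1 * m * g.1ᵀ) 2 4 = 0
    rw [b, e5]; simpa using CA.z2 _
  · change m 3 4 + (g.1 * m * g.1ᵀ) 3 4 = 0
    rw [a]; exact CA.z2 _
  · exact f

theorem pm_act (σ : Equiv.Perm (Fin 5)) (m : Mt) (a b : Fin 5) :
    ((MD.pm σ).1 * m * (MD.pm σ).1ᵀ) (σ a) (σ b) = m a b := by
  simp [mul_apply, MD.pm_val]

theorem pm_cj (σ : Equiv.Perm (Fin 5)) (p q : Fin 5) :
    MD.pm σ * tv p q * (MD.pm σ)⁻¹ = tv (σ p) (σ q) := by rw [MD.pm_tv, mul_inv_cancel_right]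

variable {B B' C : Subgroup Γ} {n s : Γ}

theorem csq {x : Γ} (h : x * x = 1) (g : Γ) : g * x * g⁻¹ * (g * x * g⁻¹) = 1 := by
  rw [conj_mul, h, mul_one, mul_inv_cancel]

theorem th_nrm (h : Md φ θ) (r : ∀ x ∈ C, R4 (φ x)) (z : ∀ m, Al m → (θ m ∈ C ↔ W6 m)) {m : Mt}
    (hm : Al m) : θ m ∈ Ns C :=
  mem_normalizer_of_cj_le (cj_le_iff.2 fun x hx => by
    have k := w6_r4 hm (r x hx)
    rw [h.inv, mul_assoc, h.act' x hm, ← mul_assoc, ← h.add]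
    exact mul_mem ((z _ k.1).2 k) hx)

theorem le_or (h : Md φ θ) (t : Two φ θ B B') (hn : Ok (φ n)) (r : ∀ x ∈ C, R4 (φ x))
    (sq : ∀ x ∈ C, x * x = 1) (z : ∀ m, Al m → (θ m ∈ C ↔ W6 m)) : cj n C ≤ B ∨ cj n C ≤ B' := by
  refine SubgroupClass.subset_union.1 ?_
  rintro _ ⟨x, hx, rfl⟩
  change n * x * n⁻¹ ∈ B ∨ n * x * n⁻¹ ∈ B'
  by_cases e : φ x = 1
  · obtain ⟨m, hm, rfl⟩ := (h.ker x).1 e
    rw [h.act n m hm]
    exact .inl ((t.z _ (hm.act _)).2 (w6_p4 ((z m hm).1 hx) hn.p))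
  · refine t.all _ ?_ (fun e' => e ?_) (csq (sq x hx) n)
    · rw [map_mul, map_mul, map_inv]; exact hn.r _ (r x hx)
    · rwa [map_mul, map_mul, map_inv, conj_eq_one_iff] at e'

theorem nle (h : Md φ θ) (t : Two φ θ B B') : ¬ B ≤ B' ∧ ¬ B' ≤ B := by
  obtain ⟨x, hx, e⟩ := t.ex _ (tv_ne 0 (by decide)).2
  have k := t.rel x hx _ (al_wm 0 4) (e ▸ w04.1)
  exact ⟨fun l => w04.2 ((t.z' _ (al_wm 0 4)).1 ((mul_mem_cancel_left (l hx)).1 k)),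
    fun l => w04.2 ((t.z _ (al_wm 0 4)).1 ((mul_mem_cancel_left hx).1 (l k)))⟩

theorem perm (h : Md φ θ) (t : Two φ θ B B') (hn : Ok (φ n)) :
    (cj n B = B ∧ cj n B' = B') ∨ (cj n B = B' ∧ cj n B' = B) := by
  rcases le_or h t hn t.r t.sq t.z with e | e <;> rcases le_or h t hn t.r' t.sq' t.z' with e' | e'
  · rw [← mem_Ns_iff.1 (mem_normalizer_of_cj_le e), cj_le_cj] at e'
    exact ((nle h t).2 e').elim
  · exact .inl ⟨mem_Ns_iff.1 (mem_normalizer_of_cj_le e), mem_Ns_iff.1 (mem_normalizer_of_cj_le e')⟩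
  · have c1 := Subgroup.card_le_of_le e
    have c2 := Subgroup.card_le_of_le e'
    rw [card_cj] at c1 c2
    exact .inr ⟨eq_of_le_of_card_ge e (by rwa [card_cj]), eq_of_le_of_card_ge e' (by rwa [card_cj])⟩
  · rw [← mem_Ns_iff.1 (mem_normalizer_of_cj_le e'), cj_le_cj] at e
    exact ((nle h t).1 e).elim

theorem nrm (h : Md φ θ) (t : Two φ θ B B') {k l : Fin 5} (hk : k ≠ 4) (kl : k ≠ l)
    (e : φ n = tv k l) : n ∈ Ns B ∧ n ∈ Ns B' := by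
  obtain ⟨m, mk, ml, m4⟩ := third k l
  obtain ⟨a, ha⟩ := h.surj (tv k m)
  obtain ⟨b, hb⟩ := h.surj (tv m l)
  obtain ⟨w, hw, rfl⟩ := h.diff (x := n) (y := a * b * a * b) (by
    rw [e, map_mul, map_mul, map_mul, ha, hb, ← cm k l m kl mk ml])
  have k1 : a * b * a * b ∈ Ns B ∧ a * b * a * b ∈ Ns B' := by
    rw [mem_Ns_iff, mem_Ns_iff]
    rcases perm h t (ha ▸ ok_tv m hk) with ⟨a1, a2⟩ | ⟨a1, a2⟩ <;>
      rcases perm h t (hb ▸ ok_tv l m4) with ⟨b1, b2⟩ | ⟨b1, b2⟩ <;>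
      simp only [cj_mul, a1, a2, b1, b2, and_self]
  exact ⟨mul_mem (th_nrm h t.r t.z hw) k1.1, mul_mem (th_nrm h t.r' t.z' hw) k1.2⟩

theorem col_cj (h : Md φ θ) {σ : Equiv.Perm (Fin 5)} {j : Fin 5} (c : Col φ θ (σ j) C)
    (hs : φ s = MD.pm σ) : Col φ θ j (cj s⁻¹ C) where
  sq x hx := by
    have := c.sq _ (mem_cj_inv.1 hx)
    rwa [conj_mul, conj_eq_one_iff] at this
  z m hm hx i := by
    have := mem_cj_inv.1 hx
    rw [h.act s m hm, hs] at this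
    exact (pm_act σ m i j).symm.trans (c.z _ (hm.act _) this _)
  nrm n k l kj kl e := by
    rw [Ns, ← cj_normalizer, mem_cj_inv]
    exact c.nrm _ (σ k) (σ l) (σ.injective.ne kj) (σ.injective.ne kl) (by
      rw [map_mul, map_mul, map_inv, hs, e, pm_cj])

end P3

open P3

theorem Md.cl5 (h : Md φ θ) {B B' : Subgroup Γ} (t : Two φ θ B B') : Cl5 φ θ := by
  have c1 : Col φ θ 4 B := ⟨t.sq, fun m hm e => ((t.z m hm).1 e).2,
    fun n k l hk kl e => (nrm h t hk kl e).1⟩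
  have c2 : Col φ θ 4 B' := ⟨t.sq', fun m hm e => ((t.z' m hm).1 e).2,
    fun n k l hk kl e => (nrm h t hk kl e).2⟩
  intro i j ij
  obtain ⟨σ, hσ⟩ : ∃ σ : Equiv.Perm (Fin 5), σ j = 4 := ⟨Equiv.swap j 4, Equiv.swap_apply_left _ _⟩
  obtain ⟨s, hs⟩ := h.surj (MD.pm σ)
  have i4 := tv_ne (σ i) (hσ ▸ σ.injective.ne ij)
  have k := pm_cj σ i j
  rw [hσ] at k
  refine ⟨?_, fun x hx x2 => ?_⟩
  · obtain ⟨y, hy, e⟩ := t.ex _ i4.2
    refine ⟨s⁻¹ * y * s⁻¹⁻¹, ?_, csq (t.sq y hy) _⟩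
    rw [map_mul, map_mul, inv_inv, map_inv, hs, e, ← k]
    group
  · have e : φ (s * x * s⁻¹) = tv (σ i) 4 := by rw [map_mul, map_mul, map_inv, hs, hx, k]
    rcases t.all _ (e ▸ i4.2) (e ▸ i4.1) (csq x2 s) with e' | e'
    · exact ⟨_, col_cj h (hσ ▸ c1) hs, mem_cj_inv.2 e'⟩
    · exact ⟨_, col_cj h (hσ ▸ c2) hs, mem_cj_inv.2 e'⟩

end Cfsg.Lib.R10
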