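import Cfsg.Agent.R10.PD
import Cfsg.Agent.Local.ProdCard

/-! A complement in the preimage of the unitriangular group. -/

set_option autoImplicit false
set_option linter.unusedSectionVars false
set_option linter.unusedVariables false

namespace Cfsg.Lib.R10

open Subgroup Cfsg.Lib.Trans Cfsg.Lib.Gold Matrix

universe u
variable {Γ : Type u} [Group Γ] [Finite Γ] {φ : Γ →* L5} {θ : Mt → Γ}

namespace P4

variable {x y p s n : Γ} {B H K : Subgroup Γ}

theorem kd (x y : Γ) : km x y = x * y * x * y := rfl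

theorem iv (x2 : x * x = 1) : x⁻¹ = x := inv_eq_of_mul_eq_one_right x2

theorem km1 (x2 : x * x = 1) (y2 : y * y = 1) : x * y * x⁻¹ = km x y * y := by
  rw [kd, mul_assoc _ y y, y2, mul_one, iv x2]

theorem km4 (x2 : x * x = 1) (y2 : y * y = 1) : y * x * y⁻¹ = x * km x y := by
  rw [kd, iv y2, ← mul_assoc, ← mul_assoc, ← mul_assoc, x2, one_mul]

theorem km2 (x2 : x * x = 1) (y2 : y * y = 1) (k2 : km x y * km x y = 1) :
    x * km x y * x⁻¹ = km x y := by
  rw [← km4 x2 y2, ← iv k2, kd]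
  simp only [_root_.mul_inv_rev, iv x2, iv y2, mul_assoc]

theorem km3 (n x y : Γ) : n * km x y * n⁻¹ = km (n * x * n⁻¹) (n * y * n⁻¹) := by
  rw [kd, kd]; group

theorem km5 (c1 : x * p * x⁻¹ = p) (c2 : p * s = s * p) (p2 : p * p = 1) : km (x * p) s = km x s := by
  rw [kd, kd, mul_assoc x p s, c2, mul_inv_eq_iff_eq_mul.1 c1, ← mul_assoc, ← mul_assoc,
    mul_assoc _ p p, p2, mul_one]

theorem cm (c : x * y = y * x) : x * y * x⁻¹ = y := mul_inv_eq_iff_eq_mul.2 c

theorem cjm (n x y : Γ) : n * (x * y) * n⁻¹ = n * x * n⁻¹ * (n * y * n⁻¹) := by group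

theorem kmem (x2 : x * x = 1) (hx : x ∈ Ns B) (hy : y ∈ B) : km x y ∈ B := by
  have := (mem_normalizer_iff.1 hx y).1 hy
  rw [iv x2] at this
  exact mul_mem this hy

theorem ns {l : List Γ} (h : ∀ x ∈ l, n * x * n⁻¹ ∈ closure {x | x ∈ l}) :
    n ∈ Ns (closure {x | x ∈ l}) := mem_normalizer_fintype fun x hx =>
  (show closure {x | x ∈ l} ≤ (closure {x | x ∈ l}).comap (MulAut.conj n).toMonoidHom from
    (closure_le _).2 h) hx

theorem cs (h : H ≤ Ns K) : Nat.card ↥(H ⊔ K) ≤ Nat.card H * Nat.card K :=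
  Local.CD.card_sup_mul_card_inf_of_le_normalizer h ▸ Nat.le_mul_of_pos_right _ Nat.card_pos

theorem cl (sq : ∀ x ∈ B, x * x = 1) : ∀ l : List Γ, (∀ x ∈ l, x ∈ B) →
    Nat.card (closure {x | x ∈ l}) ≤ 2 ^ l.length
  | [], _ => by simp
  | a :: l, h => by
    have e : closure {x | x ∈ a :: l} = zpowers a ⊔ closure {x | x ∈ l} := by
      rw [zpowers_eq_closure, ← Subgroup.closure_union]
      exact congrArg _ (Set.ext fun _ => List.mem_cons)
    have ha := h a (by simp)
    rw [e, List.length_cons, pow_succ']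
    refine (cs (zpowers_le.2 (ns fun y hy => ?_))).trans (Nat.mul_le_mul ?_
      (cl sq l fun x hx => h x (by simp [hx])))
    · have hy' := h y (by simp [hy])
      have := iv (sq _ (mul_mem ha hy'))
      rw [_root_.mul_inv_rev, iv (sq a ha), iv (sq y hy')] at this
      rw [cm this.symm]
      exact subset_closure hy
    · rw [Nat.card_zpowers]
      exact orderOf_le_of_pow_eq_one two_pos (by rw [pow_two, sq a ha])

theorem cU : 2 ^ 10 ≤ Nat.card U5 := by
  have : Nat.card ({p : Fin 5 × Fin 5 // p.1 < p.2} → ZMod 2) = 2 ^ 10 := by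
    rw [Nat.card_fun, Nat.card_zmod, Nat.card_eq_fintype_card]
    rfl
  refine this ▸ Nat.card_le_card_of_surjective (fun (g : U5) p => g.1.1 p.1.1 p.1.2) fun e => ?_
  refine ⟨⟨⟨of fun i j => if h : i < j then e ⟨(i, j), h⟩ else (1 : Mt) i j, ?_⟩, fun i j h =>
    dif_neg (not_lt.2 h)⟩, funext fun p => dif_pos p.2⟩
  refine (det_of_upperTriangular fun i j (h : j < i) =>
    (dif_neg (not_lt.2 h.le)).trans (one_apply_ne h.ne')).trans ?_
  simp

end P4

open P4 in
theorem Md.compl (h : Md φ θ) (hc : Cl5 φ θ) {a b c d : Γ} (g : Gn φ a b c d) (r : Rl a b c d) :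
    ∃ K : Subgroup Γ, K ⊓ φ.ker = ⊥ ∧ φ.ker ⊔ K = U5.comap φ := by
  obtain ⟨fa, fb, fc, fd, a2, b2, c2, d2⟩ := g
  obtain ⟨B1, k1, m1⟩ := (hc 0 1 (by decide)).2 a fa a2
  obtain ⟨B2, k2, m2⟩ := (hc 1 2 (by decide)).2 b fb b2
  obtain ⟨B3, k3, m3⟩ := (hc 2 3 (by decide)).2 c fc c2
  obtain ⟨B4, k4, m4⟩ := (hc 3 4 (by decide)).2 d fd d2
  have hp := kmem a2 (k2.nrm a 0 1 (by decide) (by decide) fa) m2
  have hq := kmem b2 (k3.nrm b 1 2 (by decide) (by decide) fb) m3
  have hu := kmem a2 (k3.nrm a 0 1 (by decide) (by decide) fa) hq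
  have hs := kmem c2 (k4.nrm c 2 3 (by decide) (by decide) fc) m4
  have hv := kmem b2 (k4.nrm b 1 2 (by decide) (by decide) fb) hs
  have hw := kmem a2 (k4.nrm a 0 1 (by decide) (by decide) fa) hv
  have p2 := k2.sq _ hp
  have q2 := k3.sq _ hq
  have u2 := k3.sq _ hu
  have s2 := k4.sq _ hs
  have v2 := k4.sq _ hv
  have w2 := k4.sq _ hw
  have ap := km2 a2 b2 p2
  have bq := km2 b2 c2 q2
  have cs' := km2 c2 d2 s2
  have bv := km2 b2 s2 v2
  have bu : b * km a (km b c) * b⁻¹ = km a (km b c) := by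
    rw [km3, km4 a2 b2, bq, km5 ap r.c4 p2]
  have cv : c * km b (km c d) * c⁻¹ = km b (km c d) := by
    rw [km3, km4 b2 c2, cs', km5 bq r.c5 q2]
  have cw : c * km a (km b (km c d)) * c⁻¹ = km a (km b (km c d)) := by rw [km3, cv, cm r.ac.symm]
  have as : a * km c d * a⁻¹ = km c d := by rw [km3, cm r.ac, cm r.ad]
  have qd : km b c * d * (km b c)⁻¹ = km b (km c d) * d := by
    rw [show km b c * d * (km b c)⁻¹ = b * (c * (b * (c * d * c⁻¹) * b⁻¹) * c⁻¹) * b⁻¹ by
      rw [kd]; group, km1 c2 d2, cjm b (km c d), km1 b2 s2, cm r.bd, cjm c, cjm c, cv, cs', km1 c2 d2,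
      mul_assoc (km b _), ← mul_assoc (km c d), s2, one_mul, cjm b, bv, cm r.bd]
  have pv : km a b * km b (km c d) = km b (km c d) * km a b := by
    have c1 : Commute (km a b) d :=
      (((show Commute a d from r.ad).mul_left r.bd).mul_left r.ad).mul_left r.bd
    have c0 : Commute (km a b) (km b c) := r.c4
    rw [eq_mul_inv_of_mul_eq qd.symm]
    exact ((c0.mul_right c1).mul_right c0.inv_right).mul_right c1.inv_right
  have bw : b * km a (km b (km c d)) * b⁻¹ = km a (km b (km c d)) := by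
    rw [km3, km4 a2 b2, bv, km5 ap pv p2]
  have S : ∀ {l : List Γ} {x : Γ}, x ∈ l → x ∈ closure {x | x ∈ l} := fun h => subset_closure h
  have n2 : a ∈ Ns (closure {x | x ∈ [b, km a b]}) := ns (by
    simp only [List.forall_mem_cons, km1 a2 b2, ap]
    exact ⟨mul_mem (S (by simp)) (S (by simp)), S (by simp), by simp⟩)
  have n3a : a ∈ Ns (closure {x | x ∈ [c, km b c, km a (km b c)]}) := ns (by
    simp only [List.forall_mem_cons, cm r.ac, km1 a2 q2, km2 a2 q2 u2]
    exact ⟨S (by simp), mul_mem (S (by simp)) (S (by simp)), S (by simp), by simp⟩)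
  have n3b : b ∈ Ns (closure {x | x ∈ [c, km b c, km a (km b c)]}) := ns (by
    simp only [List.forall_mem_cons, km1 b2 c2, bq, bu]
    exact ⟨mul_mem (S (by simp)) (S (by simp)), S (by simp), S (by simp), by simp⟩)
  have n4a : a ∈ Ns (closure {x | x ∈ [d, km c d, km b (km c d), km a (km b (km c d))]}) := ns (by
    simp only [List.forall_mem_cons, cm r.ad, as, km1 a2 v2, km2 a2 v2 w2]
    exact ⟨S (by simp), S (by simp), mul_mem (S (by simp)) (S (by simp)), S (by simp), by simp⟩)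
  have n4b : b ∈ Ns (closure {x | x ∈ [d, km c d, km b (km c d), km a (km b (km c d))]}) := ns (by
    simp only [List.forall_mem_cons, cm r.bd, km1 b2 s2, bv, bw]
    exact ⟨S (by simp), mul_mem (S (by simp)) (S (by simp)), S (by simp), S (by simp), by simp⟩)
  have n4c : c ∈ Ns (closure {x | x ∈ [d, km c d, km b (km c d), km a (km b (km c d))]}) := ns (by
    simp only [List.forall_mem_cons, km1 c2 d2, cs', cv, cw]
    exact ⟨mul_mem (S (by simp)) (S (by simp)), S (by simp), S (by simp), S (by simp), by simp⟩)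
  have km' : ∀ {H : Subgroup Γ} {x y : Γ}, x ∈ H → y ∈ H → km x y ∈ H := fun h1 h2 =>
    mul_mem (mul_mem (mul_mem h1 h2) h1) h2
  have L : ∀ {H : Subgroup Γ} {l : List Γ}, (∀ x ∈ l, x ∈ H) → closure {x | x ∈ l} ≤ H :=
    fun h => (closure_le _).2 h
  obtain ⟨K, hK, le, ge⟩ : ∃ K : Subgroup Γ, Nat.card K ≤ 2 ^ 10 ∧ K ≤ U5.comap φ ∧
      ∀ x ∈ [a, b, c, d], x ∈ K := by
    refine ⟨closure {x | x ∈ [a]} ⊔ closure {x | x ∈ [b, km a b]} ⊔
      closure {x | x ∈ [c, km b c, km a (km b c)]} ⊔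
      closure {x | x ∈ [d, km c d, km b (km c d), km a (km b (km c d))]}, ?_, ?_, ?_⟩
    · refine (cs (sup_le (sup_le (L ?_) (L ?_)) (L ?_))).trans ((Nat.mul_le_mul
        ((cs (sup_le (L ?_) (L ?_))).trans (Nat.mul_le_mul ((cs (L ?_)).trans (Nat.mul_le_mul
          (cl k1.sq _ ?_) (cl k2.sq _ ?_))) (cl k3.sq _ ?_))) (cl k4.sq _ ?_)).trans (by simp)) <;>
        simp only [List.forall_mem_cons, km', List.not_mem_nil, false_imp_iff, implies_true, and_self,
          n2, n3a, n3b, n4a, n4b, n4c, m1, m2, m3, m4, hp, hq, hu, hs, hv, hw]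
    · have ua : a ∈ U5.comap φ := show Up (φ a) from fa ▸ up_tv _ _ (by decide)
      have ub : b ∈ U5.comap φ := show Up (φ b) from fb ▸ up_tv _ _ (by decide)
      have uc : c ∈ U5.comap φ := show Up (φ c) from fc ▸ up_tv _ _ (by decide)
      have ud : d ∈ U5.comap φ := show Up (φ d) from fd ▸ up_tv _ _ (by decide)
      refine sup_le (sup_le (sup_le (L ?_) (L ?_)) (L ?_)) (L ?_) <;>
        simp only [List.forall_mem_cons, km', ua, ub, uc, ud, List.not_mem_nil, false_imp_iff,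
          implies_true, and_self]
    · simp only [List.forall_mem_cons]
      exact ⟨mem_sup_left (mem_sup_left (mem_sup_left (S (by simp)))),
        mem_sup_left (mem_sup_left (mem_sup_right (S (by simp)))),
        mem_sup_left (mem_sup_right (S (by simp))), mem_sup_right (S (by simp)), by simp⟩
  have e : K.map φ = U5 := by
    refine le_antisymm (map_le_iff_le_comap.2 le) fun x hx => Up.mem hx fun i j ij _ => ?_
    have t1 : tv 0 1 ∈ K.map φ := fa ▸ mem_map_of_mem _ (ge a (by simp))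
    have t2 : tv 1 2 ∈ K.map φ := fb ▸ mem_map_of_mem _ (ge b (by simp))
    have t3 : tv 2 3 ∈ K.map φ := fc ▸ mem_map_of_mem _ (ge c (by simp))
    have t4 : tv 3 4 ∈ K.map φ := fd ▸ mem_map_of_mem _ (ge d (by simp))
    have st : ∀ {i j k : Fin 5}, i < j → j < k → tv i j ∈ K.map φ → tv j k ∈ K.map φ →
        tv i k ∈ K.map φ := fun h1 h2 h3 h4 => (mul_mem_cancel_left h4).1
      ((MD.tv_st _ _ _ h1.ne h2.ne (h1.trans h2).ne).1 ▸ mul_mem (mul_mem h3 h4) h3)
    have t5 := st (by decide) (by decide) t1 t2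
    have t6 := st (by decide) (by decide) t2 t3
    have t7 := st (by decide) (by decide) t3 t4
    have t8 := st (by decide) (by decide) t1 t6
    have t9 := st (by decide) (by decide) t2 t7
    have t0 := st (by decide) (by decide) t1 t9
    fin_cases i <;> fin_cases j <;> first | assumption | exact absurd ij (by decide)
  refine ⟨K, eq_bot_iff.2 fun x hx => ?_, by rw [← e, comap_map_eq, sup_comm]⟩
  have inj := ((φ.subgroupMap_surjective K).bijective_of_nat_card_le (hK.trans (e ▸ cU))).1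
  exact congrArg Subtype.val (inj (a₁ := ⟨x, hx.1⟩) (a₂ := 1) (by rw [map_one]; exact Subtype.ext hx.2))

end Cfsg.Lib.R10
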