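import Cfsg.Agent.R10.PD

/-! Adjusting the four generators. -/

set_option autoImplicit false
set_option maxRecDepth 100000
set_option synthInstance.maxSize 16384
set_option synthInstance.maxHeartbeats 400000

namespace Cfsg.Lib.R10

open Subgroup Cfsg.Lib.Trans Cfsg.Lib.Gold Matrix

universe u

variable {Γ : Type u} [Group Γ] {φ : Γ →* L5} {θ : Mt → Γ}

namespace P5

def ac (g m : Mt) : Mt := g * m * gᵀ

/-- The change of a commutator. -/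
def K (g h : L5) (m n : Mt) : Mt := m + ac g.1 n + ac (g * h).1 m + ac (g * h * g).1 n

def Fx (g : L5) (m : Mt) : Prop := Al m ∧ ac g.1 m = m

instance (g : L5) (m : Mt) : Decidable (Fx g m) := inferInstanceAs (Decidable (_ ∧ _))

theorem ac_eq_1 : type_of% @ac.eq_1 := @ac.eq_1
theorem K_eq_1 : type_of% @K.eq_1 := @K.eq_1
theorem Fx_eq_1 : type_of% @Fx.eq_1 := @Fx.eq_1

theorem K0 (g h : L5) : K g h 0 0 = 0 := by simp [K, ac]

theorem F0 (g : L5) : Fx g 0 := ⟨al_zero, by simp [ac]⟩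

theorem al_K (g h : L5) {m n : Mt} (hm : Al m) (hn : Al n) : Al (K g h m n) :=
  ((hm.add (hn.act _)).add (hm.act _)).add (hn.act _)

theorem s1 : ∀ x y z : ZMod 2, Fx (tv 0 1) (x • wm 0 3 + z • wm 3 4) ∧ Fx (tv 2 3) (y • wm 1 4) ∧
    K (tv 0 1) (tv 2 3) (x • wm 0 3 + z • wm 3 4) (y • wm 1 4) = x • wm 0 2 + y • wm 0 4 + z • wm 2 4 := by
  decide +kernel

theorem s2 : ∀ x y z : ZMod 2, Fx (tv 0 1) (y • wm 0 4 + z • wm 2 4) ∧ Fx (tv 3 4) (x • wm 1 2) ∧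
    K (tv 0 1) (tv 2 3) (y • wm 0 4 + z • wm 2 4) 0 = 0 ∧
    K (tv 0 1) (tv 3 4) (y • wm 0 4 + z • wm 2 4) (x • wm 1 2) = x • wm 0 2 + y • wm 0 3 + z • wm 2 3 := by
  decide +kernel

theorem s3 : ∀ x y z : ZMod 2, Fx (tv 1 2) (y • wm 0 4 + z • wm 1 4) ∧ Fx (tv 3 4) (x • wm 0 2) ∧
    K (tv 0 1) (tv 3 4) 0 (x • wm 0 2) = 0 ∧
    K (tv 1 2) (tv 3 4) (y • wm 0 4 + z • wm 1 4) (x • wm 0 2) = x • wm 0 1 + y • wm 0 3 + z • wm 1 3 := by
  decide +kernel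

theorem s4 : ∀ x y : ZMod 2, Fx (tv 0 1) (x • wm 2 3) ∧ Fx (tv 1 2) (y • wm 3 4) ∧
    K (tv 0 1) (tv 2 3) (x • wm 2 3) 0 = 0 ∧ K (tv 0 1) (tv 3 4) (x • wm 2 3) 0 = 0 ∧
    K (tv 1 2) (tv 3 4) (y • wm 3 4) 0 = 0 ∧
    K (tv 0 1) (tv 1 2) (x • wm 2 3) (y • wm 3 4) = x • (wm 0 3 + wm 1 3) ∧
    K (tv 1 2) (tv 2 3) (y • wm 3 4) 0 = y • (wm 1 4 + wm 2 4) ∧
    K (tv 0 2) (tv 1 3) (x • (wm 0 3 + wm 1 3)) (y • (wm 1 4 + wm 2 4)) =
      x • wm 0 1 + y • wm 0 4 + (0 : ZMod 2) • wm 1 4 := by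
  decide +kernel

theorem s5 : ∀ x y : ZMod 2, Fx (tv 2 3) (x • wm 0 4) ∧ Fx (tv 3 4) (y • wm 3 4) ∧
    K (tv 0 1) (tv 2 3) 0 (x • wm 0 4) = 0 ∧ K (tv 0 1) (tv 3 4) 0 (y • wm 3 4) = 0 ∧
    K (tv 1 2) (tv 3 4) 0 (y • wm 3 4) = 0 ∧ K (tv 1 2) (tv 2 3) 0 (x • wm 0 4) = 0 ∧
    K (tv 2 3) (tv 3 4) (x • wm 0 4) (y • wm 3 4) = x • (wm 0 2 + wm 0 3) + y • (wm 2 3 + wm 2 4) ∧
    K (tv 1 3) (tv 2 4) 0 (x • (wm 0 2 + wm 0 3) + y • (wm 2 3 + wm 2 4)) =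
      x • wm 0 1 + (0 : ZMod 2) • wm 0 2 + y • wm 1 2 := by
  decide +kernel

theorem tvs : km (tv 0 1) (tv 1 2) = tv 0 2 ∧ km (tv 1 2) (tv 2 3) = tv 1 3 ∧
    km (tv 2 3) (tv 3 4) = tv 2 4 := by
  simp only [km]
  decide +kernel

theorem km_mod (h : Md φ θ) (x y : Γ) {m n : Mt} (hm : Al m) (hn : Al n) :
    km (θ m * x) (θ n * y) = θ (K (φ x) (φ y) m n) * km x y := by
  simp only [K, ac, h.add, ← map_mul]
  rw [← h.act x n hn, ← h.act (x * y) m hm, ← h.act (x * y * x) n hn]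
  simp only [km]
  group

theorem phi_mod (h : Md φ θ) (x : Γ) {m : Mt} (hm : Al m) : φ (θ m * x) = φ x := by
  rw [map_mul, h.phi hm, one_mul]

theorem sq_mod (h : Md φ θ) {x : Γ} {g : L5} (e : φ x = g) (x2 : x * x = 1) {m : Mt} (hm : Fx g m) :
    θ m * x * (θ m * x) = 1 := by
  have := hm.2
  simp only [ac] at this
  rw [mul_assoc, ← mul_assoc x, h.act' x hm.1, e, this, mul_assoc, x2, mul_one, h.sq]

theorem gn_mod (h : Md φ θ) {a b c d : Γ} (g : Gn φ a b c d) {p q r s : Mt} (hp : Fx (tv 0 1) p)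
    (hq : Fx (tv 1 2) q) (hr : Fx (tv 2 3) r) (hs : Fx (tv 3 4) s) :
    Gn φ (θ p * a) (θ q * b) (θ r * c) (θ s * d) :=
  ⟨(phi_mod h a hp.1).trans g.fa, (phi_mod h b hq.1).trans g.fb, (phi_mod h c hr.1).trans g.fc,
    (phi_mod h d hs.1).trans g.fd, sq_mod h g.fa g.a2 hp, sq_mod h g.fb g.b2 hq,
    sq_mod h g.fc g.c2 hr, sq_mod h g.fd g.d2 hs⟩

theorem phi_km (x y : Γ) : φ (km x y) = km (φ x) (φ y) := by simp only [km, map_mul]

theorem nmem {B : Subgroup Γ} {x y : Γ} (hx : x ∈ Ns B) (x2 : x * x = 1) (hy : y ∈ B) :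
    x * y * x ∈ B := by
  have := (mem_normalizer_iff.1 hx y).1 hy
  rwa [inv_eq_of_mul_eq_one_right x2] at this

theorem km_sq (hc : Cl5 φ θ) {i j k l : Fin 5} {x y : Γ} (hx : φ x = tv i j) (hy : φ y = tv k l)
    (x2 : x * x = 1) (y2 : y * y = 1) (e : i ≠ j ∧ k ≠ l ∧ i ≠ l) : km x y * km x y = 1 := by
  obtain ⟨B, hB, m⟩ := (hc k l e.2.1).2 y hy y2
  exact hB.sq _ (B.mul_mem (nmem (hB.nrm x i j e.2.2 e.1 hx) x2 m) m)

theorem shape (h : Md φ θ) (hc : Cl5 φ θ) {i j k l : Fin 5} {x y : Γ} (hx : φ x = tv i j)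
    (hy : φ y = tv k l) (x2 : x * x = 1) (y2 : y * y = 1) (e : i ≠ j ∧ k ≠ l ∧ i ≠ l ∧ k ≠ j) :
    ∃ m, Al m ∧ km x y = θ m ∧ (∀ a, m a j = 0) ∧ ∀ a, m a l = 0 := by
  obtain ⟨B, hB, m⟩ := (hc k l e.2.1).2 y hy y2
  obtain ⟨C, hC, m'⟩ := (hc i j e.1).2 x hx x2
  have h1 : km x y ∈ B := B.mul_mem (nmem (hB.nrm x i j e.2.2.1 e.1 hx) x2 m) m
  have h2 : km x y ∈ C := by
    have := C.mul_mem m' (nmem (hC.nrm y k l e.2.2.2 e.2.1 hy) y2 m')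
    simpa only [km, mul_assoc] using this
  obtain ⟨n, hn, k⟩ := (h.ker (km x y)).1 (by
    rw [phi_km, hx, hy, km, MD.tv_comm i j k l e.2.2.2.symm e.2.2.1, mul_assoc (tv k l), MD.tv_sq,
      mul_one, MD.tv_sq])
  exact ⟨n, hn, k.symm, hC.z n hn (k ▸ h2), hB.z n hn (k ▸ h1)⟩

def Tr (j l p q r a b : Fin 5) : Prop :=
  b ≤ a ∨ (a = j ∨ a = l ∨ b = j ∨ b = l) ∧ wm p q a b = 0 ∧ wm p r a b = 0 ∧
    wm q r a b = 0 ∨ (a = p ∧ b = q) ∧ wm p q a b = 1 ∧ wm p r a b = 0 ∧ wm q r a b = 0 ∨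
    (a = p ∧ b = r) ∧ wm p q a b = 0 ∧ wm p r a b = 1 ∧ wm q r a b = 0 ∨
    (a = q ∧ b = r) ∧ wm p q a b = 0 ∧ wm p r a b = 0 ∧ wm q r a b = 1

theorem Tr_eq_1 : type_of% @Tr.eq_1 := @Tr.eq_1

instance (j l p q r a b : Fin 5) : Decidable (Tr j l p q r a b) :=
  @instDecidableOr _ _ _ (@instDecidableOr _ _ inferInstance (@instDecidableOr _ _ inferInstance
    (@instDecidableOr _ _ inferInstance inferInstance)))

theorem three {m : Mt} (hm : Al m) {j l p q r : Fin 5} (h1 : ∀ a, m a j = 0) (h2 : ∀ a, m a l = 0)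
    (e : ∀ a b : Fin 5, Tr j l p q r a b) :
    m = m p q • wm p q + m p r • wm p r + m q r • wm q r := by
  have s : ∀ (x : ZMod 2) (u v : Fin 5), Al (x • wm u v) := by decide +kernel
  refine hm.ext (((s _ _ _).add (s _ _ _)).add (s _ _ _)) fun a b ab => ?_
  simp only [Matrix.add_apply, Matrix.smul_apply, smul_eq_mul]
  rcases (e a b).resolve_left (not_le.2 ab) with ⟨k, e1, e2, e3⟩ | ⟨⟨rfl, rfl⟩, e1, e2, e3⟩ | ⟨⟨rfl, rfl⟩, e1, e2, e3⟩ |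
    ⟨⟨rfl, rfl⟩, e1, e2, e3⟩ <;> rw [e1, e2, e3] <;> simp only [mul_zero, mul_one, add_zero, zero_add]
  rcases k with rfl | rfl | rfl | rfl
  · rw [← hm.symm, h1]
  · rw [← hm.symm, h2]
  · exact h1 _
  · exact h2 _

theorem comm_of {x y : Γ} (x2 : x * x = 1) (y2 : y * y = 1) (e : km x y = 1) : x * y = y * x := by
  have : x * y = (x * y)⁻¹ := eq_inv_of_mul_eq_one_left (by rw [← mul_assoc]; exact e)
  rw [this, _root_.mul_inv_rev, inv_eq_of_mul_eq_one_right x2, inv_eq_of_mul_eq_one_right y2]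

theorem can {x : Γ} (x2 : x * x = 1) (y : Γ) : x * (x * y) = y := by rw [← mul_assoc, x2, one_mul]

theorem kc {x y : Γ} (x2 : x * x = 1) (y2 : y * y = 1) (k2 : km x y * km x y = 1) :
    Commute x (km x y) ∧ Commute y (km x y) := by
  have e : km x y = km y x := by
    rw [← mul_one (km x y), ← show km x y * km y x = 1 by simp only [km, mul_assoc, can x2, can y2, x2],
      can k2]
  constructor
  · show x * km x y = km x y * x
    conv_rhs => rw [e]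
    simp only [km, mul_assoc, can x2, x2, mul_one]
  · show y * km x y = km x y * y
    conv_lhs => rw [e]
    simp only [km, mul_assoc, can y2, y2, mul_one]

theorem fixc {a b c : Γ} (a2 : a * a = 1) (b2 : b * b = 1) (c2 : c * c = 1) (ac : a * c = c * a)
    (u2 : km a b * km a b = 1) (v2 : km b c * km b c = 1)
    (w2 : km a (km b c) * km a (km b c) = 1) :
    a * km (km a b) (km b c) * a⁻¹ = km (km a b) (km b c) := by
  have ac' : ∀ x, c * (a * x) = a * (c * x) := fun x => by rw [← mul_assoc, ← ac, mul_assoc]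
  have e5 : b * c * b * c * b = c * b * c := by
    have := (kc b2 c2 v2).1.eq
    simp only [km, mul_assoc, can b2] at this ⊢
    exact this.symm
  have e1 : km (km a b) c = b * km a (km b c) * b := by
    have : km a b * (b * km a (km b c) * b) = a * c * b * c * a * (b * c * b * c * b) := by
      simp only [km, mul_assoc, can a2, can b2]
    rw [← can u2 (b * km a (km b c) * b), this, e5]
    simp only [km, mul_assoc, ac', can c2]
  have uw : Commute (km a b) (km a (km b c)) := by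
    have h1 := (kc u2 c2 (by rw [e1]; simp only [mul_assoc, can b2, can w2, b2])).1
    rw [e1] at h1
    have h2 := (kc a2 b2 u2).2.symm
    have := (h2.mul_right h1).mul_right h2
    simpa only [mul_assoc, can b2, b2, mul_one] using this
  have au := (kc a2 b2 u2).1
  have vw := (kc a2 v2 w2).2
  generalize km a b = u at *
  generalize km b c = v at *
  have av : ∀ x, a * (v * x) = km a v * (v * (a * x)) := fun x => by
    simp only [km, mul_assoc, can v2, can a2]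
  generalize km a v = w at *
  have au' : ∀ x, a * (u * x) = u * (a * x) := fun x => by rw [← mul_assoc, au.eq, mul_assoc]
  have uw' : ∀ x, u * (w * x) = w * (u * x) := fun x => by rw [← mul_assoc, uw.eq, mul_assoc]
  have vw' : ∀ x, v * (w * x) = w * (v * x) := fun x => by rw [← mul_assoc, vw.eq, mul_assoc]
  simp only [km, mul_assoc, au', av, mul_inv_cancel, mul_one, uw', vw', can w2]

theorem kill (h : Md φ θ) {x y : Γ} {m n k : Mt} (hm : Al m) (hn : Al n)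
    (e : K (φ x) (φ y) m n = k) (e' : km x y = θ k) : km (θ m * x) (θ n * y) = 1 := by
  rw [km_mod h x y hm hn, e, e', h.sq]

theorem keep (h : Md φ θ) {x y : Γ} {m n : Mt} (hm : Al m) (hn : Al n)
    (e : K (φ x) (φ y) m n = 0) (e' : km x y = 1) : km (θ m * x) (θ n * y) = 1 :=
  kill h hm hn e (e'.trans h.zero.symm)

theorem t01 : ∀ x y z : ZMod 2, ac (tv 0 1).1 (x • wm 0 1 + y • wm 0 4 + z • wm 1 4) =
    x • wm 0 1 + y • wm 0 4 + z • wm 1 4 → z = 0 := by decide +kernel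

theorem t12 : ∀ x y z : ZMod 2, ac (tv 1 2).1 (x • wm 0 1 + y • wm 0 2 + z • wm 1 2) =
    x • wm 0 1 + y • wm 0 2 + z • wm 1 2 → y = 0 := by decide +kernel

variable (h : Md φ θ) (hc : Cl5 φ θ)
include h hc

theorem st1 : ∃ a b c d, Gn φ a b c d ∧ km a c = 1 := by
  obtain ⟨a, fa, a2⟩ := (hc 0 1 (by decide)).1
  obtain ⟨b, fb, b2⟩ := (hc 1 2 (by decide)).1
  obtain ⟨c, fc, c2⟩ := (hc 2 3 (by decide)).1
  obtain ⟨d, fd, d2⟩ := (hc 3 4 (by decide)).1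
  obtain ⟨m, hm, e, h1, h2⟩ := shape h hc fa fc a2 c2 (by decide)
  obtain ⟨p, q, k⟩ := s1 (m 0 2) (m 0 4) (m 2 4)
  rw [← three hm h1 h2 (by decide +kernel), ← fa, ← fc] at k
  exact ⟨_, _, _, _, gn_mod h ⟨fa, fb, fc, fd, a2, b2, c2, d2⟩ p (F0 _) q (F0 _), kill h p.1 q.1 k e⟩

theorem st2 : ∃ a b c d, Gn φ a b c d ∧ km a c = 1 ∧ km a d = 1 := by
  obtain ⟨a, b, c, d, g, r1⟩ := st1 h hc
  obtain ⟨m, hm, e, h1, h2⟩ := shape h hc g.fa g.fd g.a2 g.d2 (by decide)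
  obtain ⟨p, q, k1, k⟩ := s2 (m 0 2) (m 0 3) (m 2 3)
  rw [← three hm h1 h2 (by decide +kernel), ← g.fa, ← g.fd] at k
  rw [← g.fa, ← g.fc] at k1
  exact ⟨_, _, _, _, gn_mod h g p (F0 _) (F0 _) q, keep h p.1 al_zero k1 r1, kill h p.1 q.1 k e⟩

theorem st3 : ∃ a b c d, Gn φ a b c d ∧ km a c = 1 ∧ km a d = 1 ∧ km b d = 1 := by
  obtain ⟨a, b, c, d, g, r1, r2⟩ := st2 h hc
  obtain ⟨m, hm, e, h1, h2⟩ := shape h hc g.fb g.fd g.b2 g.d2 (by decide)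
  obtain ⟨p, q, k1, k⟩ := s3 (m 0 1) (m 0 3) (m 1 3)
  rw [← three hm h1 h2 (by decide +kernel), ← g.fb, ← g.fd] at k
  rw [← g.fa, ← g.fd] at k1
  exact ⟨_, _, _, _, gn_mod h g (F0 _) p (F0 _) q, keep h al_zero al_zero (K0 _ _) r1,
    keep h al_zero q.1 k1 r2, kill h p.1 q.1 k e⟩

omit h in
theorem gn_km {a b c d : Γ} (g : Gn φ a b c d) : φ (km a b) = tv 0 2 ∧ φ (km b c) = tv 1 3 ∧
    φ (km c d) = tv 2 4 ∧ km a b * km a b = 1 ∧ km b c * km b c = 1 ∧ km c d * km c d = 1 := by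
  rw [phi_km, phi_km, phi_km, g.fa, g.fb, g.fc, g.fd]
  exact ⟨tvs.1, tvs.2.1, tvs.2.2, km_sq hc g.fa g.fb g.a2 g.b2 (by decide),
    km_sq hc g.fb g.fc g.b2 g.c2 (by decide), km_sq hc g.fc g.fd g.c2 g.d2 (by decide)⟩

theorem st4 : ∃ a b c d, Gn φ a b c d ∧ km a c = 1 ∧ km a d = 1 ∧ km b d = 1 ∧
    km (km a b) (km b c) = 1 := by
  obtain ⟨a, b, c, d, g, r1, r2, r3⟩ := st3 h hc
  obtain ⟨f1, f2, -, u2, v2, -⟩ := gn_km hc g
  obtain ⟨m, hm, e, h1, h2⟩ := shape h hc f1 f2 u2 v2 (by decide)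
  have e3 := three (p := 0) (q := 1) (r := 4) hm h1 h2 (by decide +kernel)
  have fx := fixc g.a2 g.b2 g.c2 (comm_of g.a2 g.c2 r1) u2 v2 (km_sq hc g.fa f2 g.a2 v2 (by decide))
  rw [e, h.act a m hm, g.fa] at fx
  have z := t01 (m 0 1) (m 0 4) (m 1 4) (by rw [← e3]; exact h.inj' (hm.act _) hm fx)
  obtain ⟨p, q, k1, k2, k3, n1, n2, k⟩ := s4 (m 0 1) (m 0 4)
  rw [← z, ← e3, ← n1, ← n2, ← f1, ← f2] at k
  rw [← g.fa, ← g.fc] at k1
  rw [← g.fa, ← g.fd] at k2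
  rw [← g.fb, ← g.fd] at k3
  refine ⟨_, _, _, _, gn_mod h g p q (F0 _) (F0 _), keep h p.1 al_zero k1 r1,
    keep h p.1 al_zero k2 r2, keep h q.1 al_zero k3 r3, ?_⟩
  rw [km_mod h a b p.1 q.1, km_mod h b c q.1 al_zero, g.fa, g.fb, g.fc]
  exact kill h (al_K _ _ p.1 q.1) (al_K _ _ q.1 al_zero) k e

theorem st5 : ∃ a b c d, Gn φ a b c d ∧ km a c = 1 ∧ km a d = 1 ∧ km b d = 1 ∧
    km (km a b) (km b c) = 1 ∧ km (km b c) (km c d) = 1 := by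
  obtain ⟨a, b, c, d, g, r1, r2, r3, r4⟩ := st4 h hc
  obtain ⟨-, f2, f3, -, u2, v2⟩ := gn_km hc g
  obtain ⟨m, hm, e, h1, h2⟩ := shape h hc f2 f3 u2 v2 (by decide)
  have e3 := three (p := 0) (q := 1) (r := 2) hm h1 h2 (by decide +kernel)
  have fx := fixc g.b2 g.c2 g.d2 (comm_of g.b2 g.d2 r3) u2 v2 (km_sq hc g.fb f3 g.b2 v2 (by decide))
  rw [e, h.act b m hm, g.fb] at fx
  have z := t12 (m 0 1) (m 0 2) (m 1 2) (by rw [← e3]; exact h.inj' (hm.act _) hm fx)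
  obtain ⟨p, q, k1, k2, k3, n1, n2, k⟩ := s5 (m 0 1) (m 1 2)
  rw [← n2] at k
  nth_rw 1 [← n1] at k
  rw [← z, ← e3, ← f2, ← f3] at k
  rw [← g.fa, ← g.fc] at k1
  rw [← g.fa, ← g.fd] at k2
  rw [← g.fb, ← g.fd] at k3
  refine ⟨_, _, _, _, gn_mod h g (F0 _) (F0 _) p q, keep h al_zero p.1 k1 r1,
    keep h al_zero q.1 k2 r2, keep h al_zero q.1 k3 r3, ?_, ?_⟩
  · rw [km_mod h a b al_zero al_zero, km_mod h b c al_zero p.1, K0, g.fb, g.fc, n1]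
    exact keep h al_zero al_zero (K0 _ _) r4
  · rw [km_mod h b c al_zero p.1, km_mod h c d p.1 q.1, g.fb, g.fc, g.fd]
    exact kill h (al_K _ _ al_zero p.1) (al_K _ _ p.1 q.1) k e

end P5

open P5

theorem Md.rl [Finite Γ] (h : Md φ θ) (hc : Cl5 φ θ) : ∃ a b c d, Gn φ a b c d ∧ Rl a b c d := by
  obtain ⟨a, b, c, d, g, r1, r2, r3, r4, r5⟩ := st5 h hc
  obtain ⟨-, -, -, u2, v2, w2⟩ := gn_km hc g
  exact ⟨a, b, c, d, g, comm_of g.a2 g.c2 r1, comm_of g.a2 g.d2 r2, comm_of g.b2 g.d2 r3,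
    comm_of u2 v2 r4, comm_of v2 w2 r5⟩

end Cfsg.Lib.R10
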