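import Cfsg.Agent.R10.YD
import Cfsg.Agent.Gold.Cm
import Mathlib.LinearAlgebra.Matrix.Block
import Mathlib.LinearAlgebra.Matrix.GeneralLinearGroup.Card

/-! `T` is a Sylow 2-subgroup of `N(A)`. -/

set_option autoImplicit false

namespace Cfsg.Lib.R10

open Subgroup Cfsg.Lib.Trans Cfsg.Lib.Gold Matrix
open scoped commutatorElement

universe u

variable {G : Type u} [Group G] [Finite G] {θ : Mt → G} {ψ : L5 →* G}

theorem Y0.card_L5 : Nat.card L5 = 9999360 := by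
  have k : Function.Bijective (Matrix.SpecialLinearGroup.toGL : L5 →* GL (Fin 5) (ZMod 2)) := by
    refine ⟨Matrix.SpecialLinearGroup.toGL_injective, fun g => ?_⟩
    have z : ∀ a : ZMod 2, a ≠ 0 → a = 1 := by decide
    have d : (g : Mt).det = 1 := z _ (Matrix.GeneralLinearGroup.det g).ne_zero
    exact ⟨⟨g, d⟩, Units.ext (Matrix.SpecialLinearGroup.coe_GL_coe_matrix _)⟩
  rw [Nat.card_congr (Equiv.ofBijective _ k), Matrix.card_GL_field]
  simp [Fin.prod_univ_five]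

theorem Y0.card_U5 : Nat.card U5 = 2 ^ 10 := by
  let f : U5 → ({p : Fin 5 × Fin 5 // p.1 < p.2} → ZMod 2) := fun g p => g.1.1 p.1.1 p.1.2
  have k : Function.Bijective f := by
    refine ⟨fun g g' e => Subtype.ext (Up.ext g.2 g'.2 fun i j hij => congrFun e ⟨(i, j), hij⟩),
      fun v => ?_⟩
    let M : Mt := Matrix.of fun i j => if h : i < j then v ⟨(i, j), h⟩ else (1 : Mt) i j
    have hM : ∀ i j : Fin 5, j ≤ i → M i j = (1 : Mt) i j := fun i j e => dif_neg (not_lt.2 e)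
    have hd : M.det = 1 := by
      rw [Matrix.det_of_isUpperTriangular (M := M) fun i j e => by
        rw [hM i j (le_of_lt e)]; exact Matrix.one_apply_ne (ne_of_gt e)]
      exact Finset.prod_eq_one fun i _ => by rw [hM i i le_rfl]; exact Matrix.one_apply_eq i
    exact ⟨⟨⟨M, hd⟩, hM⟩, funext fun p => dif_pos p.2⟩
  rw [Nat.card_congr (Equiv.ofBijective _ k), Nat.card_fun, Nat.card_zmod,
    Nat.card_eq_fintype_card]
  congr 1

theorem sylU : IsSylowIn 2 U5 ⊤ := by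
  refine ⟨le_top, IsPGroup.of_card Y0.card_U5, ?_⟩
  have k := card_mul_relIndex (le_top (a := U5))
  rw [Y0.card_U5, Subgroup.card_top, Y0.card_L5] at k
  omega

omit [Finite G] in
theorem Y0.card_of (h : Fr θ ψ) (U : Subgroup L5) (H : Subgroup G)
    (k : ∀ x, x ∈ H ↔ ∃ m g, Al m ∧ g ∈ U ∧ x = θ m * ψ g) :
    Nat.card H = Nat.card (AA θ) * Nat.card U := by
  let f : AA θ × U → H := fun p => ⟨p.1.1 * ψ p.2.1, by
    obtain ⟨m, hm, e⟩ := h.mem_AA.1 p.1.2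
    exact (k _).2 ⟨m, p.2.1, hm, p.2.2, by rw [e]⟩⟩
  have hf : Function.Bijective f := by
    refine ⟨fun p q e => ?_, fun x => ?_⟩
    · obtain ⟨m, hm, e1⟩ := h.mem_AA.1 p.1.2
      obtain ⟨m', hm', e2⟩ := h.mem_AA.1 q.1.2
      have e3 : θ m * ψ p.2.1 = θ m' * ψ q.2.1 := by
        rw [e1, e2]; exact congrArg Subtype.val e
      obtain ⟨e4, e5⟩ := h.el_inj hm hm' e3
      exact Prod.ext (Subtype.ext (by rw [← e1, ← e2, e4])) (Subtype.ext e5)
    · obtain ⟨m, g, hm, hg, e⟩ := (k _).1 x.2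
      exact ⟨(⟨θ m, h.θ_mem hm⟩, ⟨g, hg⟩), Subtype.ext e.symm⟩
  rw [← Nat.card_congr (Equiv.ofBijective _ hf), Nat.card_prod]

theorem Fr.sylT (h : Fr θ ψ) : IsSylowIn 2 (TT θ ψ) (Ns (AA θ)) := by
  have c1 := Y0.card_of h U5 (TT θ ψ) fun x => h.mem_TT
  have c2 := Y0.card_of h ⊤ (Ns (AA θ)) fun x => (h.nrm x).trans
    ⟨fun ⟨m, g, a, b⟩ => ⟨m, g, a, mem_top _, b⟩, fun ⟨m, g, a, _, b⟩ => ⟨m, g, a, b⟩⟩
  have hA : IsPGroup 2 (AA θ) := fun a => ⟨1, Subtype.ext (by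
    obtain ⟨m, _, e⟩ := h.mem_AA.1 a.2
    have := h.sq m
    rw [e] at this
    simpa [pow_two] using this)⟩
  obtain ⟨n, hn⟩ := (IsPGroup.iff_card (p := 2)).1 hA
  rw [Y0.card_U5] at c1
  rw [Subgroup.card_top, Y0.card_L5] at c2
  refine ⟨h.TT_le_Ns, IsPGroup.of_card (n := n + 10) (by rw [c1, hn, pow_add]), ?_⟩
  have k := card_mul_relIndex h.TT_le_Ns
  rw [c1, c2, mul_assoc] at k
  have k2 := Nat.eq_of_mul_eq_mul_left Nat.card_pos k
  omega

theorem Fr.toN (h : Fr θ ψ) {g : G} {B : Subgroup G} (e : cj g (AA θ) = B)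
    (hB : TT θ ψ ≤ Ns B) : ∃ n ∈ Ns (TT θ ψ), cj n (AA θ) = B := by
  have s1 : IsSylowIn 2 (cj g (TT θ ψ)) (Ns B) := by
    have := h.sylT.cj g
    rwa [cj_Ns, e] at this
  have s2 : IsSylowIn 2 (TT θ ψ) (Ns B) :=
    s1.of_card_ge h.sylT.isPGroup hB (card_cj g _).le
  obtain ⟨x, hx, e1⟩ := s2.exists_cj_eq s1
  refine ⟨x * g, cj_eq_self_iff.1 (by rw [cj_mul, e1]), ?_⟩
  rw [cj_mul, e, cj_eq_of_mem_normalizer hx]

end Cfsg.Lib.R10
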