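import Cfsg.Agent.R10.P6a
import Cfsg.Agent.R10.Y0

/-! From the splitting over a Sylow subgroup to the frame. -/

set_option autoImplicit false
set_option linter.unusedVariables false

namespace Cfsg.Lib.R10

open Subgroup Cfsg.Lib.Trans Cfsg.Lib.Gold Matrix

universe u

variable {Γ : Type u} [Group Γ] [Finite Γ] {φ : Γ →* L5} {θ : Mt → Γ}

theorem Md.split_of (h : Md φ θ) {K : Subgroup Γ} (h1 : K ⊓ φ.ker = ⊥)
    (h2 : φ.ker ⊔ K = U5.comap φ) : ∃ ψ : L5 →* Γ, ∀ g, φ (ψ g) = g :=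
  P6.split_of sylU h h1 h2

theorem front_of {G : Type u} [Group G] [Finite G] (A : Subgroup G) (hA : IsElementaryAbelian 2 A)
    (hcard : Nat.card A = 2 ^ 10)
    (hL : Nonempty (normalizer (A : Set G) ⧸ A.subgroupOf (normalizer (A : Set G)) ≃*
      SpecialLinearGroup (Fin 5) (ZMod 2)))
    (hirr : ∀ W : Subgroup G, W ≤ A → normalizer (A : Set G) ≤ normalizer (W : Set G) →
      W = ⊥ ∨ W = A)
    (hO : ∀ T : Sylow 2 ↥(normalizer (A : Set G)), ∀ s : ↥(normalizer (A : Set G)),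
      s ∈ (T : Subgroup ↥(normalizer (A : Set G))) → orderOf s = 2 →
      (∀ y ∈ (T : Subgroup ↥(normalizer (A : Set G))), y * s = s * y) →
      Cfsg.pPrimeCore 2 ↥(centralizer ({(s : G)} : Set G)) = ⊥)
    (sp : ∀ (φ : Ns A →* L5) (θ : Mt → Ns A), Md φ θ → ∃ ψ : L5 →* Ns A, ∀ g, φ (ψ g) = g) :
    ∃ (θ : Mt → G) (ψ : L5 →* G), Fr θ ψ ∧ AA θ = A :=
  P6.front_of sylU A hA hcard hL hirr hO sp

end Cfsg.Lib.R10
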