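import Cfsg.Agent.R10.PD
import Cfsg.Agent.R10.Mod
import Cfsg.Agent.Solv.Gaschutz

/-! From the splitting over a Sylow subgroup to the frame. -/

set_option autoImplicit false
set_option linter.unusedVariables false
set_option linter.unusedSectionVars false

namespace Cfsg.Lib.R10

open Subgroup Cfsg.Lib.Trans Cfsg.Lib.Gold Matrix

universe u

namespace P6

/-- The alternating matrix with the same upper triangle. -/
def al (m : Mt) : Mt := Matrix.of fun i j => if i < j then m i j else if j < i then m j i else 0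

theorem al_al (m : Mt) : Al (al m) := by
  refine ⟨?_, fun i => by simp [al]⟩
  ext i j
  rcases lt_trichotomy i j with e | rfl | e
  · simp [al, e, e.not_gt]
  · rfl
  · simp [al, e, e.not_gt]

theorem al_eq {m : Mt} (h : Al m) : al m = m :=
  (al_al m).ext h fun i j e => by simp [al, e]

theorem al_add (m m' : Mt) : al (m + m') = al m + al m' := by
  ext i j
  simp only [al, of_apply, Matrix.add_apply]
  split_ifs <;> simp

variable {Γ : Type u} [Group Γ] [Finite Γ] {φ : Γ →* L5} {θ : Mt → Γ}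

theorem ker2 (h : Md φ θ) : IsPGroup 2 φ.ker := fun x => ⟨1, by
  obtain ⟨m, -, e⟩ := (h.ker x).1 x.2
  refine Subtype.ext ?_
  rw [pow_one, sq, coe_mul, ← e, h.sq]
  rfl⟩

theorem split_of (hU : IsSylowIn 2 U5 ⊤) (h : Md φ θ) {K : Subgroup Γ} (h1 : K ⊓ φ.ker = ⊥)
    (h2 : φ.ker ⊔ K = U5.comap φ) : ∃ ψ : L5 →* Γ, ∀ g, φ (ψ g) = g := by
  have : IsMulCommutative φ.ker := ⟨⟨fun x y => by
    obtain ⟨m, -, e⟩ := (h.ker x).1 x.2
    obtain ⟨m', -, e'⟩ := (h.ker y).1 y.2
    refine Subtype.ext ?_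
    rw [coe_mul, coe_mul, ← e, ← e', h.comm]⟩⟩
  have hc : (Nat.card φ.ker).Coprime (U5.comap φ).index := by
    obtain ⟨n, hn⟩ := IsPGroup.iff_card.1 (ker2 h)
    rw [hn, index_comap_of_surjective _ h.surj]
    refine Nat.Coprime.pow_left n ((Nat.Prime.coprime_iff_not_dvd Nat.prime_two).2 ?_)
    rw [← relIndex_top_right]
    exact hU.not_dvd
  obtain ⟨H, hH⟩ := Cfsg.Lib.Solv.gaschutz_exists φ.ker (U5.comap φ) (h2 ▸ le_sup_left) hc K h1 h2
  have bij : Function.Bijective (φ.comp H.subtype) := by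
    refine ⟨(injective_iff_map_eq_one _).2 fun x hx => Subtype.ext ?_, fun g => ?_⟩
    · exact disjoint_def.1 hH.disjoint (show (x : Γ) ∈ φ.ker from hx) x.2
    · obtain ⟨x, rfl⟩ := h.surj g
      obtain ⟨⟨k, y⟩, e⟩ := hH.2 x
      refine ⟨y, ?_⟩
      have e' : (k : Γ) * y = x := e
      rw [← e', map_mul, show φ k = 1 from k.2, one_mul]
      rfl
  exact ⟨H.subtype.comp (MulEquiv.ofBijective _ bij).symm.toMonoidHom,
    fun g => (MulEquiv.ofBijective _ bij).apply_symm_apply g⟩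

theorem front_of (hU : IsSylowIn 2 U5 ⊤) {G : Type u} [Group G] [Finite G] (A : Subgroup G)
    (hA : IsElementaryAbelian 2 A) (hcard : Nat.card A = 2 ^ 10)
    (hL : Nonempty (normalizer (A : Set G) ⧸ A.subgroupOf (normalizer (A : Set G)) ≃*
      SpecialLinearGroup (Fin 5) (ZMod 2)))
    (hirr : ∀ W : Subgroup G, W ≤ A → normalizer (A : Set G) ≤ normalizer (W : Set G) →
      W = ⊥ ∨ W = A)
    (hO : ∀ T : Sylow 2 ↥(normalizer (A : Set G)), ∀ s : ↥(normalizer (A : Set G)),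
      s ∈ (T : Subgroup ↥(normalizer (A : Set G))) → orderOf s = 2 →
      (∀ y ∈ (T : Subgroup ↥(normalizer (A : Set G))), y * s = s * y) →
      Cfsg.pPrimeCore 2 ↥(centralizer ({(s : G)} : Set G)) = ⊥)
    (sp : ∀ (φ : Ns A →* L5) (θ : Mt → Ns A), Md φ θ → ∃ ψ : L5 →* Ns A, ∀ g, φ (ψ g) = g) :
    ∃ (θ : Mt → G) (ψ : L5 →* G), Fr θ ψ ∧ AA θ = A := by
  obtain ⟨φ, θ, e1, e2, e3, e4, e5, e6⟩ := modid A hA hcard hL hirr
  let θ' : Mt → Ns A := fun m => ⟨θ (al m), le_normalizer ((e4 _).2 ⟨_, al_al m, rfl⟩)⟩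
  have v : ∀ {m}, Al m → (θ' m : G) = θ m := fun hm => congrArg θ (al_eq hm)
  have h : Md φ θ' :=
    { surj := e1
      add := fun m m' => Subtype.ext ((congrArg θ (al_add m m')).trans (e3 _ _))
      ker := fun x => by
        rw [← MonoidHom.mem_ker, e2, mem_subgroupOf, e4]
        exact exists_congr fun m => and_congr_right fun hm => by rw [Subtype.ext_iff, v hm]
      inj := fun m hm e => e5 m hm ((v hm).symm.trans (congrArg Subtype.val e))
      act := fun n m hm => Subtype.ext (by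
        rw [v (hm.act _), ← e6 n m hm, ← v hm]
        rfl) }
  obtain ⟨ψ, hψ⟩ := sp φ θ' h
  have eA : AA θ = A := le_antisymm ((closure_le _).2 fun a ha => (e4 a).2 ha)
    fun a ha => subset_closure ((e4 a).1 ha)
  refine ⟨θ, (Ns A).subtype.comp ψ, ⟨e3, e5, fun g m hm => ?_, fun n => ?_, ?_⟩, eA⟩
  · have := e6 (ψ g) m hm
    rwa [hψ] at this
  · rw [eA]
    refine ⟨fun hn => ?_, ?_⟩
    · obtain ⟨m, hm, e⟩ := h.diff (hψ (φ ⟨n, hn⟩)).symm
      refine ⟨m, φ ⟨n, hn⟩, hm, ?_⟩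
      rw [← v hm]
      exact congrArg Subtype.val e
    · rintro ⟨m, g, hm, rfl⟩
      exact mul_mem (le_normalizer ((e4 _).2 ⟨m, hm, rfl⟩)) (ψ g).2
  · have hT := hU.comap φ (ker2 h) (MonoidHom.range_eq_top.2 e1).ge
    rw [comap_top] at hT
    obtain ⟨T, eT⟩ := hT.exists_sylow_eq
    have := hO T (θ' (wm 0 1)) (by
        rw [eT, mem_comap, h.phi (al_wm 0 1)]
        exact one_mem _)
      (orderOf_eq_prime ((sq _).trans (h.sq _)) fun e =>
        absurd (h.inj _ (al_wm 0 1) e) (by decide))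
      fun y hy => by
        rw [eT, mem_comap, mem_U5] at hy
        rw [h.act' y (al_wm 0 1), CB.act_z hy]
    rw [v (al_wm 0 1)] at this
    exact ppCoreOf_eq_bot_iff.2 this

end P6

end Cfsg.Lib.R10
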