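import Cfsg.Agent.R10.P2
import Cfsg.Agent.R10.P3
import Cfsg.Agent.R10.P4
import Cfsg.Agent.R10.P5
import Cfsg.Agent.R10.P6

/-! The extension `2¹⁰ . L₅(2)` splits. -/

set_option autoImplicit false

namespace Cfsg.Lib.R10

universe u

theorem Md.split {Γ : Type u} [Group Γ] [Finite Γ] {φ : Γ →* L5} {θ : Mt → Γ} (h : Md φ θ) :
    ∃ ψ : L5 →* Γ, ∀ g, φ (ψ g) = g := by
  obtain ⟨B, B', t⟩ := h.two
  have hc := h.cl5 t
  obtain ⟨a, b, c, d, g, r⟩ := h.rl hc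
  obtain ⟨K, h1, h2⟩ := h.compl hc g r
  exact h.split_of h1 h2

end Cfsg.Lib.R10
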