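import Cfsg.Agent.R10.YD
import Cfsg.Agent.R10.ModD

/-! Setting for the splitting of `2¹⁰ . L₅(2)`. -/

set_option autoImplicit false

namespace Cfsg.Lib.R10

open Subgroup Cfsg.Lib.Trans Cfsg.Lib.Gold Matrix

universe u

variable {Γ : Type u} [Group Γ]

/-- An extension of the alternating matrices by `L₅(2)`. -/
structure Md (φ : Γ →* L5) (θ : Mt → Γ) : Prop where
  surj : Function.Surjective φ
  add : ∀ m m', θ (m + m') = θ m * θ m'
  ker : ∀ x, φ x = 1 ↔ ∃ m, Al m ∧ θ m = x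
  inj : ∀ m, Al m → θ m = 1 → m = 0
  act : ∀ (n : Γ) m, Al m → n * θ m * n⁻¹ = θ ((φ n).1 * m * (φ n).1ᵀ)

/-- An elementary abelian subgroup over the transvections in column `j`. -/
structure Col (φ : Γ →* L5) (θ : Mt → Γ) (j : Fin 5) (B : Subgroup Γ) : Prop where
  sq : ∀ x ∈ B, x * x = 1
  z : ∀ m, Al m → θ m ∈ B → ∀ i, m i j = 0
  nrm : ∀ (n : Γ) (k l : Fin 5), k ≠ j → k ≠ l → φ n = tv k l → n ∈ Ns B

/-- The two elementary abelian subgroups over the last column. -/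
structure Two (φ : Γ →* L5) (θ : Mt → Γ) (B B' : Subgroup Γ) : Prop where
  r : ∀ x ∈ B, R4 (φ x)
  r' : ∀ x ∈ B', R4 (φ x)
  sq : ∀ x ∈ B, x * x = 1
  sq' : ∀ x ∈ B', x * x = 1
  z : ∀ m, Al m → (θ m ∈ B ↔ W6 m)
  z' : ∀ m, Al m → (θ m ∈ B' ↔ W6 m)
  ex : ∀ g, R4 g → ∃ x ∈ B, φ x = g
  rel : ∀ x ∈ B, ∀ m, Al m → (∀ i : Fin 5, i.val < 4 → m i 4 = (φ x).1 i 4) → x * θ m ∈ B'
  rel' : ∀ x ∈ B', ∀ m, Al m → (∀ i : Fin 5, i.val < 4 → m i 4 = (φ x).1 i 4) → x * θ m ∈ B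
  all : ∀ x, R4 (φ x) → φ x ≠ 1 → x * x = 1 → x ∈ B ∨ x ∈ B'

/-- Involutions over the four simple root elements. -/
structure Gn (φ : Γ →* L5) (a b c d : Γ) : Prop where
  fa : φ a = tv 0 1
  fb : φ b = tv 1 2
  fc : φ c = tv 2 3
  fd : φ d = tv 3 4
  a2 : a * a = 1
  b2 : b * b = 1
  c2 : c * c = 1
  d2 : d * d = 1

/-- The commutator of two involutions. -/
def km (x y : Γ) : Γ := x * y * x * y

/-- The five relations. -/
structure Rl (a b c d : Γ) : Prop where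
  ac : a * c = c * a
  ad : a * d = d * a
  bd : b * d = d * b
  c4 : km a b * km b c = km b c * km a b
  c5 : km b c * km c d = km c d * km b c

/-- Every involution over a root element lies in a column group. -/
def Cl5 (φ : Γ →* L5) (θ : Mt → Γ) : Prop :=
  ∀ i j : Fin 5, i ≠ j → (∃ x, φ x = tv i j ∧ x * x = 1) ∧
    ∀ x, φ x = tv i j → x * x = 1 → ∃ B, Col φ θ j B ∧ x ∈ B

namespace Md

variable {φ : Γ →* L5} {θ : Mt → Γ} (h : Md φ θ)
include h

theorem zero : θ 0 = 1 := by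
  have := h.add 0 0
  rw [add_zero] at this
  exact left_eq_mul.1 this

theorem sq (m : Mt) : θ m * θ m = 1 := by rw [← h.add, CA.madd, h.zero]

theorem inv (m : Mt) : (θ m)⁻¹ = θ m := inv_eq_of_mul_eq_one_right (h.sq m)

theorem comm (m m' : Mt) : θ m * θ m' = θ m' * θ m := by rw [← h.add, add_comm, h.add]

theorem inj' {m m' : Mt} (hm : Al m) (hm' : Al m') (e : θ m = θ m') : m = m' := by
  have := h.inj _ (hm.add hm') (by rw [h.add, e, h.sq])
  rw [← add_zero m, ← CA.madd m', ← add_assoc, this, zero_add]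

theorem phi {m : Mt} (hm : Al m) : φ (θ m) = 1 := (h.ker _).2 ⟨m, hm, rfl⟩

theorem act' (n : Γ) {m : Mt} (hm : Al m) : n * θ m = θ ((φ n).1 * m * (φ n).1ᵀ) * n := by
  rw [← h.act n m hm, inv_mul_cancel_right]

/-- Two elements with the same image differ by an alternating matrix. -/
theorem diff {x y : Γ} (e : φ x = φ y) : ∃ m, Al m ∧ x = θ m * y := by
  obtain ⟨m, hm, k⟩ := (h.ker (x * y⁻¹)).1 (by rw [map_mul, map_inv, e, mul_inv_cancel])
  exact ⟨m, hm, by rw [k, inv_mul_cancel_right]⟩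

end Md

end Cfsg.Lib.R10
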