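import Cfsg.Agent.Gold.Cm
import Cfsg.Agent.Gold.KLiftInner

/-! Weakly closed elementary abelian subgroups with an invariant quadratic form: definitions. -/

set_option autoImplicit false

namespace Cfsg.Lib.R10.SC

open Subgroup Cfsg.Lib.Trans Cfsg.Lib.Gold

universe u

variable {X : Type u} [Group X]

/-- A conjugacy class `Ω` of weakly closed subgroups with forms `β`, `q`. -/
structure Hy (β : X → X → ZMod 2) (q : X → ZMod 2) (Ω : Subgroup X → Prop) : Prop where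
  symm : ∀ u v, β u v = β v u
  add : ∀ r u v, r * u = u * r → r * v = v * r → β r (u * v) = β r u + β r v
  conj : ∀ g u v, β (g * u * g⁻¹) (g * v * g⁻¹) = β u v
  self : ∀ u, β u u = 0
  qconj : ∀ g u, q (g * u * g⁻¹) = q u
  qadd : ∀ u v, u * u = 1 → v * v = 1 → u * v = v * u → q (u * v) = q u + q v + β u v
  cjm : ∀ g V, Ω V → Ω (cj g V)
  sq : ∀ V, Ω V → ∀ v ∈ V, v * v = 1
  nd : ∀ V, Ω V → ∀ v ∈ V, (∀ w ∈ V, β v w = 0) → v = 1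
  wc : ∀ V W, Ω V → Ω W → W ≤ Ns V → W = V
  n1 : ∀ V W, Ω V → Ω W → ∀ b ∈ W, b ∈ Ns V → b ∉ V → 2 < (C1 b).relIndex V
  n2 : ∀ V W, Ω V → Ω W → ∀ b ∈ W, ∀ b' ∈ W, b ∈ Ns V → b' ∈ Ns V → b ∉ V → b' ∉ V →
    b * b' ∉ V → 4 < (C1 b).relIndex V ∨ 4 < (C1 b').relIndex V ∨ 4 < (C1 (b * b')).relIndex V

/-- An extremal pair. -/
structure Mx (Ω : Subgroup X → Prop) (V W : Subgroup X) : Prop where
  oV : Ω V
  oW : Ω W
  ad : ¬ W ⊓ Ns V ≤ V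
  m1 : ∀ V' W', Ω V' → Ω W' → ¬ W' ⊓ Ns V' ≤ V' → Nat.card ↥(V' ⊓ W') ≤ Nat.card ↥(V ⊓ W)
  m2 : ∀ V' W', Ω V' → Ω W' → ¬ W' ⊓ Ns V' ≤ V' → Nat.card ↥(V' ⊓ W') = Nat.card ↥(V ⊓ W) →
    Nat.card ↥(V' ⊓ Ns W') ≤ Nat.card ↥(V ⊓ Ns W)

end Cfsg.Lib.R10.SC
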