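import Cfsg.Agent.R10.SC1

/-! Symmetric extremal pairs. -/

set_option autoImplicit false
set_option linter.unusedSectionVars false
set_option linter.unusedVariables false

namespace Cfsg.Lib.R10.SC

open Subgroup Cfsg.Lib.Trans Cfsg.Lib.Gold Cfsg.Lib.Solv
open Cfsg.Lib.Local.CD (card_mul_le_card_sup_mul_card_inf)

universe u

variable {X : Type u} [Group X] [Finite X] {β : X → X → ZMod 2} {q : X → ZMod 2}
  {Ω : Subgroup X → Prop} {V W : Subgroup X} {a b c v x ρ : X}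

theorem Mx.dec (h : Hy β q Ω) (m : Mx Ω V W) (m' : Mx Ω W V) (aV : a ∈ V) (aN : a ∉ Ns W)
    (cV : c ∈ V) (cN : c ∈ Ns W) :
    ∃ j ∈ V ⊓ W, ∃ b ∈ W ⊓ Ns V, c = j * (a * b * a⁻¹ * b⁻¹) := by
  have h1 : cj a (W ⊓ Ns V) ≤ V ⊓ Ns W ⊔ W ⊓ Ns V := cj_le_iff.2 fun b hb => by
    simpa using mul_mem (mem_sup_left (m.comm h hb.1 hb.2 aV) : _ ∈ V ⊓ Ns W ⊔ W ⊓ Ns V)
      (mem_sup_right hb)
  have n1 : V ⊓ Ns W ≤ Ns (W ⊓ Ns V) :=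
    fun b hb => mem_Ns_inf hb.2 (le_normalizer (le_normalizer hb.1))
  have c1 := card_mul_le_card_sup_mul_card_inf (W ⊓ Ns V) (cj a (W ⊓ Ns V))
  have c2 := Local.CD.card_sup_mul_card_inf_of_le_normalizer n1
  have c3 := m'.m2 _ _ m.oV m.oW m.ad (by rw [inf_comm])
  have c4 : Nat.card ↥(W ⊓ Ns V ⊓ cj a (W ⊓ Ns V)) ≤ Nat.card ↥(V ⊓ Ns W ⊓ (W ⊓ Ns V)) :=
    Subgroup.card_le_of_le (by
      rintro _ ⟨k, b, hb, rfl⟩
      have k' : a * b * a⁻¹ ∈ W ⊓ Ns V := k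
      have bV : b ∈ V := by
        by_contra bV
        exact aN (m.one h hb.1 hb.2 bV aV (mul_mem k'.1 (inv_mem hb.1)))
      exact ⟨mem_inf.2 ⟨mul_mem (mul_mem aV bV) (inv_mem aV), le_normalizer k'.1⟩, k⟩)
  rw [card_cj] at c1
  have e := eq_of_le_of_card_ge (sup_le le_sup_right h1) (Nat.le_of_mul_le_mul_right
    (c2.le.trans ((Nat.mul_le_mul_right _ c3).trans (c1.trans (Nat.mul_le_mul_left _ c4))))
    Nat.card_pos)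
  obtain ⟨_, ⟨b, hb, rfl⟩, b', hb', e'⟩ := (Coprime.mem_sup_iff'
    (h1.trans (sup_le n1 le_normalizer))).1 (e.ge (mem_sup_left ⟨cV, cN⟩))
  have e2 : c = a * b * a⁻¹ * b⁻¹ * (b * b') := by rw [← e']; simp [mul_assoc]
  have k := (mem_inf.1 (m.comm h hb.1 hb.2 aV)).1
  have k2 : b * b' ∈ V := (mul_mem_cancel_left k).1 (e2 ▸ cV)
  exact ⟨_, ⟨k2, mul_mem hb.1 hb'.1⟩, b, hb, e2.trans (h.cm m.oV k k2)⟩

theorem Mx.perp (h : Hy β q Ω) (m : Mx Ω V W) (bW : b ∈ W) (vV : v ∈ V) (hρ : ρ ∈ V ⊓ W) :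
    β ρ (v * b * v⁻¹ * b⁻¹) = 0 := by
  have c1 : Commute ρ v := h.cm m.oV hρ.1 vV
  have c2 : Commute ρ b := h.cm m.oW hρ.2 bW
  have e := h.conj v ρ b
  rw [h.cj1 m.oV vV hρ.1] at e
  rw [h.add _ _ _ ((c1.mul_right c2).mul_right c1.inv_right) c2.inv_right, e, h.inv m.oW bW]
  exact CharTwo.add_self_eq_zero _

theorem Mx.rad (h : Hy β q Ω) (m : Mx Ω V W) (m' : Mx Ω W V) (hρ : ρ ∈ V ⊓ W)
    (r : ∀ j ∈ V ⊓ W, β ρ j = 0) (cV : c ∈ V) (cN : c ∈ Ns W) : β ρ c = 0 := by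
  obtain ⟨a, aV, aN⟩ := SetLike.not_le_iff_exists.1 (m.not_le h)
  obtain ⟨j, hj, b, hb, rfl⟩ := m.dec h m' aV aN cV cN
  rw [h.add _ _ _ (h.cm m.oV hρ.1 hj.1) (h.cm m.oV hρ.1 (cmem' aV hb.2)), r j hj,
    m.perp h hb.1 aV hρ, add_zero]

namespace SC2

/-- Members of `Ω` which normalise `D`. -/
structure Nb (Ω : Subgroup X → Prop) (I D : Subgroup X) (k : ℕ) (U : Subgroup X) : Prop where
  o : Ω U
  le : I ≤ U
  dn : D ≤ Ns U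
  nd : U ≤ Ns D
  card : Nat.card ↥(U ⊓ D) = k
  cD : ∀ y ∈ U, y ∉ D → ∀ d ∈ D, y * d * y⁻¹ * d⁻¹ ∈ I → d ∈ U
  big : ¬ U ⊓ D ≤ I
  nle : ¬ D ≤ U

variable {I D U U' : Subgroup X} {k : ℕ} {g w : X}

theorem Nb.le_N (h : Hy β q Ω) (n : Nb Ω I D k U) : U ≤ Ns D ⊓ Cs I :=
  le_inf n.nd fun y hy => mem_Cs.2 fun j hj => h.cm n.o (n.le hj) hy

theorem Nb.cj (h : Hy β q Ω) (n : Nb Ω I D k U) (hg : g ∈ Ns D ⊓ Cs I) : Nb Ω I D k (cj g U) := by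
  have eD : Trans.cj g D = D := cj_eq_of_mem_normalizer hg.1
  have eI : Trans.cj g I = I := cj_eq_of_mem_normalizer (centralizer_le_normalizer _ hg.2)
  refine ⟨h.cjm g U n.o, eI.ge.trans (cj_mono g n.le), ?_, ?_, ?_, ?_, ?_, ?_⟩
  · rw [← cj_Ns]; exact eD.ge.trans (cj_mono g n.dn)
  · rw [← eD, ← cj_Ns]; exact cj_mono g n.nd
  · rw [← eD, ← cj_inf, card_cj, n.card]
  · rw [← eD, ← eI]
    intro y hy yD d hd e
    rw [mem_cj] at hy yD hd e ⊢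
    exact n.cD _ hy yD _ hd (by simpa [mul_assoc] using e)
  · rw [← eD, ← eI, ← cj_inf]; exact fun e => n.big fun y hy => conj_mem_cj.1 (e (conj_mem_cj.2 hy))
  · rw [← eD]; exact fun e => n.nle fun y hy => conj_mem_cj.1 (e (conj_mem_cj.2 hy))

theorem Nb.eq (n : Nb Ω I D k U) (n' : Nb Ω I D k U') (e : U ⊓ D ≤ U') : U ⊓ D = U' ⊓ D :=
  eq_of_le_of_card_ge (le_inf e inf_le_right) (by rw [n.card, n'.card])

theorem even (h : Hy β q Ω)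
    (hm : ∀ V' W', Ω V' → Ω W' → ¬ W' ⊓ Ns V' ≤ V' → Nat.card ↥(V' ⊓ W') ≤ Nat.card I)
    (n : Nb Ω I D k U) (n' : Nb Ω I D k U') (aU : a ∈ U) (aD : a ∉ D) (hw : w ∈ Ns D)
    (w2 : w * w ∈ KL.cmod D I) (aw : a * w * a⁻¹ = w⁻¹) (yU : a * w ∈ U') (yD : a * w ∉ D) :
    ∀ c ∈ U ⊓ D, w * c * w⁻¹ = c := by
  have s1 : ∀ c ∈ U ⊓ D, w * c * w⁻¹ ∈ U ⊓ D := fun c hc => by
    refine ⟨n.cD a aU aD _ (mem_normalizer_conj hw hc.2) ?_, mem_normalizer_conj hw hc.2⟩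
    have := inv_mem (w2.2 _ (mem_normalizer_conj' hw hc.2))
    rw [show a * (w * c * w⁻¹) * a⁻¹ = a * w * a⁻¹ * (a * c * a⁻¹) * (a * w * a⁻¹)⁻¹ by group, aw,
      h.cj1 n.o aU hc.1]
    simpa [mul_assoc] using this
  obtain ⟨d, hd, dI, e⟩ : ∃ d ∈ U ⊓ D, d ∉ I ∧ w * d * w⁻¹ * d⁻¹ ∈ I := by
    obtain ⟨c, hc, cI⟩ := SetLike.not_le_iff_exists.1 n.big
    by_cases e : w * c * w⁻¹ * c⁻¹ ∈ I
    · exact ⟨c, hc, cI, e⟩
    refine ⟨_, mul_mem (s1 c hc) (inv_mem hc), e, ?_⟩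
    have e1 := h.sq U n.o _ (mul_mem hc.1 (inv_mem (s1 c hc).1 : _ ∈ U))
    have e2 := w2.2 c hc.2
    rwa [show w * (w * c * w⁻¹ * c⁻¹) * w⁻¹ * (w * c * w⁻¹ * c⁻¹)⁻¹ = w * w * c * (w * w)⁻¹ * c⁻¹ *
      (c * (w * c * w⁻¹)⁻¹ * (c * (w * c * w⁻¹)⁻¹)) by group, e1, mul_one]
  have dU : d ∈ U' := n'.cD _ yU yD d hd.2 (by
    rwa [show a * w * d * (a * w)⁻¹ = a * (w * d * w⁻¹) * a⁻¹ by group,
      h.cj1 n.o aU (s1 d hd).1])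
  have e1 : U ⊓ D ≤ U' := by
    by_contra k
    refine dI ((eq_of_le_of_card_ge (le_inf n'.le n.le) (hm _ _ n'.o n.o fun e => k ?_)).ge
      ⟨dU, hd.1⟩)
    exact (inf_le_inf_left U n'.dn).trans e
  intro c hc
  calc _ = a⁻¹ * (a * w * c * (a * w)⁻¹) * a⁻¹⁻¹ := by group
    _ = _ := by rw [h.cj1 n'.o yU (e1 hc), h.cj1 n.o (inv_mem aU) hc.1]

theorem odd (h : Hy β q Ω) (ID : I ≤ D) (hρ : ρ ∈ I) (n : Nb Ω I D k U) (n' : Nb Ω I D k U')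
    (r : ∀ c ∈ U ⊓ D, β ρ c = 0) (aU : a ∈ U) (hw : w ∈ KL.cmod D I) (yU : a * w ∈ U')
    (yD : a * w ∉ D) : β ρ (a * w) = β ρ a := by
  have s1 : ∀ d ∈ D, a * w * d * (a * w)⁻¹ * d⁻¹ = w * d * w⁻¹ * d⁻¹ * (a * d * a⁻¹ * d⁻¹) :=
    fun d hd => by
      conv_rhs => rw [← h.cj1 n.o aU (n.le (hw.2 d hd))]
      group
  have e := n.eq n' fun c hc => n'.cD _ yU yD c hc.2 (by
    rw [s1 c hc.2, h.cj1 n.o aU hc.1, mul_inv_cancel, mul_one]; exact hw.2 c hc.2)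
  have M : ∀ {U}, Nb Ω I D k U → U ≤ Cs (U ⊓ D) ⊓ KL.cmod D (U ⊓ D) := fun n y hy =>
    ⟨mem_Cs.2 fun j hj => h.cm n.o hj.1 hy, n.nd hy, fun d hd =>
      ⟨cmem' hy (n.dn hd), cmem (n.nd hy) hd⟩⟩
  obtain ⟨g, hg, eg⟩ := h.conjIn n'.o n.o
  have gM := sup_le (e ▸ M n') (M n) hg
  obtain ⟨a1, a1U, ea⟩ := eg.ge yU
  have ea' : g * a1 * g⁻¹ = a * w := ea
  have c1 : ∀ c ∈ U ⊓ D, g * c * g⁻¹ = c := fun c hc => by
    rw [← mem_Cs.1 gM.1 c hc, mul_inv_cancel_right]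
  have e1 := h.conj g ρ a1
  rw [c1 ρ ⟨n.le hρ, ID hρ⟩, ea'] at e1
  have s2 : ∀ d ∈ D, a * a1 * d * (a * a1)⁻¹ * d⁻¹ ∈ I := fun d hd => by
    have t1 := (inv_mem gM.2 : g⁻¹ ∈ KL.cmod D (U ⊓ D)).2 d hd
    have t2 := (M n a1U).2.2 d hd
    have t3 := (M n aU).2.2 d hd
    have t4 : a * w * d * (a * w)⁻¹ * d⁻¹ = a1 * d * a1⁻¹ * d⁻¹ := by
      calc _ = g * (a1 * (g⁻¹ * d * g⁻¹⁻¹ * d⁻¹) * a1⁻¹ * (a1 * d * a1⁻¹ * d⁻¹) * d) * g⁻¹ * d⁻¹ := by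
            rw [← ea']; group
        _ = g * (a1 * d * a1⁻¹ * d⁻¹) * g⁻¹ := by
            rw [h.cj1 n.o a1U t1.1, h.cm n.o t1.1 t2.1]; group
        _ = _ := c1 _ t2
    rw [show a * a1 * d * (a * a1)⁻¹ * d⁻¹ =
      a * (a1 * d * a1⁻¹ * d⁻¹) * a⁻¹ * (a * d * a⁻¹ * d⁻¹) by group, h.cj1 n.o aU t2.1, ← t4, s1 d hd,
      mul_assoc _ _ (a * d * a⁻¹ * d⁻¹), h.sq U n.o _ t3.1, mul_one]
    exact hw.2 d hd
  have s3 : a * a1 ∈ D := by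
    by_contra k
    exact n.nle fun d hd => n.cD _ (mul_mem aU a1U) k d hd (s2 d hd)
  have s4 := r _ ⟨mul_mem aU a1U, s3⟩
  rw [h.add _ _ _ (h.cm n.o (n.le hρ) aU) (h.cm n.o (n.le hρ) a1U)] at s4
  rw [e1, ← CharTwo.neg_eq (β ρ a)]
  exact eq_neg_of_add_eq_zero_right s4

theorem lam (h : Hy β q Ω)
    (hm : ∀ V' W', Ω V' → Ω W' → ¬ W' ⊓ Ns V' ≤ V' → Nat.card ↥(V' ⊓ W') ≤ Nat.card I)
    (ID : I ≤ D) (hρ : ρ ∈ I) (n : Nb Ω I D k V) (n' : Nb Ω I D k W)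
    (r : ∀ c ∈ V ⊓ D, β ρ c = 0) (dec : ∀ d ∈ D, ∃ c ∈ V ⊓ D, ∃ b ∈ W ⊓ D, c * b = d)
    (aV : a ∈ V) (aD : a ∉ D) (xW : x ∈ W) (xD : x ∉ D) : β ρ a = β ρ x := by
  obtain ⟨t, ht⟩ : ∃ t, t = a * x := ⟨_, rfl⟩
  have tN : t ∈ Ns D ⊓ Cs I := ht ▸ mul_mem (n.le_N h aV) (n'.le_N h xW)
  have e1 : a * t = x := by rw [ht, ← mul_assoc, h.sq V n.o a aV, one_mul]
  have e2 : t⁻¹ * a = x := by rw [ht, mul_inv_rev, inv_mul_cancel_right, h.inv n'.o xW]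
  have refl : ∀ j : ℕ, ∃ U, Nb Ω I D k U ∧ a * t ^ j ∈ U ∧ a * t ^ j ∉ D ∧
      β ρ (a * t ^ j) = if Even j then β ρ a else β ρ x := fun j => by
    induction j using Nat.twoStepInduction with
    | zero => exact ⟨V, n, by simpa using aV, by simpa using aD, by simp⟩
    | one => exact ⟨W, n', by simpa [e1] using xW, by simpa [e1] using xD, by simp [e1]⟩
    | more j ih _ =>
      obtain ⟨U, n1, i1, i2, i3⟩ := ih
      have e : a * t ^ (j + 2) = t⁻¹ * (a * t ^ j) * t⁻¹⁻¹ := by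
        rw [← mul_assoc, e2, ← e1]; group
      refine ⟨_, n1.cj h (inv_mem tN), e ▸ conj_mem_cj.2 i1, fun c => i2 ?_, ?_⟩
      · rw [e] at c
        exact (mem_normalizer_iff.1 (inv_mem tN.1 : t⁻¹ ∈ Ns D) _).2 c
      · have := h.conj t⁻¹ ρ (a * t ^ j)
        rw [← mem_Cs.1 (inv_mem tN.2 : t⁻¹ ∈ Cs I) ρ hρ, mul_inv_cancel_right] at this
        rw [e, this, i3]
        simp [parity_simps]
  classical
  have ex : ∃ m, 0 < m ∧ t ^ m ∈ KL.cmod D I :=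
    ⟨_, orderOf_pos t, by rw [pow_orderOf_eq_one]; exact one_mem _⟩
  obtain ⟨m0, mK⟩ := Nat.find_spec ex
  rcases Nat.even_or_odd (Nat.find ex) with ⟨j, hj⟩ | ho
  · refine absurd ⟨by omega, ?_⟩ (Nat.find_min ex (show j < _ by omega))
    rw [hj, pow_add] at mK
    have wN : t ^ j ∈ Ns D := pow_mem tN.1 j
    obtain ⟨U, n1, i1, i2, -⟩ := refl j
    obtain ⟨U', n2, i3, i4, -⟩ := refl (j + 1)
    rw [pow_succ', ← mul_assoc, e1] at i3 i4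
    have f1 := even h hm n n1 aV aD wN mK (by
      rw [← conj_pow, ← inv_pow, e1, ← e2, mul_inv_cancel_right]) i1 i2
    have f2 := even h hm n' n2 xW xD wN mK (by
      rw [← conj_pow, ← inv_pow]
      congr 1
      rw [ht, mul_inv_rev, h.inv n'.o xW, h.inv n.o aV, ← mul_assoc, mul_assoc _ x,
        h.sq W n'.o x xW, mul_one]) i3 i4
    refine ⟨wN, fun d hd => ?_⟩
    obtain ⟨c, hc, b, hb, rfl⟩ := dec d hd
    rw [← conj_mul, f1 c hc, f2 b hb, mul_inv_cancel]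
    exact one_mem _
  · obtain ⟨U, n1, i1, i2, i3⟩ := refl (Nat.find ex)
    rw [if_neg (Nat.not_even_iff_odd.2 ho)] at i3
    rw [← i3, odd h ID hρ n n1 r aV mK i1 i2]

theorem inf_D (h : Hy β q Ω) (m : Mx Ω V W) : V ⊓ (V ⊓ Ns W ⊔ W ⊓ Ns V) = V ⊓ Ns W :=
  le_antisymm (inf_le_inf_left V (sup_le inf_le_right (inf_le_left.trans le_normalizer)))
    (le_inf inf_le_left le_sup_left)

theorem mem_D {d : X} (hd : d ∈ V ⊓ Ns W ⊔ W ⊓ Ns V) :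
    ∃ c ∈ V ⊓ Ns W, ∃ b ∈ W ⊓ Ns V, c * b = d := (Coprime.mem_sup_iff (A := W ⊓ Ns V)
  fun b hb => mem_Ns_inf hb.2 (le_normalizer (le_normalizer hb.1))).1 hd

theorem nb (h : Hy β q Ω) (m : Mx Ω V W) :
    Nb Ω (V ⊓ W) (V ⊓ Ns W ⊔ W ⊓ Ns V) (Nat.card ↥(V ⊓ Ns W)) V := by
  refine ⟨m.oV, inf_le_left, sup_le (inf_le_left.trans le_normalizer) inf_le_right,
    fun v hv => mem_normalizer_of_cj_le ?_, by rw [inf_D h m], fun y hy yD d hd e => ?_,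
    fun e => m.ad' h ((inf_D h m).ge.trans (e.trans inf_le_right)),
    fun e => m.ad (le_sup_right.trans e)⟩
  · rw [cj_sup]
    refine sup_le (cj_le_iff.2 fun c hc => ?_) (cj_le_iff.2 fun b hb => ?_)
    · rw [h.cj1 m.oV hv hc.1]; exact mem_sup_left hc
    · simpa using mul_mem (mem_sup_left (m.comm h hb.1 hb.2 hv) : _ ∈ V ⊓ Ns W ⊔ W ⊓ Ns V)
        (mem_sup_right hb)
  · obtain ⟨c, hc, b, hb, rfl⟩ := mem_D hd
    refine mul_mem hc.1 ?_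
    by_contra bV
    refine yD (mem_sup_left ⟨hy, m.one h hb.1 hb.2 bV hy ?_⟩)
    rw [show y * (c * b) * y⁻¹ * (c * b)⁻¹ = y * c * y⁻¹ * (y * b * y⁻¹ * b⁻¹) * c⁻¹ by group,
      h.cj1 m.oV hy hc.1, h.cj1 m.oV hc.1 (cmem' hy hb.2)] at e
    exact e.2

end SC2

theorem Mx.lam (h : Hy β q Ω) (m : Mx Ω V W) (m' : Mx Ω W V) (hρ : ρ ∈ V ⊓ W)
    (r : ∀ j ∈ V ⊓ W, β ρ j = 0) (aV : a ∈ V) (aN : a ∉ Ns W) (xW : x ∈ W) (xN : x ∉ Ns V) :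
    β ρ a = β ρ x := by
  have n' := SC2.nb h m'
  have e' := SC2.inf_D h m'
  rw [inf_comm W V, sup_comm, le_antisymm (m.m2 _ _ m.oW m.oV m'.ad (by rw [inf_comm]))
    (m'.m2 _ _ m.oV m.oW m.ad (by rw [inf_comm]))] at n'
  rw [sup_comm] at e'
  refine SC2.lam h m.m1 ((inf_le_inf_left V le_normalizer).trans le_sup_left) hρ (SC2.nb h m) n'
    (fun c hc => ?_) (fun d hd => ?_) aV (fun e => aN ((SC2.inf_D h m).le ⟨aV, e⟩).2) xW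
    fun e => xN (e'.le ⟨xW, e⟩).2
  · rw [SC2.inf_D h m] at hc
    exact m.rad h m' hρ r hc.1 hc.2
  · rw [SC2.inf_D h m, e']
    exact SC2.mem_D hd

end Cfsg.Lib.R10.SC
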