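import Cfsg.Agent.R10.SC2

/-! Weakly closed elementary abelian subgroups with an invariant quadratic form: the end. -/

set_option autoImplicit false
set_option linter.unusedSectionVars false
set_option linter.unusedVariables false

namespace Cfsg.Lib.R10.SC

open Subgroup Cfsg.Lib.Trans Cfsg.Lib.Gold Cfsg.Lib.Solv

universe u

variable {X : Type u} [Group X] [Finite X] {β : X → X → ZMod 2} {q : X → ZMod 2}
  {Ω : Subgroup X → Prop} {V W : Subgroup X} {a b c v x ρ : X}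

namespace SC3

theorem iv (h : Hy β q Ω) (o : Ω V) (vV : v ∈ V) : v⁻¹ = v :=
  inv_eq_of_mul_eq_one_right (h.sq V o v vV)

theorem cm (h : Hy β q Ω) (o : Ω V) (aV : a ∈ V) (vV : v ∈ V) : a * v = v * a := by
  rw [← iv h o (mul_mem aV vV), _root_.mul_inv_rev, iv h o aV, iv h o vV]

theorem ad (h : Hy β q Ω) (o : Ω V) (cV : c ∈ V) (aV : a ∈ V) (vV : v ∈ V) :
    β c (a * v) = β c a + β c v := h.add _ _ _ (cm h o cV aV) (cm h o cV vV)

theorem z2 (s : ZMod 2) : s + s = 0 := by revert s; decide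

theorem b1 (h : Hy β q Ω) (c : X) : β c 1 = 0 := by
  have := h.add c 1 1 (by simp) (by simp)
  rwa [mul_one, z2] at this

theorem cj1 (bN : b ∈ Ns V) (vV : v ∈ V) : b * v⁻¹ * b⁻¹ ∈ V :=
  (mem_normalizer_iff.1 bN _).1 (inv_mem vV)

theorem as (v b : X) : v * b * v⁻¹ * b⁻¹ = v * (b * v⁻¹ * b⁻¹) := by group

theorem mV (bN : b ∈ Ns V) (vV : v ∈ V) : v * b * v⁻¹ * b⁻¹ ∈ V :=
  as v b ▸ mul_mem vV (cj1 bN vV)

theorem mI (bW : b ∈ W) (bN : b ∈ Ns V) (cV : c ∈ V) (cN : c ∈ Ns W) :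
    c * b * c⁻¹ * b⁻¹ ∈ V ⊓ W :=
  ⟨mV bN cV, W.mul_mem ((mem_normalizer_iff.1 cN _).1 bW) (W.inv_mem bW)⟩

theorem fx (h : Hy β q Ω) (o : Ω V) (bN : b ∈ Ns V) (cV : c ∈ V) (e : c * b * c⁻¹ * b⁻¹ = 1)
    (vV : v ∈ V) : β c (v * b * v⁻¹ * b⁻¹) = 0 := by
  have e1 : b * c * b⁻¹ = c := by
    rw [mul_inv_eq_one, mul_inv_eq_iff_eq_mul] at e
    rw [← e, mul_inv_cancel_right]
  have := h.conj b c v⁻¹
  rw [e1] at this
  rw [as, ad h o cV vV (cj1 bN vV), this, iv h o vV, z2]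

theorem idx {H K : Subgroup X} (e : ∀ a ∈ K, ∀ a' ∈ K, a ∉ H → a' ∉ H → a * a' ∈ H) :
    H.relIndex K ≤ 2 := by
  refine Nat.le_of_dvd two_pos (relIndex_dvd_two_iff.2 ?_)
  by_cases c : K ≤ H
  · exact ⟨1, one_mem _, fun b hb => .inr (c hb)⟩
  · obtain ⟨a, ha, hn⟩ := SetLike.not_le_iff_exists.1 c
    exact ⟨a, ha, fun b hb => (em (b ∈ H)).symm.imp_left fun n => e b hb a ha n hn⟩

theorem caseA (h : Hy β q Ω) (m : Mx Ω V W) (m' : Mx Ω W V) {a' : X} (aV : a ∈ V) (aV' : a' ∈ V)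
    (aN : a ∉ Ns W) (aN' : a' ∉ Ns W) (aN'' : a * a' ∉ Ns W) : False := by
  have o := m.oV
  obtain ⟨x, xW, xN⟩ := SetLike.not_le_iff_exists.1 (m'.not_le h)
  have R : ∀ ρ ∈ V ⊓ W, (∀ j ∈ V ⊓ W, β ρ j = 0) → ρ = 1 := fun ρ hρ r => by
    have e := m.lam h m' hρ r (mul_mem aV aV') aN'' xW xN
    rw [ad h o hρ.1 aV aV', m.lam h m' hρ r aV aN xW xN, m.lam h m' hρ r aV' aN' xW xN, z2] at e
    refine h.nd V o ρ hρ.1 fun w hw => ?_
    by_cases c : w ∈ Ns W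
    · exact m.rad h m' hρ r hw c
    · rw [m.lam h m' hρ r hw c xW xN, e]
  have C : ∀ {b c v}, b ∈ W → b ∈ Ns V → c ∈ V → c ∈ Ns W → v ∈ V →
      β c (v * b * v⁻¹ * b⁻¹) = 0 := fun bW bN cV cN vV =>
    fx h o bN cV (R _ (mI bW bN cV cN) fun j hj => (h.symm _ _).trans (m.perp h bW cV hj)) vV
  obtain ⟨b, ⟨bW, bN⟩, bV⟩ := SetLike.not_le_iff_exists.1 m.ad
  have hy := m.comm h bW bN aV
  have yW : a * b * a⁻¹ * b⁻¹ ∉ W := fun c => aN (m.one h bW bN bV aV c)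
  have yB := fun c cV cN => C (c := c) bW bN cV cN aV
  generalize a * b * a⁻¹ * b⁻¹ = y at hy yW yB
  have k : ∀ v ∈ V, v ∉ Ns W → β y v = q y := fun v vV vN => by
    obtain ⟨j, hj, d, hd, e⟩ := m.dec h m' vV vN hy.1 hy.2
    obtain rfl : j = 1 := R j hj fun i hi => by
      have := yB i hi.1 (le_normalizer hi.2)
      rwa [e, ad h o hi.1 hj.1 (mV hd.2 vV), C hd.1 hd.2 hi.1 (le_normalizer hi.2) vV, add_zero,
        h.symm] at this
    have w := cj1 hd.2 vV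
    rw [h.symm, e, one_mul, as, ad h o vV vV w, h.self, zero_add,
      h.qadd _ _ (h.sq V o _ vV) (h.sq V o _ w) (cm h o vV w), h.qconj, iv h o vV, z2, zero_add]
  have e := k _ (mul_mem aV aV') aN''
  rw [ad h o hy.1 aV aV', k _ aV aN, k _ aV' aN', z2] at e
  refine yW (h.nd V o y hy.1 (fun w hw => ?_) ▸ one_mem _)
  by_cases c : w ∈ Ns W
  · rw [h.symm, yB w hw c]
  · rw [k w hw c, e]

theorem caseB (h : Hy β q Ω) (m : Mx Ω V W) (m' : Mx Ω W V)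
    (i2 : ∀ a ∈ V, ∀ a' ∈ V, a ∉ Ns W → a' ∉ Ns W → a * a' ∈ Ns W) : False := by
  have o := m.oV
  have z3 : ∀ s t : ZMod 2, s + t = 0 → t ≠ 0 → s = 1 := by decide
  have U0 : ∀ y ∈ V, y ≠ 1 → (∀ c ∈ V, c ∈ Ns W → β y c = 0) → ∀ a ∈ V, a ∉ Ns W → β y a = 1 :=
    fun y yV y1 p a aV aN => by
      obtain ⟨w, hw⟩ := not_forall.1 fun c => y1 (h.nd V o y yV c)
      obtain ⟨wV, w0⟩ := Classical.not_imp.1 hw
      have := p _ (mul_mem aV wV) (i2 a aV w wV aN fun c => w0 (p w wV c))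
      rw [ad h o yV aV wV] at this
      exact z3 _ _ this w0
  have U : ∀ y ∈ V, ∀ y' ∈ V, y ≠ 1 → y' ≠ 1 → (∀ c ∈ V, c ∈ Ns W → β y c = 0) →
      (∀ c ∈ V, c ∈ Ns W → β y' c = 0) → y * y' = 1 := fun y yV y' yV' y1 y1' p p' =>
    h.nd V o _ (mul_mem yV yV') fun w wV => by
      rw [h.symm, ad h o wV yV yV', h.symm w, h.symm w]
      by_cases c : w ∈ Ns W
      · rw [p w wV c, p' w wV c, add_zero]
      · rw [U0 y yV y1 p w wV c, U0 y' yV' y1' p' w wV c, z2]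
  have P : ∀ {b c}, b ∈ W → b ∈ Ns V → c ∈ V → c ∈ Ns W → ∀ d ∈ V, d ∈ Ns W →
      β (c * b * c⁻¹ * b⁻¹) d = 0 := fun bW bN cV cN d dV dN =>
    m.rad h m' (mI bW bN cV cN) (fun j hj => (h.symm _ _).trans (m.perp h bW cV hj)) dV dN
  have c1 : ∀ {b c : X}, c ∈ C1 b ↔ c * b * c⁻¹ * b⁻¹ = 1 := by
    intro b c
    rw [mem_C1, mul_inv_eq_one, mul_inv_eq_iff_eq_mul]
  have I1 : (V ⊓ Ns W).relIndex V ≤ 2 :=
    idx fun a aV a' aV' n n' => ⟨V.mul_mem aV aV', i2 a aV a' aV' (fun c => n ⟨aV, c⟩)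
      fun c => n' ⟨aV', c⟩⟩
  have I2 : ∀ b ∈ W, b ∈ Ns V → ¬ 4 < (C1 b).relIndex V := fun b bW bN => by
    have h1 : (C1 b).relIndex (V ⊓ Ns W) ≤ 2 := idx fun c hc c' hc' n n' => c1.2 (by
      have e := U _ (mV bN hc'.1) _ (mV bN hc.1) (fun e => n' (c1.2 e)) (fun e => n (c1.2 e))
        (P bW bN hc'.1 hc'.2) (P bW bN hc.1 hc.2)
      rw [← e, ← mul_inv_eq_iff_eq_mul.2 (cm h o hc.1 (mV bN hc'.1))]
      group)
    have h2 := relIndex_mul_relIndex (C1 b ⊓ (V ⊓ Ns W)) (V ⊓ Ns W) V inf_le_right inf_le_left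
    have h3 : (C1 b).relIndex V ≤ (C1 b ⊓ (V ⊓ Ns W)).relIndex V :=
      relIndex_le_of_le_left inf_le_left (by rw [relIndex]; exact index_ne_zero_of_finite)
    rw [inf_relIndex_right] at h2
    have := Nat.mul_le_mul h1 I1
    omega
  obtain ⟨b, ⟨bW, bN⟩, bV⟩ := SetLike.not_le_iff_exists.1 m.ad
  obtain ⟨a, aV, aN⟩ := SetLike.not_le_iff_exists.1 (m.not_le h)
  obtain ⟨c, hc, cn⟩ := SetLike.not_le_iff_exists.1 fun c : V ⊓ Ns W ≤ C1 b => by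
    have h1 := h.n1 V W o m.oW b bW bN bV
    have h3 : (C1 b).relIndex V ≤ (V ⊓ Ns W).relIndex V :=
      relIndex_le_of_le_left c (by rw [relIndex]; exact index_ne_zero_of_finite)
    omega
  have yV := mV bN aV
  have yW : a * b * a⁻¹ * b⁻¹ ∉ W := fun c => aN (m.one h bW bN bV aV c)
  have e := U _ yV _ (mV bN hc.1) (fun e => yW (e ▸ one_mem _)) (fun e => cn (c1.2 e))
    (fun d dV dN => by
      obtain ⟨j, hj, b', hb', rfl⟩ := m.dec h m' aV aN dV dN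
      rw [ad h o yV hj.1 (mV hb'.2 aV), h.symm, m.perp h bW aV hj, zero_add]
      by_cases n : b' ∈ V
      · rw [c1.1 (mem_C1.2 (cm h o aV n)), b1 h]
      · have v : b' * b ∈ V := by
          by_contra n'
          rcases h.n2 V W o m.oW b' hb'.1 b bW hb'.2 bN n bV n' with k | k | k
          exacts [I2 _ hb'.1 hb'.2 k, I2 _ bW bN k,
            I2 _ (W.mul_mem hb'.1 bW) ((Ns V).mul_mem hb'.2 bN) k]
        have e : b' * a⁻¹ * b'⁻¹ = b * a⁻¹ * b⁻¹ := by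
          rw [← mul_inv_eq_iff_eq_mul.2 (cm h o v (cj1 bN aV))]
          calc _ = b' * (b * b) * a⁻¹ * (b * b)⁻¹ * b'⁻¹ := by rw [h.sq W m.oW b bW]; group
            _ = _ := by group
        rw [as a b', e, ← as, h.self]) (P bW bN hc.1 hc.2)
  exact yW (eq_inv_of_mul_eq_one_left e ▸ W.inv_mem (mI bW bN hc.1 hc.2).2)

end SC3

theorem Mx.false (h : Hy β q Ω) (m : Mx Ω V W) (m' : Mx Ω W V) : False :=
  SC3.caseB h m m' fun _ aV _ aV' n n' => by_contra fun c => SC3.caseA h m m' aV aV' n n' c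

theorem Hy.sc (h : Hy β q Ω) (oV : Ω V) (oW : Ω W) : W ⊓ Ns V ≤ V := by
  by_contra c
  obtain ⟨V, W, m, m'⟩ := exists_sym h oV oW c
  exact m.false h m'

end Cfsg.Lib.R10.SC
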