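import Cfsg.Agent.R10.YD
import Cfsg.Agent.R10.ModP

/-! The structure of `Z6`, `O14` and `G01`. -/

set_option autoImplicit false
set_option linter.unusedSectionVars false
set_option linter.unusedVariables false

namespace Cfsg.Lib.R10

open Subgroup Cfsg.Lib.Trans Cfsg.Lib.Gold Matrix Ho CA
open scoped commutatorElement

universe u

namespace Y2

/-- The vector `h` with `r = 1 + h e₄ᵀ`. -/
def hc (r : L5) : V5 := fun i => if i = 4 then 0 else r.1 i 4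

/-- The last column. -/
def mc (m : Mt) : V5 := fun i => m i 4

theorem hc4 (r : L5) : hc r 4 = 0 := if_pos rfl

theorem hc_lt (r : L5) {i : Fin 5} (hi : i.val < 4) : hc r i = r.1 i 4 :=
  if_neg (by rintro rfl; exact absurd hi (by decide))

theorem lt4 {i : Fin 5} (hi : i ≠ 4) : i.val < 4 := by revert i; decide

theorem mc_ap (m : Mt) (i : Fin 5) : mc m i = m i 4 := rfl

theorem mc_add (m m' : Mt) : mc (m + m') = mc m + mc m' := rfl

theorem w6_iff {m : Mt} : W6 m ↔ Al m ∧ mc m = 0 := and_congr Iff.rfl funext_iff.symm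

theorem wg0 (v : V5) : wg v 0 = 0 := by ext i j; simp [wg_ent]

theorem wg_self (v : V5) : wg v v = 0 := by ext i j; rw [wg_ent]; exact z2 _

theorem mc_wg {v w : V5} (hv : v 4 = 0) (hw : w 4 = 0) : mc (wg v w) = 0 := by
  ext i; simp [mc_ap, wg_ent, hv, hw]

theorem r4_ent {r : L5} (hr : R4 r) (i k : Fin 5) :
    r.1 i k = (1 : Mt) i k + if k = 4 then hc r i else 0 := by
  by_cases hk : k = 4
  · subst hk
    by_cases hi : i = 4
    · subst hi; rw [hr 4 4 (by decide), hc4]; simp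
    · rw [if_pos rfl, one_apply_ne hi, zero_add, hc_lt r (lt4 hi)]
  · rw [if_neg hk, add_zero, hr i k fun e => hk e.2]

theorem r4_mul {r : L5} (hr : R4 r) (M : Mt) (i j : Fin 5) :
    (r.1 * M) i j = M i j + hc r i * M 4 j := by
  simp only [mul_apply, r4_ent hr, add_mul, Finset.sum_add_distrib, ite_mul, zero_mul,
    Finset.sum_ite_eq', Finset.mem_univ, if_true, one_apply, one_mul, Finset.sum_ite_eq]

theorem mul_r4 {r : L5} (hr : R4 r) (M : Mt) (i j : Fin 5) :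
    (M * r.1) i j = M i j + if j = 4 then (M *ᵥ hc r) i else 0 := by
  by_cases e : j = 4 <;>
    simp [mul_apply, r4_ent hr, mul_add, Finset.sum_add_distrib, one_apply, e, mulVec, dotProduct]

theorem act_r4 {r : L5} (hr : R4 r) {m : Mt} (hm : Al m) :
    r.1 * m * r.1ᵀ = m + wg (hc r) (mc m) := by
  ext i j
  have e : (r.1 * m * r.1ᵀ) i j = (r.1 * (r.1 * m)ᵀ) j i := by
    rw [← transpose_apply (r.1 * (r.1 * m)ᵀ), transpose_mul, transpose_transpose]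
  rw [e, r4_mul hr, transpose_apply, transpose_apply, r4_mul hr, r4_mul hr, hm.2 4, hm.symm j 4,
    Matrix.add_apply, wg_ent, mc_ap, mc_ap]
  ring

theorem r4_ext {r r' : L5} (hr : R4 r) (hr' : R4 r') (e : hc r = hc r') : r = r' :=
  L5_ext (by ext i j; rw [r4_ent hr, r4_ent hr', e])

theorem hc_one : hc 1 = 0 := by decide +kernel

theorem hc_mul {r r' : L5} (hr : R4 r) (hr' : R4 r') : hc (r * r') = hc r + hc r' := by
  ext i
  by_cases hi : i = 4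
  · subst hi; simp [hc4]
  · rw [hc_lt _ (lt4 hi), cmul, r4_mul hr, hr' 4 4 (by decide), one_apply_eq, mul_one, Pi.add_apply,
      hc_lt r' (lt4 hi), add_comm]

theorem r4_sq {r : L5} (hr : R4 r) : r * r = 1 :=
  r4_ext (hr.mul hr) r4_one (by rw [hc_mul hr hr, vadd, hc_one])

theorem p4_one : P4 1 := by decide +kernel

theorem p4_row {g : L5} (hg : P4 g) (M : Mt) (j : Fin 5) : (g.1 * M) 4 j = g.1 4 4 * M 4 j := by
  rw [mul_apply, Finset.sum_eq_single 4]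
  · intro k _ hk; rw [hg k (lt4 hk), zero_mul]
  · simp

theorem p4_mul (g g' : L5) (hg : P4 g) (hg' : P4 g') : P4 (g * g') := fun j hj => by
  rw [cmul, p4_row hg, hg' j hj, mul_zero]

theorem p4_inv {g : L5} (hg : P4 g) : P4 g⁻¹ := (mkSub P4 p4_one p4_mul).inv_mem hg

theorem p4_44 {g : L5} (hg : P4 g) : g.1 4 4 = 1 := by
  have e : (g * g⁻¹).1 4 4 = 1 := by rw [mul_inv_cancel]; exact one_apply_eq 4
  rw [cmul, p4_row hg] at e
  exact z2' _ (left_ne_zero_of_mul_eq_one e)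

theorem r4_p4 {r : L5} (hr : R4 r) : P4 r := fun j hj => by
  rw [hr 4 j (by simp), one_apply_ne (by rintro rfl; exact absurd hj (by decide))]

theorem r4_of {r : L5} (k : ∀ i j : Fin 5, j.val < 4 → r.1 i j = (1 : Mt) i j) : R4 r := by
  have hp : P4 r := fun j hj => by
    rw [k 4 j hj, one_apply_ne (by rintro rfl; exact absurd hj (by decide))]
  intro i j e
  by_cases hj : j = 4
  · subst hj
    by_cases hi : i = 4
    · subst hi; rw [p4_44 hp, one_apply_eq]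
    · exact absurd ⟨lt4 hi, rfl⟩ e
  · exact k i j (lt4 hj)

theorem r4_conj {g r : L5} (hg : P4 g) (hr : R4 r) : R4 (g * r * g⁻¹) :=
  r4_of fun i j hj => by
    have e : (g * g⁻¹).1 i j = (1 : Mt) i j := by rw [mul_inv_cancel]; rfl
    rw [← e, mul_assoc, cmul, cmul, cmul, mul_apply, mul_apply]
    refine Finset.sum_congr rfl fun k _ => ?_
    rw [r4_mul hr, p4_inv hg j hj, mul_zero, add_zero]

theorem hc_conj {g r : L5} (hg : P4 g) (hr : R4 r) : hc (g * r * g⁻¹) = g.1 *ᵥ hc r := by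
  ext i
  have e : (g * r * g⁻¹ * g).1 i 4 = (g * r).1 i 4 := by rw [inv_mul_cancel_right]
  rw [cmul, r4_mul (r4_conj hg hr), p4_44 hg, mul_one, cmul, mul_r4 hr, if_pos rfl] at e
  exact add_left_cancel e

theorem mc_act {g : L5} (hg : P4 g) (m : Mt) : mc (g.1 * m * g.1ᵀ) = g.1 *ᵥ mc m := by
  ext i
  have e : (g.1 * m * g.1ᵀ) i 4 = (g.1 * (g.1 * m)ᵀ) 4 i := by
    rw [← transpose_apply (g.1 * (g.1 * m)ᵀ), transpose_mul, transpose_transpose]
  rw [mc_ap, e, p4_row hg, p4_44 hg, one_mul, transpose_apply]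
  rfl

theorem p4_tv : ∀ i j : Fin 5, i.val < 4 → P4 (tv i j) := by decide +kernel

theorem a2_tv : ∀ i : Fin 5, i.val < 4 →
    mc ((tv i 4).1 * wm i 4 * (tv i 4).1ᵀ) = hc (tv i 4) := by decide +kernel

theorem tv_ii : ∀ i : Fin 5, tv i i = 1 := by decide +kernel

abbrev M4 : Type := Matrix (Fin 4) (Fin 4) (ZMod 2)

/-- A block matrix. -/
def bk (a : M4) : Mt := fun i j =>
  if h : i.val < 4 ∧ j.val < 4 then a ⟨i, h.1⟩ ⟨j, h.2⟩ else if i = j then 1 else 0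

theorem bk_cc (a : M4) (i j : Fin 4) : bk a i.castSucc j.castSucc = a i j := dif_pos ⟨i.2, j.2⟩

theorem bk_cl (a : M4) (i : Fin 4) : bk a i.castSucc (Fin.last 4) = 0 :=
  (dif_neg fun h => absurd h.2 (by decide)).trans (if_neg (Fin.castSucc_ne_last i))

theorem bk_lc (a : M4) (i : Fin 4) : bk a (Fin.last 4) i.castSucc = 0 :=
  (dif_neg fun h => absurd h.1 (by decide)).trans (if_neg (Fin.castSucc_ne_last i).symm)

theorem bk_ll (a : M4) : bk a (Fin.last 4) (Fin.last 4) = 1 := rfl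

theorem bk_mul (a b : M4) : bk (a * b) = bk a * bk b := by
  ext i j
  rw [mul_apply, Fin.sum_univ_castSucc]
  induction i using Fin.lastCases <;> induction j using Fin.lastCases <;>
    simp only [bk_cc, bk_cl, bk_lc, bk_ll, mul_apply, mul_zero, zero_mul, add_zero, zero_add,
      mul_one, Finset.sum_const_zero]

theorem bk_one : bk 1 = 1 := by decide +kernel

theorem det_one' {n : Type} [Fintype n] [DecidableEq n] {a b : Matrix n n (ZMod 2)} (e : a * b = 1) :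
    a.det = 1 := by
  have := congrArg det e
  rw [det_mul, det_one] at this
  exact z2' _ (left_ne_zero_of_mul_eq_one this)

theorem det_bk (l : SpecialLinearGroup (Fin 4) (ZMod 2)) : (bk l.1).det = 1 := by
  have e0 : ∀ a b : SpecialLinearGroup (Fin 4) (ZMod 2), a * b = 1 → a.1 * b.1 = 1 :=
    fun a b e => congrArg Subtype.val e
  have e := e0 _ _ (mul_inv_cancel l)
  exact det_one' (b := bk (l⁻¹).1) (by rw [← bk_mul, e, bk_one])

/-- The embedding of `L₄(2)`. -/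
def emb : SpecialLinearGroup (Fin 4) (ZMod 2) →* L5 where
  toFun l := ⟨bk l.1, det_bk l⟩
  map_one' := L5_ext bk_one
  map_mul' a b := L5_ext (bk_mul _ _)

theorem bk_tv : ∀ p q : Fin 4, p ≠ q →
    bk (transvection p q (1 : ZMod 2)) = tm p.castSucc q.castSucc := by decide +kernel

theorem emb_mem {H : Subgroup L5} (k : ∀ i j : Fin 5, i.val < 4 → j.val < 4 → tv i j ∈ H)
    (l : SpecialLinearGroup (Fin 4) (ZMod 2)) : emb l ∈ H := by
  have e : H.comap emb = ⊤ := Chev.closure_slE _ fun p q hpq t => by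
    rcases (by decide : ∀ c : ZMod 2, c = 0 ∨ c = 1) t with rfl | rfl
    · rw [show Chev.slE p q (0 : ZMod 2) = 1 from Subtype.ext (by
        rw [Chev.slE, dif_pos hpq]; exact transvection_zero p q)]
      exact one_mem _
    · rw [mem_comap, show emb (Chev.slE p q (1 : ZMod 2)) = tv p.castSucc q.castSucc from L5_ext (by
        rw [Chev.slE, dif_pos hpq]; exact bk_tv p q hpq)]
      exact k _ _ p.2 q.2
  exact (e ▸ mem_top l : l ∈ H.comap emb)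

theorem p4_mem {H : Subgroup L5} (k : ∀ i j : Fin 5, i.val < 4 → tv i j ∈ H) {g : L5}
    (hg : P4 g) : g ∈ H := by
  have hd : (g.1.submatrix Fin.castSucc Fin.castSucc).det = 1 := by
    refine det_one' (b := (g⁻¹).1.submatrix Fin.castSucc Fin.castSucc) ?_
    ext i j
    have e : (g * g⁻¹).1 i.castSucc j.castSucc = (1 : Mt) i.castSucc j.castSucc := by
      rw [mul_inv_cancel]; rfl
    rw [cmul, mul_apply, Fin.sum_univ_castSucc, show Fin.last 4 = 4 from rfl,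
      p4_inv hg _ j.2, mul_zero, add_zero] at e
    rw [mul_apply]
    refine e.trans ?_
    simp [one_apply]
  have h1 := emb_mem (fun i j hi _ => k i j hi) ⟨_, hd⟩
  have h2 : R4 ((emb ⟨_, hd⟩)⁻¹ * g) := r4_of fun i j hj => by
    have e : ((emb ⟨_, hd⟩)⁻¹ * emb ⟨_, hd⟩).1 i j = (1 : Mt) i j := by rw [inv_mul_cancel]; rfl
    rw [← e, cmul, cmul, mul_apply, mul_apply]
    refine Finset.sum_congr rfl fun c _ => congrArg _ ?_
    have := hg j hj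
    change _ = bk (g.1.submatrix Fin.castSucc Fin.castSucc) c j
    fin_cases c <;> fin_cases j <;> first | rfl | exact this | exact absurd hj (by decide)
  have h3 := h2.up.mem (H := H) fun i j hij _ => k i j (by have : i.val < j.val := hij; omega)
  simpa using mul_mem h1 h3

end Y2

open Y2

variable {G : Type u} [Group G] [Finite G] {θ : Mt → G} {ψ : L5 →* G}

theorem Fr.mem_Z6 (h : Fr θ ψ) {x : G} : x ∈ Z6 θ ↔ ∃ m, W6 m ∧ x = θ m := by
  constructor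
  · intro hx
    refine (show Z6 θ ≤ mkSub (fun x => ∃ m, W6 m ∧ x = θ m)
      ⟨0, ⟨al_zero, fun _ => rfl⟩, h.zero.symm⟩ ?_ from (closure_le _).2 ?_) hx
    · rintro _ _ ⟨m, hm, rfl⟩ ⟨m', hm', rfl⟩
      exact ⟨_, hm.add hm', (h.add _ _).symm⟩
    · rintro _ ⟨i, j, hi, hj, rfl⟩
      exact ⟨_, w6_wm i j hi hj, rfl⟩
  · rintro ⟨m, hm, rfl⟩
    refine h.θ_mem_of hm.1 fun i j hij e => subset_closure ⟨i, j, ?_, lt4 ?_, rfl⟩
    · have : i.val < j.val := hij; omega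
    · rintro rfl; exact e (hm.2 i)

namespace Y2

theorem tt_A1 {i : Fin 5} (hi : i.val < 4) : tt ψ i 4 ∈ A1 θ ψ :=
  mem_sup_right (subset_closure ⟨i, hi, rfl⟩)

theorem tw_A2 {i : Fin 5} (hi : i.val < 4) : tt ψ i 4 * ww θ i 4 ∈ A2 θ ψ :=
  mem_sup_right (subset_closure ⟨i, hi, rfl⟩)

theorem ψ_A1 {r : L5} (hr : R4 r) : ψ r ∈ A1 θ ψ :=
  Fr.ψ_mem_of hr.up fun i j hij e => by
    have : i.val < 4 ∧ j = 4 := by
      by_contra h2
      exact e ((hr i j h2).trans (one_apply_ne hij.ne))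
    rw [this.2]; exact tt_A1 this.1

variable (h : Fr θ ψ)
include h

theorem θ_Z {m : Mt} (hm : Al m) (e : mc m = 0) : θ m ∈ Z6 θ :=
  h.mem_Z6.2 ⟨m, w6_iff.2 ⟨hm, e⟩, rfl⟩

theorem mA1 {x : G} : x ∈ A1 θ ψ ↔ ∃ m r, Al m ∧ R4 r ∧ mc m = 0 ∧ x = θ m * ψ r := by
  constructor
  · intro hx
    obtain ⟨m, r, hm, hr, rfl⟩ := h.of_mem_A1 hx
    exact ⟨m, r, hm.1, hr, (w6_iff.1 hm).2, rfl⟩
  · rintro ⟨m, r, hm, hr, e, rfl⟩
    exact mul_mem (mem_sup_left (θ_Z h hm e)) (ψ_A1 hr)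

theorem a2_mul {m m' : Mt} {r r' : L5} (hm' : Al m') (hr : R4 r) (hr' : R4 r') (e : mc m = hc r)
    (e' : mc m' = hc r') : mc (m + r.1 * m' * r.1ᵀ) = hc (r * r') := by
  rw [act_r4 hr hm', mc_add, mc_add, mc_wg (w := mc m') (hc4 r) (hm'.2 4), add_zero, e, e', hc_mul hr hr']

theorem mA2 {x : G} : x ∈ A2 θ ψ ↔ ∃ m r, Al m ∧ R4 r ∧ mc m = hc r ∧ x = θ m * ψ r := by
  constructor
  · intro hx
    refine (show A2 θ ψ ≤ mkSub (fun x => ∃ m r, Al m ∧ R4 r ∧ mc m = hc r ∧ x = θ m * ψ r)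
      ⟨0, 1, al_zero, r4_one, hc_one.symm, by rw [h.zero, map_one, one_mul]⟩ ?_ from
        sup_le (fun y hy => ?_) ((closure_le _).2 ?_)) hx
    · rintro _ _ ⟨m, r, hm, hr, e, rfl⟩ ⟨m', r', hm', hr', e', rfl⟩
      exact ⟨_, _, hm.add (hm'.act _), hr.mul hr', a2_mul h hm' hr hr' e e', h.el_mul m r hm' r'⟩
    · obtain ⟨m, hm, rfl⟩ := h.mem_Z6.1 hy
      exact ⟨m, 1, hm.1, r4_one, (w6_iff.1 hm).2.trans hc_one.symm, by rw [map_one, mul_one]⟩
    · rintro _ ⟨i, hi, rfl⟩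
      exact ⟨_, _, (al_wm i 4).act _, r4_tv i hi, a2_tv i hi, h.act' _ (al_wm i 4)⟩
  · rintro ⟨m, r, hm, hr, e, rfl⟩
    have k : r ∈ mkSub (fun r => R4 r ∧ ∃ m, Al m ∧ mc m = hc r ∧ θ m * ψ r ∈ A2 θ ψ)
        ⟨r4_one, 0, al_zero, hc_one.symm, by rw [h.zero, map_one, one_mul]; exact one_mem _⟩ (by
          rintro r r' ⟨hr, m, hm, e, k⟩ ⟨hr', m', hm', e', k'⟩
          exact ⟨hr.mul hr', _, hm.add (hm'.act _), a2_mul h hm' hr hr' e e',
            h.el_mul m r hm' r' ▸ mul_mem k k'⟩) :=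
      hr.up.mem fun i j hij e => by
        have : i.val < 4 ∧ j = 4 := by
          by_contra h2
          exact e ((hr i j h2).trans (one_apply_ne hij.ne))
        obtain ⟨hi, rfl⟩ := this
        exact ⟨r4_tv i hi, _, (al_wm i 4).act _, a2_tv i hi, h.act' _ (al_wm i 4) ▸ tw_A2 hi⟩
    obtain ⟨-, m', hm', e', k⟩ := k
    have := mul_mem (mem_sup_left (θ_Z h (hm.add hm') (by rw [mc_add, e, e', vadd])) :
      θ (m + m') ∈ A2 θ ψ) k
    rwa [← mul_assoc, ← h.add, add_assoc, madd, add_zero] at this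

theorem conj (m : Mt) (g : L5) {m' : Mt} (hm : Al m) (hm' : Al m') (r : L5) :
    θ m * ψ g * (θ m' * ψ r) * (θ m * ψ g)⁻¹ =
      θ (m + g.1 * m' * g.1ᵀ + (g * r * g⁻¹).1 * m * (g * r * g⁻¹).1ᵀ) * ψ (g * r * g⁻¹) := by
  rw [h.el_mul m g hm', _root_.mul_inv_rev, h.inv, h.add (m + _), mul_assoc (θ (m + _)) (θ _),
    ← h.act' _ hm, map_mul _ (g * r), map_inv]
  simp only [mul_assoc]

theorem mc_conj {m m' : Mt} {g r : L5} (hm : Al m) (hg : P4 g) (hr : R4 r) :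
    mc (m + g.1 * m' * g.1ᵀ + (g * r * g⁻¹).1 * m * (g * r * g⁻¹).1ᵀ) = g.1 *ᵥ mc m' := by
  rw [act_r4 (r4_conj hg hr) hm, mc_add, mc_add, mc_add, mc_wg (w := mc m) (hc4 _) (hm.2 4), add_zero,
    mc_act hg, add_right_comm, vadd, zero_add]

theorem sq {m : Mt} {r : L5} (hm : Al m) (hr : R4 r) :
    θ m * ψ r * (θ m * ψ r) = θ (wg (hc r) (mc m)) := by
  rw [h.el_mul m r hm, r4_sq hr, map_one, mul_one, act_r4 hr hm, ← add_assoc, madd, zero_add]

end Y2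

theorem Fr.mem_O14 (h : Fr θ ψ) {x : G} :
    x ∈ O14 θ ψ ↔ ∃ m r, Al m ∧ R4 r ∧ x = θ m * ψ r := by
  constructor
  · intro hx
    refine (show O14 θ ψ ≤ h.SG Al R4 al_zero r4_one (fun _ => id) (fun _ _ => Al.add)
      (fun _ _ => R4.mul) (fun _ _ k _ => k.act _) from sup_le (fun a ha => ?_) fun a ha => ?_) hx
    · obtain ⟨m, hm, rfl⟩ := h.mem_AA.1 ha
      exact ⟨m, 1, hm, r4_one, by rw [map_one, mul_one]⟩
    · obtain ⟨m, g, hm, hg, rfl⟩ := h.of_mem_A1 ha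
      exact ⟨m, g, hm.1, hg, rfl⟩
  · rintro ⟨m, r, hm, hr, rfl⟩
    exact mul_mem (mem_sup_left (h.θ_mem hm)) (mem_sup_right (ψ_A1 hr))

theorem Fr.mem_G01 (h : Fr θ ψ) {x : G} :
    x ∈ G01 θ ψ ↔ ∃ m g, Al m ∧ P4 g ∧ x = θ m * ψ g := by
  constructor
  · intro hx
    refine (show G01 θ ψ ≤ h.SG Al P4 al_zero p4_one (fun _ => id) (fun _ _ => Al.add)
      p4_mul (fun _ _ k _ => k.act _) from sup_le (fun a ha => ?_) ((closure_le _).2 ?_)) hx
    · obtain ⟨m, g, hm, hg, rfl⟩ := h.mem_O14.1 ha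
      exact ⟨m, g, hm, r4_p4 hg, rfl⟩
    · rintro _ ⟨i, j, hi, hj, rfl⟩
      exact ⟨0, _, al_zero, p4_tv i j hi, by rw [h.zero, one_mul, tt]⟩
  · rintro ⟨m, g, hm, hg, rfl⟩
    refine mul_mem (mem_sup_left (mem_sup_left (h.θ_mem hm)))
      (p4_mem (H := (G01 θ ψ).comap ψ) (fun i j hi => ?_) hg)
    by_cases hj : j = 4
    · subst hj; exact mem_sup_left (mem_sup_right (tt_A1 hi))
    · exact mem_sup_right (subset_closure ⟨i, j, hi, lt4 hj, rfl⟩)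

theorem Fr.G01_eq (h : Fr θ ψ) : G01 θ ψ = Ns (AA θ) ⊓ Ns (O14 θ ψ) := by
  refine le_antisymm (fun x hx => ?_) fun x hx => ?_
  · obtain ⟨m, g, hm, hg, rfl⟩ := h.mem_G01.1 hx
    refine ⟨(h.nrm _).2 ⟨m, g, hm, rfl⟩, mem_normalizer_fintype fun y hy => ?_⟩
    obtain ⟨m', r, hm', hr, rfl⟩ := h.mem_O14.1 hy
    exact h.mem_O14.2 ⟨_, _, (hm.add (hm'.act _)).add (hm.act _), r4_conj hg hr,
      conj h m g hm hm' r⟩
  · obtain ⟨m, g, hm, rfl⟩ := (h.nrm _).1 hx.1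
    refine h.mem_G01.2 ⟨m, g, hm, fun i hi => ?_, rfl⟩
    obtain ⟨m', r, hm', hr, e⟩ := h.mem_O14.1 ((hx.2 _).1
      (h.mem_O14.2 ⟨0, _, al_zero, r4_tv i hi, rfl⟩))
    rw [conj h m g hm al_zero] at e
    have e1 := (h.el_inj ((hm.add (al_zero.act _)).add (hm.act _)) hm' e).2
    have e2 : (g * tv i 4).1 4 4 = (r * g).1 4 4 := by rw [← e1, inv_mul_cancel_right]
    rw [cmul, cmul, mul_tv _ (by rintro rfl; exact absurd hi (by decide)), if_pos rfl, r4_mul hr,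
      hc4, zero_mul] at e2
    exact add_left_cancel e2

theorem Fr.G01_A1 (h : Fr θ ψ) : G01 θ ψ ≤ Ns (A1 θ ψ) := fun x hx => by
  obtain ⟨m, g, hm, hg, rfl⟩ := h.mem_G01.1 hx
  refine mem_normalizer_fintype fun y hy => ?_
  obtain ⟨m', r, hm', hr, e, rfl⟩ := (mA1 h).1 hy
  exact (mA1 h).2 ⟨_, _, (hm.add (hm'.act _)).add (hm.act _), r4_conj hg hr,
    by rw [mc_conj h hm hg hr, e, mulVec_zero], conj h m g hm hm' r⟩

theorem Fr.G01_A2 (h : Fr θ ψ) : G01 θ ψ ≤ Ns (A2 θ ψ) := fun x hx => by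
  obtain ⟨m, g, hm, hg, rfl⟩ := h.mem_G01.1 hx
  refine mem_normalizer_fintype fun y hy => ?_
  obtain ⟨m', r, hm', hr, e, rfl⟩ := (mA2 h).1 hy
  exact (mA2 h).2 ⟨_, _, (hm.add (hm'.act _)).add (hm.act _), r4_conj hg hr,
    by rw [mc_conj h hm hg hr, e, hc_conj hg hr], conj h m g hm hm' r⟩

theorem Fr.O_cZ (h : Fr θ ψ) : O14 θ ψ ≤ Cs (Z6 θ) := fun x hx => by
  obtain ⟨m, r, hm, hr, rfl⟩ := h.mem_O14.1 hx
  refine mem_centralizer_iff.2 fun z hz => ?_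
  obtain ⟨n, hn, rfl⟩ := h.mem_Z6.1 hz
  have := el_conj h m r hn.1
  rw [act_r4 hr hn.1, (w6_iff.1 hn).2, wg0, add_zero] at this
  exact (mul_inv_eq_iff_eq_mul.1 this).symm

theorem Y2.Z_le (h : Fr θ ψ) : Z6 θ ≤ AA θ := fun x hx => by
  obtain ⟨m, hm, rfl⟩ := h.mem_Z6.1 hx
  exact h.θ_mem hm.1

theorem Fr.inf01 (h : Fr θ ψ) : AA θ ⊓ A1 θ ψ = Z6 θ := by
  refine le_antisymm (fun x hx => ?_) (le_inf (Z_le h) le_sup_left)
  obtain ⟨m, r, hm, hr, e, rfl⟩ := (mA1 h).1 hx.2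
  rw [h.ψ_mem ((mul_mem_cancel_left (h.θ_mem hm)).1 hx.1), map_one, mul_one]
  exact θ_Z h hm e

theorem Fr.inf02 (h : Fr θ ψ) : AA θ ⊓ A2 θ ψ = Z6 θ := by
  refine le_antisymm (fun x hx => ?_) (le_inf (Z_le h) le_sup_left)
  obtain ⟨m, r, hm, hr, e, rfl⟩ := (mA2 h).1 hx.2
  obtain rfl := h.ψ_mem ((mul_mem_cancel_left (h.θ_mem hm)).1 hx.1)
  rw [map_one, mul_one]
  exact θ_Z h hm (e.trans hc_one)

theorem Fr.inf12 (h : Fr θ ψ) : A1 θ ψ ⊓ A2 θ ψ = Z6 θ := by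
  refine le_antisymm (fun x hx => ?_) (le_inf le_sup_left le_sup_left)
  obtain ⟨m, r, hm, hr, e, rfl⟩ := (mA1 h).1 hx.1
  obtain ⟨m', r', hm', hr', e', k⟩ := (mA2 h).1 hx.2
  obtain ⟨rfl, rfl⟩ := h.el_inj hm hm' k
  rw [r4_ext hr r4_one (by rw [← e', e, hc_one]), map_one, mul_one]
  exact θ_Z h hm e

theorem Y2.A2_le (h : Fr θ ψ) : A2 θ ψ ≤ O14 θ ψ := fun x hx => by
  obtain ⟨m, r, hm, hr, -, rfl⟩ := (mA2 h).1 hx
  exact h.mem_O14.2 ⟨m, r, hm, hr, rfl⟩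

theorem Fr.sup02 (h : Fr θ ψ) : AA θ ⊔ A2 θ ψ = O14 θ ψ := by
  refine le_antisymm (sup_le le_sup_left (A2_le h)) (sup_le le_sup_left
    (sup_le ((Z_le h).trans le_sup_left) ((closure_le _).2 ?_)))
  rintro _ ⟨i, hi, rfl⟩
  exact (mul_mem_cancel_right (mem_sup_left (h.θ_mem (al_wm i 4)))).1 (mem_sup_right (tw_A2 hi))

theorem Fr.sup12 (h : Fr θ ψ) : A1 θ ψ ⊔ A2 θ ψ = O14 θ ψ := by
  refine le_antisymm (sup_le le_sup_right (A2_le h)) (sup_le (fun x hx => ?_) le_sup_left)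
  obtain ⟨m, hm, rfl⟩ := h.mem_AA.1 hx
  refine h.θ_mem_of hm fun i j hij _ => ?_
  have hi : i.val < 4 := by have : i.val < j.val := hij; omega
  by_cases hj : j = 4
  · subst hj
    exact (mul_mem_cancel_left (mem_sup_left (tt_A1 hi))).1 (mem_sup_right (tw_A2 hi))
  · exact mem_sup_left (mem_sup_left (subset_closure ⟨i, j, hi, lt4 hj, rfl⟩))

theorem Y2.nZ (h : Fr θ ψ) : ¬ AA θ ≤ Z6 θ := fun k => by
  obtain ⟨m, hm, e⟩ := h.mem_Z6.1 (k (h.θ_mem (al_wm 0 4)))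
  rw [← h.inj' (al_wm 0 4) hm.1 e] at hm
  exact absurd hm (by decide +kernel)

theorem Fr.ne01 (h : Fr θ ψ) : AA θ ≠ A1 θ ψ := fun e =>
  nZ h (h.inf01 ▸ le_inf le_rfl e.le)

theorem Fr.ne02 (h : Fr θ ψ) : AA θ ≠ A2 θ ψ := fun e =>
  nZ h (h.inf02 ▸ le_inf le_rfl e.le)

theorem Fr.ne12 (h : Fr θ ψ) : A1 θ ψ ≠ A2 θ ψ := fun e => by
  have k : A1 θ ψ ≤ Z6 θ := h.inf12 ▸ le_inf le_rfl e.le
  exact absurd (h.ψ_mem (Z_le h (k (tt_A1 (i := 0) (by decide))))) (by decide +kernel)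

theorem Fr.sq1 (h : Fr θ ψ) : ∀ x ∈ A1 θ ψ, x * x = 1 := fun x hx => by
  obtain ⟨m, r, hm, hr, e, rfl⟩ := (mA1 h).1 hx
  rw [Y2.sq h hm hr, e, wg0, h.zero]

theorem Fr.sq2 (h : Fr θ ψ) : ∀ x ∈ A2 θ ψ, x * x = 1 := fun x hx => by
  obtain ⟨m, r, hm, hr, e, rfl⟩ := (mA2 h).1 hx
  rw [Y2.sq h hm hr, e, wg_self, h.zero]

theorem Fr.invO (h : Fr θ ψ) {x : G} (hx : x ∈ O14 θ ψ) (e : x * x = 1) :
    x ∈ AA θ ∨ x ∈ A1 θ ψ ∨ x ∈ A2 θ ψ := by
  obtain ⟨m, r, hm, hr, rfl⟩ := h.mem_O14.1 hx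
  rw [Y2.sq h hm hr] at e
  rcases wg_zero (h.inj _ (al_wg _ _) e) with k | k | k
  · rw [r4_ext hr r4_one (k.trans hc_one.symm), map_one, mul_one]
    exact .inl (h.θ_mem hm)
  · exact .inr (.inl ((mA1 h).2 ⟨m, r, hm, hr, k, rfl⟩))
  · exact .inr (.inr ((mA2 h).2 ⟨m, r, hm, hr, k.symm, rfl⟩))

end Cfsg.Lib.R10
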