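import Cfsg.Agent.R10.E10
import Cfsg.Agent.R10.Y2

/-! The normaliser of `T` permutes the three subgroups `A`, `A1`, `A2`. -/

set_option autoImplicit false
set_option linter.unusedVariables false

namespace Cfsg.Lib.R10

open Subgroup Cfsg.Lib.Trans Cfsg.Lib.Gold Matrix
open scoped commutatorElement

universe u

variable {G : Type u} [Group G] [Finite G] {θ : Mt → G} {ψ : L5 →* G}

theorem Fr.perm (h : Fr θ ψ) {n : G} (hn : n ∈ Ns (TT θ ψ)) :
    n ∈ Ns (O14 θ ψ) ∧ n ∈ Ns (G01 θ ψ) ∧ n ∈ Ns (Z6 θ) ∧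
    ∀ B : Subgroup G, (B = AA θ ∨ B = A1 θ ψ ∨ B = A2 θ ψ) →
      cj n B = AA θ ∨ cj n B = A1 θ ψ ∨ cj n B = A2 θ ψ := by
  have key : ∀ B : Subgroup G, (B = AA θ ∨ B = A1 θ ψ ∨ B = A2 θ ψ) →
      cj n B = AA θ ∨ cj n B = A1 θ ψ ∨ cj n B = A2 θ ψ := by
    intro B hB
    have k : B ≤ O14 θ ψ ∧ (∀ b ∈ B, b * b = 1) ∧ Nat.card B = 2 ^ 10 := by
      rcases hB with rfl | rfl | rfl
      · refine ⟨le_sup_left, fun b hb => ?_, h.card_AA⟩
        obtain ⟨m, -, rfl⟩ := h.mem_AA.1 hb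
        exact h.sq m
      · exact ⟨le_sup_right, h.sq1, h.card_A1⟩
      · exact ⟨le_sup_right.trans h.sup02.le, h.sq2, h.card_A2⟩
    refine h.e10 ((cj_mono n (k.1.trans h.O14_le_TT)).trans (cj_eq_of_mem_normalizer hn).le) ?_
      (by rw [card_cj, k.2.2])
    rintro _ ⟨b, hb, rfl⟩
    rw [← map_mul, k.2.1 b hb, map_one]
  have k0 := key _ (Or.inl rfl)
  have k1 := key _ (Or.inr (Or.inl rfl))
  have k2 := key _ (Or.inr (Or.inr rfl))
  have n01 : cj n (AA θ) ≠ cj n (A1 θ ψ) := fun e => h.ne01 (cj_inj.1 e)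
  have n02 : cj n (AA θ) ≠ cj n (A2 θ ψ) := fun e => h.ne02 (cj_inj.1 e)
  have n12 : cj n (A1 θ ψ) ≠ cj n (A2 θ ψ) := fun e => h.ne12 (cj_inj.1 e)
  have s01 : AA θ ⊔ A1 θ ψ = O14 θ ψ := rfl
  have hO : cj n (O14 θ ψ) = O14 θ ψ := by
    conv_lhs => rw [← s01, cj_sup]
    rcases k0 with e0 | e0 | e0 <;> rcases k1 with e1 | e1 | e1 <;> rw [e0, e1] at n01 ⊢ <;>
      first
        | exact absurd rfl n01
        | exact s01
        | exact h.sup02
        | exact h.sup12
        | exact (sup_comm _ _).trans s01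
        | exact (sup_comm _ _).trans h.sup02
        | exact (sup_comm _ _).trans h.sup12
  have hZ : cj n (Z6 θ) = Z6 θ := by
    conv_lhs => rw [← h.inf01, cj_inf]
    rcases k0 with e0 | e0 | e0 <;> rcases k1 with e1 | e1 | e1 <;> rw [e0, e1] at n01 ⊢ <;>
      first
        | exact absurd rfl n01
        | exact h.inf01
        | exact h.inf02
        | exact h.inf12
        | exact (inf_comm _ _).trans h.inf01
        | exact (inf_comm _ _).trans h.inf02
        | exact (inf_comm _ _).trans h.inf12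
  have hN : ∀ B : Subgroup G, G01 θ ψ ≤ Ns B → cj n (G01 θ ψ) ≤ Ns (cj n B) := fun B k =>
    (cj_mono n k).trans (cj_normalizer n B).le
  have g0 := hN _ (h.G01_eq.le.trans inf_le_left)
  have g1 := hN _ h.G01_A1
  have g2 := hN _ h.G01_A2
  have gO := hN _ (h.G01_eq.le.trans inf_le_right)
  rw [hO] at gO
  have gA : cj n (G01 θ ψ) ≤ Ns (AA θ) := by
    rcases k0 with e0 | e0 | e0
    · rwa [e0] at g0
    all_goals
      rcases k1 with e1 | e1 | e1
      · rwa [e1] at g1
      all_goals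
        rcases k2 with e2 | e2 | e2
        · rwa [e2] at g2
        all_goals
          first
            | exact absurd (e0.trans e1.symm) n01
            | exact absurd (e0.trans e2.symm) n02
            | exact absurd (e1.trans e2.symm) n12
  exact ⟨cj_eq_self_iff.1 hO, mem_normalizer_of_cj_le ((le_inf gA gO).trans h.G01_eq.ge),
    cj_eq_self_iff.1 hZ, key⟩

end Cfsg.Lib.R10
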