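import Cfsg.Agent.R10.E10
import Cfsg.Agent.R10.Y2

/-! The group `A` is not conjugate to `A2`. -/

set_option autoImplicit false
set_option linter.unusedSectionVars false

namespace Cfsg.Lib.R10

open Subgroup Cfsg.Lib.Trans Cfsg.Lib.Gold Matrix Ho
open scoped commutatorElement

universe u
variable {G : Type u} [Group G] [Finite G] {θ : Mt → G} {ψ : L5 →* G}

namespace Y4

/-- Elements fixing `x` modulo `Z6` fix `x` after a correction from `O14`. -/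
structure Pp (θ : Mt → G) (ψ : L5 →* G) (x : G) : Prop where
  out : ∀ l ∈ G01 θ ψ, l * x * l⁻¹ * x⁻¹ ∈ Z6 θ → ∃ o ∈ O14 θ ψ, o * l * x = x * (o * l)

/-- Coordinates of an element of `A2`. -/
structure Rp (θ : Mt → G) (ψ : L5 →* G) (x : G) (p q s a b c : ZMod 2) : Prop where
  out : ∃ m r, Al m ∧ R4 r ∧ x = θ m * ψ r ∧ r.1 0 4 = p ∧ r.1 1 4 = q ∧ r.1 2 4 = s ∧ r.1 3 4 = 0 ∧
    m 0 4 = p ∧ m 1 4 = q ∧ m 2 4 = s ∧ m 3 4 = 0 ∧ m 0 1 = a ∧ m 0 2 = b ∧ m 1 2 = c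

theorem Pp.cj {g x : G} (hO : g ∈ Ns (O14 θ ψ)) (hG : g ∈ Ns (G01 θ ψ)) (hZ : g ∈ Ns (Z6 θ))
    (p : Pp θ ψ x) : Pp θ ψ (g * x * g⁻¹) := ⟨fun l hl k => by
  obtain ⟨o, ho, e⟩ := p.out (g⁻¹ * l * g⁻¹⁻¹) ((mem_normalizer_iff.1 (inv_mem hG) l).1 hl) (by
    convert (mem_normalizer_iff.1 (inv_mem hZ) _).1 k using 1; group)
  refine ⟨g * o * g⁻¹, (mem_normalizer_iff.1 hO o).1 ho, ?_⟩
  calc _ = g * (o * (g⁻¹ * l * g⁻¹⁻¹) * x) * g⁻¹ := by group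
    _ = _ := by rw [e]; group⟩

theorem dR : ∀ a b c d : ZMod 2,
    (!![1, 0, 0, 0, a; 0, 1, 0, 0, b; 0, 0, 1, 0, c; 0, 0, 0, 1, d; 0, 0, 0, 0, 1] : Mt).det = 1 := by
  decide +kernel

theorem dL : ∀ a b c : ZMod 2,
    (!![1, 0, 0, 0, 0; 0, 1, 0, 0, 0; 0, 0, 1, 0, 0; a, b, c, 1, 0; 0, 0, 0, 0, 1] : Mt).det = 1 := by
  decide +kernel

theorem exR (a b c d : ZMod 2) :
    ∃ r : L5, R4 r ∧ r.1 0 4 = a ∧ r.1 1 4 = b ∧ r.1 2 4 = c ∧ r.1 3 4 = d :=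
  ⟨⟨_, dR a b c d⟩, fun i j e => by
    fin_cases i <;> fin_cases j <;> first | rfl | exact absurd (by decide) e, rfl, rfl, rfl, rfl⟩

theorem exL (a b c : ZMod 2) : ∃ l : L5, (∀ i j, i ≠ 3 → l.1 i j = (1 : Mt) i j) ∧ l.1 3 0 = a ∧
    l.1 3 1 = b ∧ l.1 3 2 = c ∧ l.1 3 3 = 1 ∧ l.1 3 4 = 0 :=
  ⟨⟨_, dL a b c⟩, fun i j e => by
    fin_cases i <;> fin_cases j <;> first | rfl | exact absurd rfl e, rfl, rfl, rfl, rfl, rfl⟩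

theorem act {r : L5} (hr : R4 r) {m : Mt} (hm : Al m) :
    (r.1 * m * r.1ᵀ) 0 4 = m 0 4 ∧ (r.1 * m * r.1ᵀ) 1 4 = m 1 4 ∧ (r.1 * m * r.1ᵀ) 2 4 = m 2 4 ∧
    (r.1 * m * r.1ᵀ) 3 4 = m 3 4 ∧
    (r.1 * m * r.1ᵀ) 0 1 = m 0 1 + r.1 0 4 * m 1 4 + m 0 4 * r.1 1 4 ∧
    (r.1 * m * r.1ᵀ) 0 2 = m 0 2 + r.1 0 4 * m 2 4 + m 0 4 * r.1 2 4 ∧
    (r.1 * m * r.1ᵀ) 1 2 = m 1 2 + r.1 1 4 * m 2 4 + m 1 4 * r.1 2 4 ∧
    (r.1 * m * r.1ᵀ) 0 3 = m 0 3 + r.1 0 4 * m 3 4 + m 0 4 * r.1 3 4 ∧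
    (r.1 * m * r.1ᵀ) 1 3 = m 1 3 + r.1 1 4 * m 3 4 + m 1 4 * r.1 3 4 ∧
    (r.1 * m * r.1ᵀ) 2 3 = m 2 3 + r.1 2 4 * m 3 4 + m 2 4 * r.1 3 4 := by
  obtain ⟨a0, a1, a2, a3, a4, a5, a6, a7, a8, a9⟩ := hr.up.act_ent hm
  obtain ⟨b0, b1, b2, b3, b4, b5⟩ := hr.ent
  simp [*]

theorem pp (h : Fr θ ψ) {v : V5} (hv : v 4 = 0) : Pp θ ψ (θ (wg (Pi.single 4 1) v)) := ⟨fun l hl k => by
  obtain ⟨m, γ, hm, hγ, rfl⟩ := h.mem_G01.1 hl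
  have g0 := hγ 0 (by decide)
  have g1 := hγ 1 (by decide)
  have g2 := hγ 2 (by decide)
  have g3 := hγ 3 (by decide)
  have g4 : γ.1 4 4 = 1 := CA.z2' _ fun e => zero_ne_one ((det_eq_zero_of_row_eq_zero 4 fun j => by
    fin_cases j <;> assumption).symm.trans γ.2)
  rw [el_conj h _ _ (al_wg _ _), act_wg, h.inv, ← h.add] at k
  obtain ⟨w, hw, e⟩ := h.mem_Z6.1 k
  have e1 := h.inj' ((al_wg _ _).add (al_wg _ _)) hw.1 e ▸ hw.2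
  have v4 : (γ.1 *ᵥ v) 4 = 0 := by simp [mulVec, dotProduct, Fin.sum_univ_five, *]
  have e2 : γ.1 *ᵥ v = v := funext fun i => by
    have := e1 i
    simp only [Matrix.add_apply, wg_ent, v4, hv, mulVec_single_one, col_apply, g4, Pi.single_eq_same,
      mul_zero, mul_one, zero_add] at this
    rw [← add_zero ((γ.1 *ᵥ v) i), ← CA.z2 (v i), ← add_assoc, this, zero_add]
  obtain ⟨r, hr, r0, r1, r2, r3⟩ := exR (γ.1 0 4) (γ.1 1 4) (γ.1 2 4) (γ.1 3 4)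
  obtain ⟨c0, c1, c2, c3, c4, c5, c6, c7, c8, c9, c10, c11, c12, c13, c14⟩ := hr.up.ent
  obtain ⟨d0, d1, d2, d3, d4, d5⟩ := hr.ent
  refine ⟨ψ r, h.mem_O14.2 ⟨0, _, al_zero, hr, by rw [h.zero, one_mul]⟩,
    mul_inv_eq_iff_eq_mul.1 ?_⟩
  rw [show ∀ a b x : G, a * b * x * (a * b)⁻¹ = a * (b * x * b⁻¹) * a⁻¹ from fun _ _ _ => by group,
    el_conj h _ _ (al_wg _ _), act_wg, e2, h.act _ _ (al_wg _ _), act_wg, mulVec_single_one]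
  clear e e1 e2 v4 k
  congr 2 <;> funext i <;> fin_cases i <;> simp [mulVec, dotProduct, Fin.sum_univ_five, CA.z2, *]⟩

theorem Rp.mul (h : Fr θ ψ) {x x' : G} {p q s a b c p' q' s' a' b' c' : ZMod 2}
    (k : Rp θ ψ x p q s a b c) (k' : Rp θ ψ x' p' q' s' a' b' c') :
    Rp θ ψ (x * x') (p + p') (q + q') (s + s') (a + (a' + p * q' + p' * q))
      (b + (b' + p * s' + p' * s)) (c + (c' + q * s' + q' * s)) := by
  obtain ⟨m, r, hm, hr, rfl, a0, a1, a2, a3, a4, a5, a6, a7, a8, a9, a10⟩ := k.out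
  obtain ⟨m', r', hm', hr', rfl, b0, b1, b2, b3, b4, b5, b6, b7, b8, b9, b10⟩ := k'.out
  obtain ⟨c0, c1, c2, c3, c4, c5, c6, -⟩ := act hr hm'
  obtain ⟨d0, d1, d2, d3, d4, d5⟩ := hr.ent
  obtain ⟨-, -, -, e0, -, -, e1, -, e2, e3⟩ := hr.up.mul_ent hr'.up
  exact ⟨_, _, hm.add (hm'.act _), hr.mul hr', h.el_mul _ _ hm' _, by simp [add_comm, *]⟩

theorem fin1 : ∀ p q s : ZMod 2, ∃ f g k : ZMod 2, f * p + g * q + k * s = 0 ∧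
    ∀ a b c u : ZMod 2, a * g + b * k = p * u → a * f + c * k = q * u → b * f + c * g = s * u →
      a * s + b * q + c * p = 0 := by decide +kernel

theorem key (h : Fr θ ψ) {x : G} {p q s a b c : ZMod 2} (k : Rp θ ψ x p q s a b c) (hp : Pp θ ψ x) :
    a * s + b * q + c * p = 0 := by
  obtain ⟨m, r, hm, hr, rfl, a0, a1, a2, a3, a4, a5, a6, a7, a8, a9, a10⟩ := k.out
  obtain ⟨f, g, k, e0, H⟩ := fin1 p q s
  obtain ⟨b0, b1, b2, b3, b4, b5, b6, b7, b8, b9, b10, b11, b12, b13, b14⟩ := hm.ent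
  obtain ⟨c0, c1, c2, c3, c4, c5, c6, c7, c8, c9, c10, c11, c12, c13, c14⟩ := hr.up.ent
  obtain ⟨d0, d1, d2, d3, d4, d5⟩ := hr.ent
  obtain ⟨l, hl, l0, l1, l2, l3, l4⟩ := exL f g k
  have n : (l.1 * m * l.1ᵀ) 0 4 = p ∧ (l.1 * m * l.1ᵀ) 1 4 = q ∧ (l.1 * m * l.1ᵀ) 2 4 = s ∧
      (l.1 * m * l.1ᵀ) 3 4 = 0 ∧ (l.1 * m * l.1ᵀ) 0 3 = a * g + b * k + m 0 3 ∧
      (l.1 * m * l.1ᵀ) 1 3 = a * f + c * k + m 1 3 ∧ (l.1 * m * l.1ᵀ) 2 3 = b * f + c * g + m 2 3 := by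
    simp [mul_apply, Fin.sum_univ_five, one_apply, *]
  obtain ⟨n0, n1, n2, n3, n4, n5, n6⟩ := n
  have cm : l * r = r * l := Subtype.ext (by
    rw [cmul, cmul]
    ext i j
    fin_cases i <;> fin_cases j <;> simp [mul_apply, Fin.sum_univ_five, one_apply, *])
  obtain ⟨o, ho, e⟩ := hp.out (ψ l) (h.mem_G01.2 ⟨0, l, al_zero, fun j hj =>
      (hl 4 j (by decide)).trans (one_apply_ne fun e => by simp [← e] at hj), by rw [h.zero, one_mul]⟩)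
    (h.mem_Z6.2 ⟨l.1 * m * l.1ᵀ + m, ⟨(hm.act _).add hm, fun i => by
      fin_cases i
      exacts [by simp [*, CA.z2], by simp [*, CA.z2], by simp [*, CA.z2], by simp [*],
        ((hm.act _).add hm).2 4]⟩, by
      rw [← mul_assoc, h.act' l hm, mul_assoc (θ _), ← map_mul, cm, map_mul, _root_.mul_inv_rev, h.inv,
        h.add]
      group⟩)
  obtain ⟨m', r', hm', hr', rfl⟩ := h.mem_O14.1 ho
  rw [mul_assoc (θ m'), ← map_mul, h.el_mul _ _ hm, h.el_mul _ _ hm'] at e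
  have e1 := (h.el_inj (hm'.add (hm.act _)) (hm.add (hm'.act _)) e).1
  rw [cmul, transpose_mul, mul_assoc r'.1, ← mul_assoc (r'.1 * _), mul_assoc r'.1, mul_assoc r'.1,
    ← mul_assoc r'.1] at e1
  obtain ⟨-, -, -, -, -, -, -, s0, s1, s2⟩ := act hr' (hm.act l.1)
  obtain ⟨-, -, -, -, -, -, -, t0, t1, t2⟩ := act hr hm'
  have u0 := congrFun₂ e1 0 3
  have u1 := congrFun₂ e1 1 3
  have u2 := congrFun₂ e1 2 3
  rw [Matrix.add_apply, Matrix.add_apply] at u0 u1 u2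
  rw [s0, t0, n0, n3, n4, a0, a3] at u0
  rw [s1, t1, n1, n3, n5, a1, a3] at u1
  rw [s2, t2, n2, n3, n6, a2, a3] at u2
  exact H a b c (m' 3 4 - r'.1 3 4) (by linear_combination u0) (by linear_combination u1)
    (by linear_combination u2)

theorem fin2 : ∀ a b c a' b' c' a'' b'' c'' : ZMod 2, c = 0 → b' = 0 → a'' = 0 →
    b + b' + (c + c') = 0 → a + a'' + (c + c'') = 0 → a' + a'' + (b' + b'') = 0 →
    a + (a' + 1) + a'' + (b + b' + (b'' + 1)) + (c + c' + (c'' + 1)) ≠ 0 := by decide +kernel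

end Y4

theorem Fr.nA2_of (h : Fr θ ψ) {g : G} (hO : g ∈ Ns (O14 θ ψ)) (hG : g ∈ Ns (G01 θ ψ))
    (hZ : g ∈ Ns (Z6 θ)) : cj g (AA θ) ≠ A2 θ ψ := fun e => by
  have K : ∀ i : Fin 5, i.val < 4 → ∃ (v : V5) (m : Mt), v 4 = 0 ∧ Al m ∧
      (∀ j : Fin 5, j.val < 4 → m j 4 = (tv i 4).1 j 4) ∧
      g * θ (wg (Pi.single 4 1) v) * g⁻¹ = θ m * ψ (tv i 4) := fun i hi => by
    obtain ⟨n, hn, e1⟩ := h.mem_AA.1 (mem_cj.1 (e ▸ mem_sup_right (subset_closure ⟨i, hi, rfl⟩) :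
      tt ψ i 4 * ww θ i 4 ∈ cj g (AA θ)))
    obtain ⟨m, r, hm, -, hc, e2⟩ := h.mem_A2.1 (e ▸ conj_mem_cj.2 (h.θ_mem (al_wg (Pi.single 4 1)
      fun j => n j 4)))
    obtain ⟨w, hw, e3⟩ := h.mem_Z6.1 ((mem_normalizer_iff.1 hZ _).1 (h.mem_Z6.2
      ⟨n + wg (Pi.single 4 1) fun j => n j 4, ⟨hn.add (al_wg _ _), fun j => by
        simp [wg_ent, hn.2 4, CA.z2]⟩, rfl⟩))
    have e4 : θ m * ψ r = θ ((tv i 4).1 * (wm i 4 + w) * (tv i 4).1ᵀ) * ψ (tv i 4) := by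
      rw [← h.act' _ ((al_wm _ _).add hw.1), h.add, ← e3, ← e2, ← mul_assoc,
        show ψ (tv i 4) * θ (wm i 4) = g * θ n * g⁻¹ from
          (by rw [e1]; group : tt ψ i 4 * ww θ i 4 = g * θ n * g⁻¹), conj_mul, ← h.add, ← add_assoc,
        CA.madd, zero_add]
    obtain rfl := (h.el_inj hm (((al_wm _ _).add hw.1).act _) e4).2
    exact ⟨fun j => n j 4, m, hn.2 4, hm, hc, e2⟩
  have P : ∀ {v : V5}, v 4 = 0 → Y4.Pp θ ψ (g * θ (wg (Pi.single 4 1) v) * g⁻¹) := fun hv =>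
    (Y4.pp h hv).cj hO hG hZ
  have M : ∀ v v' : V5, g * θ (wg (Pi.single 4 1) (v + v')) * g⁻¹ =
      g * θ (wg (Pi.single 4 1) v) * g⁻¹ * (g * θ (wg (Pi.single 4 1) v') * g⁻¹) := fun v v' => by
    rw [conj_mul, wg_add, h.add]
  obtain ⟨v0, m0, h0, a0, c0, e0⟩ := K 0 (by decide)
  obtain ⟨v1, m1, h1, a1, c1, e1⟩ := K 1 (by decide)
  obtain ⟨v2, m2, h2, a2, c2, e2⟩ := K 2 (by decide)
  have r0 : Y4.Rp θ ψ _ 1 0 0 _ _ _ := ⟨⟨m0, _, a0, r4_tv 0 (by decide), e0, rfl, rfl, rfl, rfl,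
    c0 0 (by decide), c0 1 (by decide), c0 2 (by decide), c0 3 (by decide), rfl, rfl, rfl⟩⟩
  have r1 : Y4.Rp θ ψ _ 0 1 0 _ _ _ := ⟨⟨m1, _, a1, r4_tv 1 (by decide), e1, rfl, rfl, rfl, rfl,
    c1 0 (by decide), c1 1 (by decide), c1 2 (by decide), c1 3 (by decide), rfl, rfl, rfl⟩⟩
  have r2 : Y4.Rp θ ψ _ 0 0 1 _ _ _ := ⟨⟨m2, _, a2, r4_tv 2 (by decide), e2, rfl, rfl, rfl, rfl,
    c2 0 (by decide), c2 1 (by decide), c2 2 (by decide), c2 3 (by decide), rfl, rfl, rfl⟩⟩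
  have z : ∀ {v v' : V5}, v 4 = 0 → v' 4 = 0 → (v + v') 4 = 0 := fun a b => by
    rw [Pi.add_apply, a, b, add_zero]
  refine Y4.fin2 (m0 0 1) (m0 0 2) (m0 1 2) (m1 0 1) (m1 0 2) (m1 1 2) (m2 0 1) (m2 0 2) (m2 1 2)
    ?_ ?_ ?_ ?_ ?_ ?_ ?_
  · simpa using Y4.key h r0 (P h0)
  · simpa using Y4.key h r1 (P h1)
  · simpa using Y4.key h r2 (P h2)
  · simpa using Y4.key h (r0.mul h r1) (M _ _ ▸ P (z h0 h1))
  · simpa using Y4.key h (r0.mul h r2) (M _ _ ▸ P (z h0 h2))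
  · simpa using Y4.key h (r1.mul h r2) (M _ _ ▸ P (z h1 h2))
  · simpa using Y4.key h ((r0.mul h r1).mul h r2) (M _ _ ▸ M _ _ ▸ P (z (z h0 h1) h2))

end Cfsg.Lib.R10
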