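import Cfsg.Agent.R10.Y2

/-! An element interchanging `A` and `A1` which centralises `G01 / O14`. -/

set_option autoImplicit false
set_option linter.unusedSectionVars false

namespace Cfsg.Lib.R10

open Subgroup Cfsg.Lib.Trans Cfsg.Lib.Gold Matrix Ho
open scoped commutatorElement

universe u

namespace Y5a

/-- The last basis vector. -/
def e4 : V5 := Pi.single 4 1

/-- The translation vector of an element of the unipotent radical. -/
def bt (r : L5) : V5 := r.1 *ᵥ e4 + e4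

/-- The stabiliser of the last coordinate. -/
def PP (g : L5) : Prop := ∀ u : V5, (g.1 *ᵥ u) 4 = u 4

theorem e4_eq_1' : type_of% @e4.eq_1 := @e4.eq_1
theorem bt_eq_1' : type_of% @bt.eq_1 := @bt.eq_1
theorem PP_eq_1' : type_of% @PP.eq_1 := @PP.eq_1

variable {g g' r r' : L5} {m : Mt}

theorem col (m : Mt) (i j : Fin 5) : (m *ᵥ Pi.single j 1 : V5) i = m i j := by
  rw [mulVec_single_one]; rfl

theorem sing (i j : Fin 5) : (Pi.single j 1 : V5) i = (1 : Mt) i j := by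
  rw [← col 1, one_mulVec]

theorem ap_mul (g g' : L5) (u : V5) : (g * g').1 *ᵥ u = g.1 *ᵥ (g'.1 *ᵥ u) := by
  rw [mulVec_mulVec, cmul]

theorem ap_inv (g : L5) (u : V5) : g.1 *ᵥ ((g⁻¹).1 *ᵥ u) = u := by
  rw [← ap_mul, mul_inv_cancel]; exact one_mulVec u

theorem inv_ap (g : L5) (u : V5) : (g⁻¹).1 *ᵥ (g.1 *ᵥ u) = u := by
  rw [← ap_mul, inv_mul_cancel]; exact one_mulVec u

theorem PP.mul (h : PP g) (h' : PP g') : PP (g * g') := fun u => by rw [ap_mul, h, h']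

theorem PP.inv (h : PP g) : PP g⁻¹ := fun u => by rw [← h (_ *ᵥ u), ap_inv]

theorem PP.p4 (h : PP g) : P4 g := fun j hj => by
  rw [← col g.1, h, sing, one_apply_ne]; rintro rfl; omega

theorem PP.tr (h : PP g) : g.1ᵀ *ᵥ e4 = e4 := by
  funext j
  rw [e4, col, transpose_apply, ← col g.1, h, sing, sing, ← transpose_apply (1 : Mt), transpose_one]

theorem pp_of (h : P4 g) : PP g := by
  have k : ∀ u : V5, (g.1 *ᵥ u) 4 = g.1 4 4 * u 4 := fun u => by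
    simp [mulVec, dotProduct, Fin.sum_univ_five, h 0 (by decide), h 1 (by decide), h 2 (by decide),
      h 3 (by decide)]
  have e : g.1 4 4 = 1 := CA.z2' _ fun e => by
    have := k ((g⁻¹).1 *ᵥ e4)
    rw [ap_inv, e, zero_mul] at this
    exact absurd this (by decide)
  intro u
  rw [k, e, one_mul]

theorem r4_eq (h : R4 r) : r.1 = 1 + vecMulVec (bt r) e4 := by
  ext i j
  rw [Matrix.add_apply, vecMulVec_apply, bt, Pi.add_apply, e4, col, sing, sing]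
  by_cases e : j = 4
  · rw [e, one_apply_eq, mul_one, add_left_comm, CA.z2, add_zero]
  · rw [one_apply_ne e, mul_zero, add_zero]; exact h i j fun k => e k.2

theorem r4_ap (h : R4 r) (u : V5) : r.1 *ᵥ u = u + u 4 • bt r := by
  conv_lhs => rw [r4_eq h]
  rw [add_mulVec, one_mulVec, vecMulVec_mulVec, e4, single_dotProduct, one_mul, op_smul_eq_smul]

theorem bt4 (h : R4 r) : bt r 4 = 0 := by
  rw [bt, Pi.add_apply, e4, col, sing, h 4 4 (by decide), CA.z2]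

theorem r4_pp (h : R4 r) : PP r := fun u => by
  rw [r4_ap h, Pi.add_apply, Pi.smul_apply, bt4 h, smul_zero, add_zero]

theorem r4_fix (h : R4 r) {u : V5} (hu : u 4 = 0) : r.1 *ᵥ u = u := by
  rw [r4_ap h, hu, zero_smul, add_zero]

theorem r4_of (h1 : PP r) (h2 : ∀ u : V5, u 4 = 0 → r.1 *ᵥ u = u) : R4 r := fun i j k => by
  by_cases e : j = 4
  · obtain rfl : i = 4 := by
      by_contra c
      exact k ⟨by omega, e⟩
    rw [← col r.1, h1, sing]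
  · rw [← col r.1, h2 _ (by rw [sing, one_apply_ne (Ne.symm e)]), sing]

theorem r4_conj (hg : PP g) (h : R4 r) : R4 (g * r * g⁻¹) :=
  r4_of ((hg.mul (r4_pp h)).mul hg.inv) fun u hu => by
    rw [ap_mul, ap_mul, r4_fix h ((hg.inv u).trans hu), ap_inv]

theorem bt_conj (hg : PP g) (h : R4 r) : bt (g * r * g⁻¹) = g.1 *ᵥ bt r := by
  rw [bt, ap_mul, ap_mul, r4_ap h, hg.inv, mulVec_add, ap_inv, show e4 4 = 1 from rfl, one_smul,
    add_right_comm, vadd, zero_add]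

theorem bt_mul (h : R4 r) (h' : R4 r') : bt (r * r') = bt r + bt r' := by
  rw [bt, ap_mul, r4_ap h, r4_pp h', show e4 4 = 1 from rfl, one_smul, add_right_comm, add_comm]
  rfl

theorem bt_one : bt 1 = 0 := by
  rw [bt, show (1 : L5).1 = 1 from rfl, one_mulVec, vadd]

theorem bt_inj (h : R4 r) (e : bt r = 0) : r = 1 :=
  Subtype.ext (by rw [r4_eq h, e, zero_vecMulVec, add_zero]; rfl)

theorem cl_act (hg : PP g) (m : Mt) : (g.1 * m * g.1ᵀ) *ᵥ e4 = g.1 *ᵥ (m *ᵥ e4) := by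
  rw [← mulVec_mulVec, hg.tr, mulVec_mulVec]

theorem cl_wg {v : V5} (hv : v 4 = 0) : wg v e4 *ᵥ e4 = v := by
  funext i
  rw [e4, col, wg_ent, hv, mul_zero, add_zero, Pi.single_eq_same, mul_one]

theorem r4_act (h : R4 r) (hm : Al m) : r.1 * m * r.1ᵀ + m = wg (bt r) (m *ᵥ e4) := by
  have e : e4 ᵥ* m = m *ᵥ e4 := by rw [← mulVec_transpose, hm.1]
  have e' : (m *ᵥ e4) ⬝ᵥ e4 = 0 := by rw [e4, dotProduct_single, mul_one, col, hm.2]
  conv_lhs => rw [r4_eq h]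
  rw [transpose_add, transpose_one, transpose_vecMulVec, Matrix.add_mul, Matrix.one_mul,
    vecMulVec_mul, e, Matrix.mul_add, Matrix.mul_one, mul_vecMulVec, add_mulVec, vecMulVec_mulVec, e',
    MulOpposite.op_zero, zero_smul, add_zero, wg, add_right_comm, add_right_comm m, CA.madd, zero_add]

theorem tv_mul {i j : Fin 5} (h : i ≠ j) (u : V5) :
    (tv i j).1 *ᵥ u = u + u j • (Pi.single i 1 : V5) := by
  revert i j u; decide +kernel

theorem wm4 : ∀ i : Fin 5, i < 4 → wm i 4 *ᵥ e4 = Pi.single i 1 := by decide +kernel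

theorem wm0 : ∀ i j : Fin 5, i.val < 4 → j.val < 4 → wm i j *ᵥ e4 = 0 := by decide +kernel

theorem wgm : ∀ i j : Fin 5, i.val < 4 → j.val < 4 → wg (wm i 4 *ᵥ e4) (bt (tv j 4)) = wm i j ∧
    wg (bt (tv j 4)) (wm i 4 *ᵥ e4) = wm i j := by decide +kernel

/-- An element of the parabolic subgroup which centralises the Levi quotient. -/
theorem r4_cen (hg : PP g) (k : ∀ i j : Fin 5, i.val < 4 → j.val < 4 → R4 ⁅g, tv i j⁆) : R4 g := by
  have c : ∀ i : Fin 5, i.val < 4 → g.1 *ᵥ Pi.single i 1 = Pi.single i 1 := fun i hi => by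
    have k1 : ∀ j : Fin 5, j.val < 4 → i ≠ j → g.1 *ᵥ Pi.single i 1 = g.1 j j • (Pi.single i 1 : V5) :=
      fun j hj e => by
        have h4 : (g.1 *ᵥ Pi.single j 1 : V5) 4 = 0 := by
          rw [hg, sing, one_apply_ne]; rintro rfl; omega
        have := r4_fix (k i j hi hj) (u := (tv i j).1 *ᵥ (g.1 *ᵥ Pi.single j 1)) (by
          rw [tv_mul e, Pi.add_apply, h4, Pi.smul_apply, sing, one_apply_ne, smul_zero, add_zero]
          rintro rfl; omega)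
        rw [commutatorElement_def, ap_mul, ap_mul, ap_mul, inv_ap, inv_ap, tv_mul e, tv_mul e,
          mulVec_add, Pi.single_eq_same, one_smul, col] at this
        exact add_left_cancel this
    obtain ⟨j, hj, e⟩ : ∃ j : Fin 5, j.val < 4 ∧ i ≠ j := by clear k1; revert i; decide
    have k2 := k1 j hj e
    rw [k2, CA.z2' (g.1 j j) fun e0 => ?_, one_smul]
    rw [e0, zero_smul] at k2
    have := congrFun (inv_ap g (Pi.single i 1)) i
    rw [k2, mulVec_zero, Pi.single_eq_same] at this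
    exact zero_ne_one this
  intro i j e
  by_cases e' : j = 4
  · obtain rfl : i = 4 := by
      by_contra c
      exact e ⟨by omega, e'⟩
    rw [← col g.1, hg, sing]
  · rw [← col g.1, c j (by omega), sing]

variable {G : Type u} [Group G] [Finite G] {θ : Mt → G} {ψ : L5 →* G} {a x y : G}

/-- The linear part of an element of the normaliser of `A`. -/
def Lp (θ : Mt → G) (ψ : L5 →* G) (x : G) (g : L5) : Prop := ∃ m, Al m ∧ x = θ m * ψ g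

/-- The action of `a` on `A / Z` in coordinates. -/
def Rel (θ : Mt → G) (ψ : L5 →* G) (a : G) (B : Mt) : Prop :=
  ∀ m, Al m → ∃ r, R4 r ∧ Lp θ ψ (a * θ m * a⁻¹) r ∧ bt r = B *ᵥ (m *ᵥ e4)

theorem Lp_eq_1' : type_of% @Lp.eq_1 := @Lp.eq_1
theorem Rel_eq_1' : type_of% @Rel.eq_1 := @Rel.eq_1

variable (h : Fr θ ψ)
include h

theorem Lp.mul (h1 : Lp θ ψ x g) (h2 : Lp θ ψ y g') : Lp θ ψ (x * y) (g * g') := by
  obtain ⟨m, hm, rfl⟩ := h1
  obtain ⟨m', hm', rfl⟩ := h2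
  exact ⟨_, hm.add (hm'.act _), h.el_mul m g hm' g'⟩

theorem Lp.inv (h1 : Lp θ ψ x g) : Lp θ ψ x⁻¹ g⁻¹ := by
  obtain ⟨m, hm, rfl⟩ := h1
  exact ⟨_, hm.act _, by rw [_root_.mul_inv_rev, h.inv, ← map_inv, h.act' _ hm]⟩

theorem Lp.uniq (h1 : Lp θ ψ x g) (h2 : Lp θ ψ x g') : g = g' := by
  obtain ⟨m, hm, rfl⟩ := h1
  obtain ⟨m', hm', e⟩ := h2
  exact (h.el_inj hm hm' e).2

theorem lp_ψ (g : L5) : Lp θ ψ (ψ g) g := ⟨0, al_zero, by rw [h.zero, one_mul]⟩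

theorem exists_rel (hZ : a ∈ Ns (Z6 θ)) (e01 : cj a (AA θ) = A1 θ ψ) :
    ∃ β : L5, PP β ∧ Rel θ ψ a β.1 := by
  have a1 : ∀ m, Al m → a * θ m * a⁻¹ ∈ A1 θ ψ := fun m hm => e01 ▸ cj_le_iff.1 le_rfl _ (h.θ_mem hm)
  have ex : ∀ i, ∃ r, R4 r ∧ Lp θ ψ (a * ww θ i 4 * a⁻¹) r := fun i => by
    obtain ⟨n, r, hn, hr, e⟩ := h.of_mem_A1 (a1 _ (al_wm i 4))
    exact ⟨r, hr, n, hn.1, e⟩
  choose r hr hl using ex
  let B : Mt := Matrix.of fun k i => if i = 4 then e4 k else bt (r i) k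
  have b4 : ∀ u : V5, (B *ᵥ u) 4 = u 4 := fun u => by
    simp [B, mulVec, dotProduct, bt4 (hr _), e4]
  have rel : Rel θ ψ a B := fun m hm => by
    obtain ⟨m', hm', e, k⟩ := h.θ_mem_of (H := CA.mkSub (fun x => ∃ m, Al m ∧ x = θ m ∧
      ∃ r, R4 r ∧ Lp θ ψ (a * θ m * a⁻¹) r ∧ bt r = B *ᵥ (m *ᵥ e4))
      ⟨0, al_zero, h.zero.symm, 1, r4_one, by simpa [h.zero] using lp_ψ h 1, by simp [bt_one]⟩ (by
        rintro _ _ ⟨m, hm, rfl, r, h1, h2, h3⟩ ⟨m', hm', rfl, r', k1, k2, k3⟩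
        refine ⟨m + m', hm.add hm', (h.add _ _).symm, r * r', h1.mul k1, ?_, ?_⟩
        · rw [h.add, ← conj_mul]; exact h2.mul h k2
        · rw [bt_mul h1 k1, h3, k3, add_mulVec, mulVec_add])) hm fun i j hij _ => by
      refine ⟨_, al_wm i j, rfl, ?_⟩
      by_cases e : j = 4
      · subst e
        refine ⟨r i, hr i, hl i, ?_⟩
        rw [wm4 i hij]
        funext k
        rw [col]
        exact (if_neg hij.ne).symm
      · have hi : i.val < 4 ∧ j.val < 4 := by have : i.val < j.val := hij; omega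
        obtain ⟨n, hn, e'⟩ := h.mem_Z6.1 (mem_normalizer_conj hZ
          (h.mem_Z6.2 ⟨_, w6_wm i j hi.1 hi.2, rfl⟩))
        refine ⟨1, r4_one, ⟨n, hn.1, by rw [e', map_one, mul_one]⟩, ?_⟩
        rw [wm0 i j hi.1 hi.2, mulVec_zero, bt_one]
    rwa [h.inj' hm hm' e]
  have d : B.det = 1 := CA.z2' _ fun e => by
    obtain ⟨v, v0, hv⟩ := Matrix.exists_mulVec_eq_zero_iff.2 e
    have v4 : v 4 = 0 := by rw [← b4 v, hv]; rfl
    obtain ⟨s, h1, ⟨n, hn, h2⟩, h3⟩ := rel _ (al_wg v e4)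
    rw [cl_wg v4, hv] at h3
    rw [bt_inj h1 h3, map_one, mul_one] at h2
    have z : a * θ (wg v e4) * a⁻¹ ∈ Z6 θ := h.inf01 ▸ ⟨h2 ▸ h.θ_mem hn, a1 _ (al_wg v e4)⟩
    obtain ⟨n', hn', e'⟩ := h.mem_Z6.1 ((mem_normalizer_iff.1 hZ _).2 z)
    refine v0 (funext fun i => ?_)
    rw [← cl_wg v4, h.inj' (al_wg v e4) hn'.1 e', e4, col, hn'.2]; rfl
  exact ⟨⟨B, d⟩, b4, rel⟩

theorem cG (hG : a ∈ Ns (G01 θ ψ)) (rel : Rel θ ψ a 1) (hx : x ∈ G01 θ ψ) : ⁅a, x⁆ ∈ O14 θ ψ := by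
  obtain ⟨n, γ, hn, hγ, e⟩ := h.mem_G01.1 hx
  obtain ⟨n', γ', hn', hγ', e'⟩ := h.mem_G01.1 (mem_normalizer_conj hG hx)
  have p := pp_of hγ
  have p' := pp_of hγ'
  have l' : Lp θ ψ (a * x * a⁻¹) γ' := ⟨n', hn', e'⟩
  have k : ∀ v : V5, v 4 = 0 → γ'.1 *ᵥ v = γ.1 *ᵥ v := fun v hv => by
    obtain ⟨r, h1, h2, h3⟩ := rel _ (al_wg v e4)
    obtain ⟨s, -, k2, k3⟩ := rel _ ((al_wg v e4).act γ.1)
    rw [← el_conj h n γ (al_wg v e4), ← e] at k2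
    have k4 := (l'.mul h h2).mul h (l'.inv h)
    rw [show a * x * a⁻¹ * (a * θ (wg v e4) * a⁻¹) * (a * x * a⁻¹)⁻¹ =
      a * (x * θ (wg v e4) * x⁻¹) * a⁻¹ by group] at k4
    rw [k2.uniq h k4, bt_conj p' h1, h3, cl_act p, cl_wg hv, one_mulVec, one_mulVec] at k3
    exact k3
  obtain ⟨m, hm, e''⟩ := l'.mul h (Lp.inv h ⟨n, hn, e⟩)
  exact h.mem_O14.2 ⟨m, _, hm, r4_of (p'.mul p.inv) fun u hu => by
    rw [ap_mul, k _ ((p.inv u).trans hu), ap_inv], e''⟩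

theorem sq2 (hO : a ∈ Ns (O14 θ ψ)) (hG : a ∈ Ns (G01 θ ψ)) (e01 : cj a (AA θ) = A1 θ ψ)
    (e10 : cj a (A1 θ ψ) = AA θ) (rel : Rel θ ψ a 1) : a * a ∈ O14 θ ψ := by
  have g : a * a ∈ G01 θ ψ := h.G01_eq ▸
    ⟨cj_eq_self_iff.1 (by rw [← cj_cj, e01, e10]), mul_mem hO hO⟩
  obtain ⟨n, d, hn, hd, e⟩ := h.mem_G01.1 g
  refine h.mem_O14.2 ⟨n, d, hn, r4_cen (pp_of hd) fun i j hi hj => ?_, e⟩
  have t : tt ψ i j ∈ G01 θ ψ := mem_sup_right (subset_closure ⟨i, j, hi, hj, rfl⟩)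
  have c := cG h hG rel t
  obtain ⟨m, s, hm, hs, e'⟩ := h.mem_O14.1 (mul_mem (mem_normalizer_conj hO c) c)
  have l : Lp θ ψ (a * a) d := ⟨n, hn, e⟩
  have l' := lp_ψ h (tv i j)
  have k := ((l.mul h l').mul h (l.inv h)).mul h (l'.inv h)
  rw [commutatorElement_def, k.uniq h ⟨m, hm, Eq.trans ?_ e'⟩]
  · exact hs
  · simp only [commutatorElement_def, tt]; group

theorem cZ (e10 : cj a (A1 θ ψ) = AA θ) (rel : Rel θ ψ a 1) (s2 : a * a ∈ O14 θ ψ) :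
    a ∈ Cs (Z6 θ) := by
  change a ∈ centralizer ((closure _ : Subgroup G) : Set G)
  rw [centralizer_closure]
  rintro _ ⟨i, j, hi, hj, rfl⟩
  have cm : ∀ {n m : Mt} {r : L5}, R4 r → Al m →
      ⁅θ n * ψ r, θ m⁆ = θ (wg (bt r) (m *ᵥ e4)) := fun hr hm => by
    rw [commutatorElement_def, el_conj h _ _ hm, h.inv, ← h.add, r4_act hr hm]
  obtain ⟨n, d, hn, hd, e2⟩ := h.mem_O14.1 s2
  obtain ⟨r, h1, ⟨n1, -, h2⟩, h3⟩ := rel _ (al_wm i 4)
  have t : tt ψ j 4 ∈ A1 θ ψ := mem_sup_right (subset_closure ⟨j, hj, rfl⟩)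
  obtain ⟨m, hm, e3⟩ := h.mem_AA.1 (e10 ▸ cj_le_iff.1 le_rfl _ t)
  obtain ⟨s, -, k2, k3⟩ := rel _ hm
  have l : Lp θ ψ (a * a) d := ⟨n, hn, e2⟩
  have k4 := (l.mul h (lp_ψ h (tv j 4))).mul h (l.inv h)
  rw [e3, show a * (a * tt ψ j 4 * a⁻¹) * a⁻¹ = a * a * ψ (tv j 4) * (a * a)⁻¹ by rw [tt]; group] at k2
  rw [k2.uniq h k4, bt_conj (r4_pp hd) (r4_tv j hj), r4_fix hd (bt4 (r4_tv j hj)), one_mulVec] at k3
  have c1 := cm (n := 0) (r4_tv j hj) (al_wm i 4)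
  have c2 := cm (n := n1) h1 hm
  rw [← h2, e3, h3, one_mulVec, ← k3, ← conjugate_commutatorElement, ← commutatorElement_inv,
    (wgm i j hi hj).1] at c2
  rw [h.zero, one_mul, (wgm i j hi hj).2] at c1
  rw [tt, c1, h.inv] at c2
  exact (mul_inv_eq_iff_eq_mul.1 c2).symm

end Y5a

open Y5a

variable {G : Type u} [Group G] [Finite G] {θ : Mt → G} {ψ : L5 →* G}

theorem Fr.sw0 (h : Fr θ ψ) {a : G} (hO : a ∈ Ns (O14 θ ψ)) (hG : a ∈ Ns (G01 θ ψ))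
    (hZ : a ∈ Ns (Z6 θ)) (e01 : cj a (AA θ) = A1 θ ψ) (e10 : cj a (A1 θ ψ) = AA θ) :
    ∃ a, Sw0 θ ψ a := by
  obtain ⟨β, p, rel⟩ := exists_rel h hZ e01
  have g : ψ β⁻¹ ∈ G01 θ ψ := h.mem_G01.2 ⟨0, _, al_zero, p.inv.p4, by rw [h.zero, one_mul]⟩
  have g' := h.G01_eq.le g
  have rel' : Rel θ ψ (ψ β⁻¹ * a) 1 := fun m hm => by
    obtain ⟨r, h1, h2, h3⟩ := rel m hm
    refine ⟨_, r4_conj p.inv h1, ?_, by rw [bt_conj p.inv h1, h3, inv_ap, one_mulVec]⟩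
    have := ((lp_ψ h β⁻¹).mul h h2).mul h ((lp_ψ h β⁻¹).inv h)
    rwa [show ψ β⁻¹ * (a * θ m * a⁻¹) * (ψ β⁻¹)⁻¹ = ψ β⁻¹ * a * θ m * (ψ β⁻¹ * a)⁻¹ by group] at this
  have f01 : cj (ψ β⁻¹ * a) (AA θ) = A1 θ ψ := by
    rw [← cj_cj, e01, cj_eq_self_iff.2 (h.G01_A1 g)]
  have f10 : cj (ψ β⁻¹ * a) (A1 θ ψ) = AA θ := by rw [← cj_cj, e10, cj_eq_self_iff.2 g'.1]
  have hG' := mul_mem (le_normalizer g) hG
  have s2 := Y5a.sq2 h (mul_mem g'.2 hO) hG' f01 f10 rel'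
  exact ⟨_, s2, f01, f10, cZ h f10 rel' s2, fun x hx => cG h hG' rel' hx⟩

end Cfsg.Lib.R10
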