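import Cfsg.Agent.R10.YD

/-! The last adjustment of the element interchanging `A` and `A1`. -/

set_option autoImplicit false
set_option linter.unusedSectionVars false
set_option linter.unusedVariables false

namespace Cfsg.Lib.R10

open Subgroup Cfsg.Lib.Trans Cfsg.Lib.Gold Matrix
open scoped commutatorElement

universe u

variable {G : Type u} [Group G] [Finite G] {θ : Mt → G} {ψ : L5 →* G}

namespace Y5b

/-- A `3`-group acting on a coset of a `2`-group fixes an element. -/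
theorem fix_coset {O Y : Subgroup G} (hO : IsPGroup 2 O) (hY : IsPGroup 3 Y) {a : G}
    (k : ∀ y ∈ Y, ∀ o ∈ O, y * (o * a) * y⁻¹ * a⁻¹ ∈ O) :
    ∃ o ∈ O, ∀ y ∈ Y, o * a * y = y * (o * a) := by
  letI : MulAction Y O :=
    { smul := fun y o => ⟨y * (o * a) * (y : G)⁻¹ * a⁻¹, k y y.2 o o.2⟩
      one_smul := fun o => Subtype.ext (by
        change (1 : G) * (o * a) * (1 : G)⁻¹ * a⁻¹ = o
        group)
      mul_smul := fun y y' o => Subtype.ext (by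
        change (y : G) * y' * (o * a) * ((y : G) * y')⁻¹ * a⁻¹ =
          y * ((y' * (o * a) * (y' : G)⁻¹ * a⁻¹) * a) * (y : G)⁻¹ * a⁻¹
        group) }
  haveI : Fact (Nat.Prime 3) := ⟨Nat.prime_three⟩
  obtain ⟨n, hn⟩ := IsPGroup.iff_card.1 hO
  obtain ⟨o, ho⟩ := hY.nonempty_fixed_point_of_prime_not_dvd_card O (by
    rw [hn]
    intro e
    have := Nat.prime_three.dvd_of_dvd_pow e
    omega)
  refine ⟨o, o.2, fun y hy => ?_⟩
  have e : y * (o * a) * y⁻¹ * a⁻¹ = o := congrArg Subtype.val (ho ⟨y, hy⟩)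
  rw [mul_inv_eq_iff_eq_mul, mul_inv_eq_iff_eq_mul] at e
  exact e.symm

theorem x3 : (tv 0 1 * tv 1 0) ^ 3 = 1 := by decide +kernel

theorem y3 : (tv 2 3 * tv 3 2) ^ 3 = 1 := by decide +kernel

theorem xy : tv 0 1 * tv 1 0 * (tv 2 3 * tv 3 2) = tv 2 3 * tv 3 2 * (tv 0 1 * tv 1 0) := by
  decide +kernel

theorem x_inv : (tv 0 1 * tv 1 0)⁻¹ = tv 1 0 * tv 0 1 :=
  inv_eq_of_mul_eq_one_left (by decide +kernel)

theorem x_w : ∀ i j : Fin 5, i.val < 2 → U7 ((tv 0 1 * tv 1 0).1 * wm i j * (tv 0 1 * tv 1 0).1ᵀ) := by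
  decide +kernel

theorem x_t : ∀ i j : Fin 5, i.val < 2 → 2 ≤ j.val →
    RR (tv 0 1 * tv 1 0 * tv i j * (tv 1 0 * tv 0 1)) := by
  decide +kernel

theorem t_w : ∀ k i j : Fin 5, k.val < 4 → i.val < 2 → U7 ((tv k 4).1 * wm i j * (tv k 4).1ᵀ) := by
  decide +kernel

theorem t_t : ∀ k i j : Fin 5, k.val < 4 → i.val < 2 → 2 ≤ j.val →
    RR (tv k 4 * tv i j * tv k 4) := by
  decide +kernel

theorem w_t : ∀ k l i j : Fin 5, i.val < 2 → 2 ≤ j.val →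
    U7 (wm k l + (tv i j).1 * wm k l * (tv i j).1ᵀ) := by
  decide +kernel

theorem x_w' : ∀ i j : Fin 5, 2 ≤ i.val → 2 ≤ j.val →
    (tv 0 1 * tv 1 0).1 * wm i j * (tv 0 1 * tv 1 0).1ᵀ = wm i j := by
  decide +kernel

theorem x_t' : ∀ i : Fin 5, 2 ≤ i.val → tv 0 1 * tv 1 0 * tv i 4 = tv i 4 * (tv 0 1 * tv 1 0) := by
  decide +kernel

theorem t_z : ∀ k i j : Fin 5, k.val < 4 → i.val < 4 → j.val < 4 →
    (tv k 4).1 * wm i j * (tv k 4).1ᵀ = wm i j := by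
  decide +kernel

theorem gen_w : ∀ i j : Fin 5, i.val < 2 → 2 ≤ j.val →
    ∃ m ∈ [wm 0 j, wm 1 j, wm 0 j + wm 1 j], U7 m ∧
      wm i j = (tv 0 1 * tv 1 0).1 * m * (tv 0 1 * tv 1 0).1ᵀ + m := by
  decide +kernel

theorem gen_t : ∀ i j : Fin 5, i.val < 2 → 2 ≤ j.val →
    ∃ r ∈ [tv 0 j, tv 1 j, tv 0 j * tv 1 j], RR r ∧
      tv i j * r * (tv 0 1 * tv 1 0) = tv 0 1 * tv 1 0 * r := by
  decide +kernel

theorem r4_sq {r : L5} (hr : R4 r) : r * r = 1 := by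
  obtain ⟨a0, a1, a2, a3, a4, a5⟩ := hr.ent
  obtain ⟨c0, c1, c2, c3, c4, c5, c6, c7, c8, c9⟩ := hr.up.mul_ent hr.up
  refine (hr.up.mul hr.up).ext up_one fun i j hij => ?_
  fin_cases i <;> fin_cases j <;> simp_all [CA.z2]

theorem xx_eq : xx ψ = ψ (tv 0 1 * tv 1 0) := (map_mul ψ _ _).symm

theorem yy_eq : yy ψ = ψ (tv 2 3 * tv 3 2) := (map_mul ψ _ _).symm

theorem tt_G01 {i j : Fin 5} (hi : i.val < 4) (hj : j.val < 4) : tt ψ i j ∈ G01 θ ψ :=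
  mem_sup_right (subset_closure ⟨i, j, hi, hj, rfl⟩)

variable (h : Fr θ ψ)
include h

/-- A subgroup containing the generators contains `O14`. -/
theorem O_le {K : Subgroup G} (k1 : ∀ i j, ww θ i j ∈ K) (k2 : ∀ i : Fin 5, i.val < 4 → tt ψ i 4 ∈ K) :
    O14 θ ψ ≤ K := by
  refine sup_le (fun a ha => ?_) (sup_le ((closure_le _).2 ?_) ((closure_le _).2 ?_))
  · obtain ⟨m, hm, rfl⟩ := h.mem_AA.1 ha
    exact h.θ_mem_of hm fun i j _ _ => k1 i j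
  · rintro _ ⟨i, j, -, -, rfl⟩
    exact k1 i j
  · rintro _ ⟨i, hi, rfl⟩
    exact k2 i hi

theorem two_O : IsPGroup 2 (O14 θ ψ) := by
  rintro ⟨x, hx⟩
  obtain ⟨m, r, hm, hr, rfl⟩ := O_le h (K := h.SG Al R4 al_zero r4_one (fun _ => id)
    (fun _ _ => Al.add) (fun _ _ => R4.mul) (fun _ _ k _ => k.act _))
    (fun i j => ⟨_, 1, al_wm i j, r4_one, by rw [map_one, mul_one, ww]⟩)
    (fun i hi => ⟨0, _, al_zero, r4_tv i hi, by rw [h.zero, one_mul, tt]⟩) hx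
  refine ⟨2, Subtype.ext ?_⟩
  change (θ m * ψ r) ^ (2 * 2) = 1
  rw [pow_mul, pow_two (θ m * ψ r), h.el_mul m r hm, r4_sq hr, map_one, mul_one, pow_two, h.sq]

theorem O_cZ : O14 θ ψ ≤ Cs (Z6 θ) := by
  have k : ∀ g : G, (∀ i j : Fin 5, i.val < 4 → j.val < 4 → g * ww θ i j = ww θ i j * g) →
      g ∈ Cs (Z6 θ) := fun g hg => by
    refine mem_Cs.2 fun u hu => mem_C1.1 ((show Z6 θ ≤ C1 g from (closure_le _).2 ?_) hu)
    rintro _ ⟨i, j, hi, hj, rfl⟩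
    exact mem_C1.2 (hg i j hi hj).symm
  refine O_le h (fun a b => k _ fun i j _ _ => h.comm _ _) fun a ha => k _ fun i j hi hj => ?_
  exact (h.act' _ (al_wm i j)).trans (by rw [t_z a i j ha hi hj]; rfl)

theorem G_nA : G01 θ ψ ≤ Ns (AA θ) := by
  refine sup_le (h.O14_le_TT.trans h.TT_le_Ns) ((closure_le _).2 ?_)
  rintro _ ⟨i, j, -, -, rfl⟩
  exact (h.nrm _).2 ⟨0, _, al_zero, by rw [h.zero, one_mul, tt]⟩

theorem ψ_nQ {g g' : L5} (e : g⁻¹ = g') (k1 : ∀ i j : Fin 5, i.val < 2 → U7 (g.1 * wm i j * g.1ᵀ))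
    (k2 : ∀ i j : Fin 5, i.val < 2 → 2 ≤ j.val → RR (g * tv i j * g')) : ψ g ∈ Ns (QQ θ ψ) := by
  refine mem_normalizer_of_cj_le (map_le_iff_le_comap.2 ((closure_le _).2 ?_))
  rintro _ ⟨i, j, hi, -, rfl | ⟨hj, rfl⟩⟩
  · change ψ g * θ (wm i j) * (ψ g)⁻¹ ∈ QQ θ ψ
    rw [h.act _ _ (al_wm i j)]
    exact h.θ_mem_QQ (k1 i j hi)
  · change ψ g * ψ (tv i j) * (ψ g)⁻¹ ∈ QQ θ ψ
    rw [← map_inv, ← map_mul, ← map_mul, e]
    exact Fr.ψ_mem_QQ (k2 i j hi hj)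

theorem w_nQ (k l : Fin 5) : ww θ k l ∈ Ns (QQ θ ψ) := by
  refine mem_normalizer_of_cj_le (map_le_iff_le_comap.2 ((closure_le _).2 ?_))
  rintro _ ⟨i, j, hi, -, rfl | ⟨hj, rfl⟩⟩
  · change θ (wm k l) * θ (wm i j) * (θ (wm k l))⁻¹ ∈ QQ θ ψ
    rw [h.comm, mul_inv_cancel_right]
    exact h.θ_mem_QQ (u7_wm i j hi)
  · change θ (wm k l) * ψ (tv i j) * (θ (wm k l))⁻¹ ∈ QQ θ ψ
    rw [h.inv, mul_assoc, h.act' _ (al_wm k l), ← mul_assoc, ← h.add]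
    exact mul_mem (h.θ_mem_QQ (w_t k l i j hi hj)) (Fr.ψ_mem_QQ (rr_tv i j hi hj))

theorem x_nQ : xx ψ ∈ Ns (QQ θ ψ) := xx_eq (ψ := ψ) ▸ ψ_nQ h x_inv x_w x_t

theorem nQ {a : G} (cZ : a ∈ Cs (Z6 θ)) (cG : ∀ g ∈ G01 θ ψ, ⁅a, g⁆ ∈ O14 θ ψ)
    (cx : a * xx ψ = xx ψ * a) : a ∈ Ns (QQ θ ψ) := by
  let K : Subgroup G := CA.mkSub (fun g => g ∈ Ns (QQ θ ψ) ∧ xx ψ * g * (xx ψ)⁻¹ * g⁻¹ ∈ QQ θ ψ)
    ⟨one_mem _, by simp⟩ fun g g' k k' => ⟨mul_mem k.1 k'.1, by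
      have := mul_mem k.2 ((mem_normalizer_iff.1 k.1 _).1 k'.2)
      convert this using 1
      group⟩
  have q1 : ∀ q ∈ QQ θ ψ, q ∈ K := fun q hq =>
    ⟨le_normalizer hq, mul_mem ((mem_normalizer_iff.1 (x_nQ h) _).1 hq) (inv_mem hq)⟩
  have q2 : ∀ g ∈ Ns (QQ θ ψ), xx ψ * g = g * xx ψ → g ∈ K := fun g hg e =>
    ⟨hg, by rw [e, mul_inv_cancel_right, mul_inv_cancel]; exact one_mem _⟩
  have hO : O14 θ ψ ≤ K := by
    refine O_le h (fun i j => h.θ_mem_of (al_wm i j) fun k l hkl _ => ?_) fun i hi => ?_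
    · by_cases c : k.val < 2
      · exact q1 _ (h.θ_mem_QQ (u7_wm k l c))
      · have : k.val < l.val := hkl
        refine q2 _ (w_nQ h k l) ?_
        rw [xx_eq, ww, h.act' _ (al_wm k l), x_w' k l (by omega) (by omega)]
    · by_cases c : i.val < 2
      · exact q1 _ (Fr.ψ_mem_QQ (rr_tv i 4 c (by decide)))
      · refine q2 _ (ψ_nQ h (inv_eq_of_mul_eq_one_left (CA.tv_sq i 4 (by omega)))
          (fun a b => t_w i a b hi) fun a b => t_t i a b hi) ?_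
        rw [xx_eq, tt, ← map_mul, ← map_mul, x_t' i (by omega)]
  have key : ∀ q ∈ QQ θ ψ, a * (xx ψ * q * (xx ψ)⁻¹ * q⁻¹) * a⁻¹ ∈ QQ θ ψ := fun q hq => by
    have k := (mul_mem (hO (cG q (Fr.TT_le_G01 (h.QQ_le_TT hq)))) (q1 q hq)).2
    have e : xx ψ = a * xx ψ * a⁻¹ := by rw [cx, mul_inv_cancel_right]
    rw [commutatorElement_def, e] at k
    convert k using 1
    group
  refine mem_normalizer_of_cj_le (map_le_iff_le_comap.2 ((closure_le _).2 ?_))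
  rintro _ ⟨i, j, hi, hij, rfl | ⟨hj, rfl⟩⟩
  · change a * ww θ i j * a⁻¹ ∈ QQ θ ψ
    by_cases c : j.val < 2
    · rw [← mem_Cs.1 cZ _ (subset_closure ⟨i, j, by omega, by omega, rfl⟩), mul_inv_cancel_right]
      exact h.θ_mem_QQ (u7_wm i j hi)
    · obtain ⟨m, -, hm, e⟩ := gen_w i j hi (by omega)
      have := key _ (h.θ_mem_QQ hm)
      rwa [xx_eq, h.act _ _ hm.1, h.inv, ← h.add, ← e] at this
  · change a * ψ (tv i j) * a⁻¹ ∈ QQ θ ψ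
    obtain ⟨r, -, hr, e⟩ := gen_t i j hi hj
    have := key _ (Fr.ψ_mem_QQ (θ := θ) (ψ := ψ) hr)
    rwa [xx_eq, ← map_mul, ← e, map_mul, mul_inv_cancel_right, map_mul, mul_inv_cancel_right] at this

end Y5b

open Y5b in
theorem Fr.sw (h : Fr θ ψ) {a : G} (ha : Sw0 θ ψ a) : ∃ a, Sw θ ψ a := by
  have aO : a ∈ Ns (O14 θ ψ) := mem_Ns_iff.2 (by rw [O14, cj_sup, ha.a01, ha.a10, sup_comm])
  have aG : a ∈ Ns (G01 θ ψ) := mem_normalizer_of_cj_le (cj_le_iff.2 fun g hg => by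
    have := mul_mem (mem_sup_left (ha.cG g hg) : _ ∈ G01 θ ψ) hg
    rwa [commutatorElement_def, inv_mul_cancel_right] at this)
  have g1 : G01 θ ψ ≤ Ns (A1 θ ψ) := by
    rw [← ha.a01, ← cj_Ns, ← mem_Ns_iff.1 aG]
    exact map_mono (G_nA h)
  have gO : ∀ g ∈ G01 θ ψ, ∀ o ∈ O14 θ ψ, g * o * g⁻¹ ∈ O14 θ ψ := fun g hg o ho =>
    (mem_normalizer_iff.1 (mem_Ns_sup (G_nA h hg) (g1 hg)) _).1 ho
  have hc : Commute (xx ψ) (yy ψ) := by
    rw [xx_eq, yy_eq]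
    exact ((map_mul ψ _ _).symm.trans (congrArg ψ xy)).trans (map_mul ψ _ _)
  have hx : xx ψ ∈ G01 θ ψ := mul_mem (tt_G01 (by decide) (by decide)) (tt_G01 (by decide) (by decide))
  have hy : yy ψ ∈ G01 θ ψ := mul_mem (tt_G01 (by decide) (by decide)) (tt_G01 (by decide) (by decide))
  let Y : Subgroup G := CA.mkSub (fun g => ∃ i j : ℕ, g = xx ψ ^ i * yy ψ ^ j) ⟨0, 0, by simp⟩ (by
    rintro _ _ ⟨i, j, rfl⟩ ⟨k, l, rfl⟩
    exact ⟨i + k, j + l, by rw [(hc.pow_pow k j).symm.mul_mul_mul_comm, pow_add, pow_add]⟩)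
  have hY : IsPGroup 3 Y := by
    rintro ⟨_, i, j, rfl⟩
    refine ⟨1, Subtype.ext ?_⟩
    change (xx ψ ^ i * yy ψ ^ j) ^ 3 = 1
    rw [(hc.pow_pow i j).mul_pow, ← pow_mul, ← pow_mul, mul_comm i, mul_comm j, pow_mul, pow_mul,
      xx_eq, yy_eq, ← map_pow ψ _ 3, ← map_pow ψ _ 3, x3, y3]
    simp
  obtain ⟨o, ho, k⟩ := fix_coset (two_O h) hY (a := a) (by
    rintro _ ⟨i, j, rfl⟩ o ho
    have hg := mul_mem (pow_mem hx i) (pow_mem hy j)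
    have := mul_mem (gO _ hg o ho) (inv_mem (ha.cG _ hg))
    convert this using 1
    rw [commutatorElement_def]
    group)
  have cZ := mul_mem (O_cZ h ho) ha.cZ
  have cG : ∀ g ∈ G01 θ ψ, ⁅o * a, g⁆ ∈ O14 θ ψ := fun g hg => by
    have := mul_mem (mul_mem ho (ha.cG g hg)) (gO g hg _ (inv_mem ho))
    convert this using 1
    simp only [commutatorElement_def]
    group
  have cx := k (xx ψ) ⟨1, 0, by simp⟩
  refine ⟨o * a, ?_, ?_, ?_, cZ, cG, cx, k (yy ψ) ⟨0, 1, by simp⟩, nQ h cZ cG cx⟩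
  · have := mul_mem (mul_mem ho ((mem_normalizer_iff.1 aO _).1 ho)) ha.sq
    convert this using 1
    group
  · rw [cj_mul, ha.a01, mem_Ns_iff.1 (g1 (mem_sup_left ho))]
  · rw [cj_mul, ha.a10, mem_Ns_iff.1 (G_nA h (mem_sup_left ho))]

end Cfsg.Lib.R10
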