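import Cfsg.Agent.R10.YD

/-! No involution acts on `A` with a commutator space of order at most four. -/

set_option autoImplicit false

namespace Cfsg.Lib.R10

open Subgroup Cfsg.Lib.Trans Cfsg.Lib.Gold Matrix
open scoped commutatorElement

universe u

namespace Y6

open Ho Module

theorem comm (v w : V5) : wg v w = wg w v := add_comm _ _

theorem dv {γ : L5} {p : V5} (hp : nl γ p = 0) (v : V5) :
    γ.1 * wg p v * γ.1ᵀ + wg p v = wg (nl γ v) p := by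
  rw [act_wg, nl_zero.1 hp, ← wg_add, ← nl_ap, comm]

theorem eq_add {a b c : V5} (e : c = a + b) : a = b + c := by
  rw [e, add_comm a, ← add_assoc, vadd, zero_add]

theorem w0 (u : V5) : wg u 0 = 0 := by ext i j; simp [wg_ent]

theorem ne {u a b : V5} (hu : u ≠ 0) (e : wg u a = wg u b) : a = b ∨ a = b + u := by
  rcases wg_zero (show wg u (a + b) = 0 by rw [wg_add, e, CA.madd]) with k | k | k
  · exact absurd k hu
  · exact .inl (by rw [eq_add k.symm, add_zero])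
  · exact .inr (eq_add k)

theorem dep {u u' p q : V5} (h : wg u u' ≠ 0) (e : wg u' p = wg u q) :
    p ∈ Submodule.span (ZMod 2) (({u, u'} : Finset V5) : Set V5) := by
  obtain ⟨i, hi⟩ := Function.ne_iff.1 h
  obtain ⟨j, hj⟩ := Function.ne_iff.1 hi
  have h1 : u i * u' j + u' i * u j = 1 := CA.z2' _ hj
  rw [Finset.coe_pair]
  refine Submodule.mem_span_pair.2 ⟨q i * u j + q j * u i, p i * u j + p j * u i, funext fun k => ?_⟩
  have e1 : u' k * p i + p k * u' i = u k * q i + q k * u i := congrFun (congrFun e k) i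
  have e2 : u' k * p j + p k * u' j = u k * q j + q k * u j := congrFun (congrFun e k) j
  have t : (2 : ZMod 2) = 0 := rfl
  simp only [Pi.add_apply, Pi.smul_apply, smul_eq_mul]
  linear_combination u j * e1 + u i * e2 - p k * h1 +
    (q k * u i * u j + u k * q i * u j + u k * q j * u i - p k) * t

theorem out (K : Submodule (ZMod 2) V5) (s : Finset V5) (h : s.card < finrank (ZMod 2) K) :
    ∃ p ∈ K, p ∉ Submodule.span (ZMod 2) (s : Set V5) := by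
  by_contra k
  push Not at k
  exact absurd ((Submodule.finrank_mono k).trans (finrank_span_finset_le_card s)) (not_le.2 h)

/-- The values of `n ↦ γ n γᵀ + n`. -/
def Vl (γ : L5) (d : Mt) : Prop := ∃ n, Al n ∧ γ.1 * n * γ.1ᵀ + n = d

theorem Vl_eq_1' : type_of% @Vl.eq_1 := @Vl.eq_1

theorem four {γ : L5} (g2 : γ * γ = 1) (g1 : γ ≠ 1) : ∃ a b c d, Vl γ a ∧ Vl γ b ∧ Vl γ c ∧
    Vl γ d ∧ a ≠ 0 ∧ b ≠ 0 ∧ c ≠ 0 ∧ d ≠ 0 ∧ a ≠ b ∧ a ≠ c ∧ a ≠ d ∧ b ≠ c ∧ b ≠ d ∧ c ≠ d := by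
  obtain ⟨v, hv⟩ : ∃ v, nl γ v ≠ 0 := by
    by_contra k
    push Not at k
    exact g1 (eq_of_nl fun v => by rw [k, nl_zero.2 (by simp)])
  have r3 := rk3 g2
  have vl : ∀ p, nl γ p = 0 → ∀ w, Vl γ (wg (nl γ w) p) := fun p hp w => ⟨_, al_wg _ _, dv hp w⟩
  set u := nl γ v with hu
  have key : ∀ p1 p2 d, nl γ p1 = 0 → nl γ p2 = 0 → p1 ≠ 0 → p1 ≠ u →
      p2 ∉ Submodule.span (ZMod 2) (({u, p1} : Finset V5) : Set V5) → Vl γ d → d ≠ wg u 0 →
      d ≠ wg u p1 → d ≠ wg u p2 → d ≠ wg u (p1 + p2) → ∃ a b c d, Vl γ a ∧ Vl γ b ∧ Vl γ c ∧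
      Vl γ d ∧ a ≠ 0 ∧ b ≠ 0 ∧ c ≠ 0 ∧ d ≠ 0 ∧ a ≠ b ∧ a ≠ c ∧ a ≠ d ∧ b ≠ c ∧ b ≠ d ∧ c ≠ d := by
    intro p1 p2 d k1 k2 a0 a1 hs hd d0 d1 d2 d3
    have m0 : u ∈ Submodule.span (ZMod 2) (({u, p1} : Finset V5) : Set V5) :=
      Submodule.subset_span (by simp)
    have m1 : p1 ∈ Submodule.span (ZMod 2) (({u, p1} : Finset V5) : Set V5) :=
      Submodule.subset_span (by simp)
    have n1 : wg u p1 ≠ 0 := fun e =>
      (wg_zero e).elim hv fun e => e.elim a0 fun e => a1 e.symm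
    have n2 : wg u p2 ≠ 0 := fun e =>
      (wg_zero e).elim hv fun e => e.elim (fun e => hs (e ▸ zero_mem _)) fun e => hs (e ▸ m0)
    have n3 : wg u p2 ≠ wg u p1 := fun e =>
      (ne hv e).elim (fun e => hs (e ▸ m1)) fun e => hs (e ▸ add_mem m1 m0)
    rw [w0] at d0
    refine ⟨_, _, _, d, vl p1 k1 v, vl p2 k2 v, vl (p1 + p2) (by rw [map_add, k1, k2, add_zero]) v,
      hd, n1, n2, fun e => n3 ?_, d0, n3.symm, fun e => n2 ?_, d1.symm, fun e => n1 ?_, d2.symm,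
      d3.symm⟩ <;> rw [wg_add] at e
    · rw [← zero_add (wg u p2), ← CA.madd (wg u p1), add_assoc, e, add_zero]
    · exact left_eq_add.1 e
    · exact right_eq_add.1 e
  by_cases h4 : 4 ≤ finrank (ZMod 2) (LinearMap.ker (nl γ))
  · obtain ⟨p1, k1, s1⟩ := out (LinearMap.ker (nl γ)) {u} (by rw [Finset.card_singleton]; omega)
    obtain ⟨p2, k2, s2⟩ := out (LinearMap.ker (nl γ)) {u, p1} (Finset.card_le_two.trans_lt (by omega))
    obtain ⟨p3, k3, s3⟩ := out (LinearMap.ker (nl γ)) {u, p1, p2}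
      (Finset.card_le_three.trans_lt (by omega))
    have m0 : u ∈ Submodule.span (ZMod 2) (({u, p1, p2} : Finset V5) : Set V5) :=
      Submodule.subset_span (by simp)
    have m1 : p1 ∈ Submodule.span (ZMod 2) (({u, p1, p2} : Finset V5) : Set V5) :=
      Submodule.subset_span (by simp)
    have m2 : p2 ∈ Submodule.span (ZMod 2) (({u, p1, p2} : Finset V5) : Set V5) :=
      Submodule.subset_span (by simp)
    have k : ∀ q ∈ Submodule.span (ZMod 2) (({u, p1, p2} : Finset V5) : Set V5),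
        wg u p3 ≠ wg u q := fun q hq e =>
      (ne hv e).elim (fun e => s3 (e ▸ hq)) fun e => s3 (e ▸ add_mem hq m0)
    exact key p1 p2 _ k1 k2 (fun e => s1 (e ▸ zero_mem _))
      (fun e => s1 (e ▸ Submodule.subset_span (by simp))) s2 (vl p3 k3 v) (k _ (zero_mem _))
      (k _ m1) (k _ m2) (k _ (add_mem m1 m2))
  · have e := (nl γ).finrank_range_add_finrank_ker
    rw [show finrank (ZMod 2) V5 = 5 by simp] at e
    obtain ⟨_, ⟨v', rfl⟩, s1⟩ := out (LinearMap.range (nl γ)) {u}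
      (by rw [Finset.card_singleton]; omega)
    obtain ⟨p, k2, s2⟩ := out (LinearMap.ker (nl γ)) {u, nl γ v'}
      (Finset.card_le_two.trans_lt (by omega))
    have a0 : nl γ v' ≠ 0 := fun e => s1 (e ▸ zero_mem _)
    have a1 : nl γ v' ≠ u := fun e => s1 (e ▸ Submodule.subset_span (by simp))
    have k : ∀ q, wg (nl γ v') p ≠ wg u q := fun q e => s2 (dep (fun e =>
      (wg_zero e).elim hv fun e => e.elim a0 fun e => a1 e.symm) e)
    exact key _ p _ (nl_nl g2 v') k2 a0 a1 s2 (vl p k2 v') (k _) (k _) (k _) (k _)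

theorem pig {α : Type*} {p q r a b c d : α} (ha : a = p ∨ a = q ∨ a = r) (hb : b = p ∨ b = q ∨ b = r)
    (hc : c = p ∨ c = q ∨ c = r) (hd : d = p ∨ d = q ∨ d = r) :
    a = b ∨ a = c ∨ a = d ∨ b = c ∨ b = d ∨ c = d := by
  rcases ha with ha | ha | ha <;> rcases hb with hb | hb | hb <;> rcases hc with hc | hc | hc <;>
    rcases hd with hd | hd | hd <;> simp only [ha, hb, hc, hd, true_or, or_true]

variable {G : Type u} [Group G] [Finite G] {θ : Mt → G} {ψ : L5 →* G}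

theorem base (h : Fr θ ψ) {c p q r : G} (c2 : c * c = 1)
    (k : ∀ e ∈ AA θ, c * e * c⁻¹ * e⁻¹ ∈ AA θ ∧ (c * e * c⁻¹ * e⁻¹ = 1 ∨
      c * e * c⁻¹ * e⁻¹ = p ∨ c * e * c⁻¹ * e⁻¹ = q ∨ c * e * c⁻¹ * e⁻¹ = r)) : c ∈ AA θ := by
  have hN : c ∈ Ns (AA θ) := mem_normalizer_fintype fun e he => by
    have := mul_mem (k e he).1 he
    rwa [inv_mul_cancel_right] at this
  obtain ⟨m, γ, hm, rfl⟩ := (h.nrm c).1 hN
  by_cases g1 : γ = 1
  · rw [g1, map_one, mul_one]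
    exact h.θ_mem hm
  obtain ⟨a, b, c, d, ha, hb, hc, hd, a0, b0, c0, d0, e1, e2, e3, e4, e5, e6⟩ :=
    four (sq_one h hm c2) g1
  have al : ∀ x, Vl γ x → Al x := by
    rintro _ ⟨n, hn, rfl⟩
    exact (hn.act _).add hn
  have val : ∀ x, Vl γ x → x ≠ 0 → θ x = p ∨ θ x = q ∨ θ x = r := by
    rintro _ ⟨n, hn, rfl⟩ h0
    have := (k _ (h.θ_mem hn)).2
    rw [el_conj h m γ hn, h.inv, ← h.add] at this
    exact this.resolve_left fun e => h0 (h.inj _ ((hn.act _).add hn) e)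
  rcases pig (val a ha a0) (val b hb b0) (val c hc c0) (val d hd d0) with e | e | e | e | e | e
  exacts [absurd (h.inj' (al _ ha) (al _ hb) e) e1, absurd (h.inj' (al _ ha) (al _ hc) e) e2,
    absurd (h.inj' (al _ ha) (al _ hd) e) e3, absurd (h.inj' (al _ hb) (al _ hc) e) e4,
    absurd (h.inj' (al _ hb) (al _ hd) e) e5, absurd (h.inj' (al _ hc) (al _ hd) e) e6]

end Y6

variable {G : Type u} [Group G] [Finite G] {θ : Mt → G} {ψ : L5 →* G}

theorem Fr.nt (h : Fr θ ψ) {g c p q r : G} (c2 : c * c = 1)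
    (k : ∀ e ∈ cj g (AA θ), c * e * c⁻¹ * e⁻¹ ∈ cj g (AA θ) ∧ (c * e * c⁻¹ * e⁻¹ = 1 ∨
      c * e * c⁻¹ * e⁻¹ = p ∨ c * e * c⁻¹ * e⁻¹ = q ∨ c * e * c⁻¹ * e⁻¹ = r)) :
    c ∈ cj g (AA θ) := by
  refine mem_cj.2 (Y6.base h (p := g⁻¹ * p * g) (q := g⁻¹ * q * g) (r := g⁻¹ * r * g)
    (by rw [show g⁻¹ * c * g * (g⁻¹ * c * g) = g⁻¹ * (c * c) * g by group, c2]; group)
    fun e he => ?_)
  obtain ⟨k1, k2⟩ := k (g * e * g⁻¹) (mem_cj.2 (by simpa [mul_assoc] using he))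
  rw [show g⁻¹ * c * g * e * (g⁻¹ * c * g)⁻¹ * e⁻¹ =
    g⁻¹ * (c * (g * e * g⁻¹) * c⁻¹ * (g * e * g⁻¹)⁻¹) * g by group]
  refine ⟨mem_cj.1 k1, k2.imp (fun e => ?_) (Or.imp (fun e => ?_) (Or.imp (fun e => ?_)
    fun e => ?_))⟩ <;> rw [e]
  group

end Cfsg.Lib.R10
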