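import Cfsg.Agent.R10.E10
import Cfsg.Agent.R10.Y2
import Cfsg.Agent.R10.Y6

/-! Conjugates of `A` in `T⟨a⟩` lie in `T`. -/

set_option autoImplicit false
set_option linter.unusedSectionVars false
set_option linter.unusedVariables false

namespace Cfsg.Lib.R10

open Subgroup Cfsg.Lib.Trans Cfsg.Lib.Gold Matrix
open scoped commutatorElement

universe u

namespace Y7

theorem z01 : ∀ a : ZMod 2, a = 0 ∨ a = 1 := by decide

theorem sm2 (x y : ZMod 2) (p q : Mt) :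
    x • p + y • q = 0 ∨ x • p + y • q = p ∨ x • p + y • q = q ∨ x • p + y • q = p + q := by
  rcases z01 x with rfl | rfl <;> rcases z01 y with rfl | rfl <;> simp

theorem al_sm (x y : ZMod 2) (i j k l : Fin 5) : Al (x • wm i j + y • wm k l) := by
  rcases sm2 x y (wm i j) (wm k l) with e | e | e | e <;> rw [e]
  exacts [al_zero, al_wm _ _, al_wm _ _, (al_wm _ _).add (al_wm _ _)]

theorem lt5 {P : Fin 5 → Fin 5 → Prop} (a : P 0 1 ∧ P 0 2 ∧ P 0 3 ∧ P 0 4 ∧ P 1 2 ∧ P 1 3 ∧ P 1 4 ∧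
    P 2 3 ∧ P 2 4 ∧ P 3 4) : ∀ i j, i < j → P i j := by
  obtain ⟨a0, a1, a2, a3, a4, a5, a6, a7, a8, a9⟩ := a
  intro i j hij
  fin_cases i <;> fin_cases j <;> first | assumption | exact absurd hij (by decide)

variable {g : L5}

theorem c01 (h : Up g) : wm 0 1 + g.1 * wm 0 1 * g.1ᵀ = (0 : ZMod 2) • wm 0 1 + (0 : ZMod 2) • wm 0 1 := by
  obtain ⟨b0, b1, b2, b3, b4, b5, b6, b7, b8, b9⟩ := h.act_ent (al_wm 0 1)
  refine ((al_wm _ _).add ((al_wm _ _).act _)).ext (al_sm _ _ _ _ _ _) (lt5 ?_)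
  simp only [Matrix.add_apply, Matrix.smul_apply, b0, b1, b2, b3, b4, b5, b6, b7, b8, b9]
  simp [wm_ent, CA.z2]

theorem c02 (h : Up g) : wm 0 2 + g.1 * wm 0 2 * g.1ᵀ = g.1 1 2 • wm 0 1 + (0 : ZMod 2) • wm 0 1 := by
  obtain ⟨b0, b1, b2, b3, b4, b5, b6, b7, b8, b9⟩ := h.act_ent (al_wm 0 2)
  refine ((al_wm _ _).add ((al_wm _ _).act _)).ext (al_sm _ _ _ _ _ _) (lt5 ?_)
  simp only [Matrix.add_apply, Matrix.smul_apply, b0, b1, b2, b3, b4, b5, b6, b7, b8, b9]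
  simp [wm_ent, CA.z2]

theorem c03 (h : Up g) : wm 0 3 + g.1 * wm 0 3 * g.1ᵀ = g.1 1 3 • wm 0 1 + g.1 2 3 • wm 0 2 := by
  obtain ⟨b0, b1, b2, b3, b4, b5, b6, b7, b8, b9⟩ := h.act_ent (al_wm 0 3)
  refine ((al_wm _ _).add ((al_wm _ _).act _)).ext (al_sm _ _ _ _ _ _) (lt5 ?_)
  simp only [Matrix.add_apply, Matrix.smul_apply, b0, b1, b2, b3, b4, b5, b6, b7, b8, b9]
  simp [wm_ent, CA.z2]

theorem c12 (h : Up g) : wm 1 2 + g.1 * wm 1 2 * g.1ᵀ =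
    (g.1 0 2 + g.1 0 1 * g.1 1 2) • wm 0 1 + g.1 0 1 • wm 0 2 := by
  obtain ⟨b0, b1, b2, b3, b4, b5, b6, b7, b8, b9⟩ := h.act_ent (al_wm 1 2)
  refine ((al_wm _ _).add ((al_wm _ _).act _)).ext (al_sm _ _ _ _ _ _) (lt5 ?_)
  simp only [Matrix.add_apply, Matrix.smul_apply, b0, b1, b2, b3, b4, b5, b6, b7, b8, b9]
  simp [wm_ent, CA.z2]

theorem c13 (h : Up g) (h1 : g.1 0 1 = 0) (h2 : g.1 2 3 = 0) :
    wm 1 3 + g.1 * wm 1 3 * g.1ᵀ = g.1 0 3 • wm 0 1 + (0 : ZMod 2) • wm 0 1 := by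
  obtain ⟨b0, b1, b2, b3, b4, b5, b6, b7, b8, b9⟩ := h.act_ent (al_wm 1 3)
  refine ((al_wm _ _).add ((al_wm _ _).act _)).ext (al_sm _ _ _ _ _ _) (lt5 ?_)
  simp only [Matrix.add_apply, Matrix.smul_apply, b0, b1, b2, b3, b4, b5, b6, b7, b8, b9]
  simp [wm_ent, CA.z2, h1, h2]

theorem sm_zero {x y : ZMod 2} (e : x • wm 0 1 + y • wm 0 2 = 0) : x = 0 ∧ y = 0 := by
  have e1 := congrFun (congrFun e 0) 1
  have e2 := congrFun (congrFun e 0) 2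
  simp [wm_ent] at e1 e2
  exact ⟨e1, e2⟩

theorem sm_zero' {x : ZMod 2} (e : x • wm 0 1 + (0 : ZMod 2) • wm 0 1 = 0) : x = 0 := by
  have e1 := congrFun (congrFun e 0) 1
  simpa [wm_ent] using e1

variable {G : Type u} [Group G]

/-- `e` acts on `Z6` as the unitriangular matrix `γ`. -/
def Ac (θ : Mt → G) (e : G) (γ : L5) : Prop :=
  Up γ ∧ ∀ n, W6 n → e * θ n * e⁻¹ = θ (γ.1 * n * γ.1ᵀ)

theorem comm_of_sq {H : Subgroup G} (k : ∀ x ∈ H, x * x = 1) {x y : G} (hx : x ∈ H) (hy : y ∈ H) :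
    x * y = y * x := by
  have e := k _ (mul_mem hx hy)
  rw [← inv_eq_of_mul_eq_one_right e, _root_.mul_inv_rev, inv_eq_of_mul_eq_one_right (k x hx),
    inv_eq_of_mul_eq_one_right (k y hy)]

end Y7

open Y7

variable {G : Type u} [Group G] [Finite G] {θ : Mt → G} {ψ : L5 →* G}

namespace Fr

variable (h : Fr θ ψ)
include h

theorem yy7_ac {m : Mt} {γ : L5} (hm : Al m) (hγ : Up γ) : Ac θ (θ m * ψ γ) γ :=
  ⟨hγ, fun n hn => by
    rw [mul_assoc (θ m), h.act' γ hn.1, ← mul_assoc, h.comm, mul_assoc (θ _), mul_inv_cancel_right]⟩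

theorem yy7_ex {a e : G} (ha : Sw θ ψ a) (he : e ∈ TT θ ψ ⊔ zpowers a) : ∃ γ, Ac θ e γ := by
  rcases h.sw_cases ha he with k | k
  · obtain ⟨m, γ, hm, hγ, rfl⟩ := h.mem_TT.1 k
    exact ⟨γ, h.yy7_ac hm hγ⟩
  · obtain ⟨m, γ, hm, hγ, e1⟩ := h.mem_TT.1 k
    refine ⟨γ, hγ, fun n hn => ?_⟩
    have e2 := (h.yy7_ac hm hγ).2 n hn
    have e3 := mem_centralizer_iff.1 ha.cZ _ (h.mem_Z6.2 ⟨_, hn.act hγ, rfl⟩)
    rw [← e1] at e2
    refine mul_left_cancel (a := a) ?_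
    rw [← e3, ← e2]
    group

theorem yy7_sq (g : G) : ∀ e ∈ cj g (AA θ), e * e = 1 := by
  rintro _ ⟨x, hx, rfl⟩
  obtain ⟨m, hm, rfl⟩ := h.mem_AA.1 hx
  rw [← map_mul, h.sq, map_one]

theorem yy7_C {g d : G} (k : ∀ e ∈ cj g (AA θ), e * d = d * e) : d ∈ cj g (AA θ) := by
  rw [mem_cj, ← h.CA]
  refine mem_centralizer_iff.2 fun x hx => ?_
  have := k _ (conj_mem_cj.2 hx)
  calc x * (g⁻¹ * d * g) = g⁻¹ * (g * x * g⁻¹ * d) * g := by group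
    _ = g⁻¹ * d * g * x := by rw [this]; group

theorem yy7_step {a g : G} (ha : Sw θ ψ a) (hE : cj g (AA θ) ≤ TT θ ψ ⊔ zpowers a) {n p q : Mt}
    (hn : W6 n)
    (k : ∀ e ∈ cj g (AA θ), ∀ γ, Ac θ e γ → ∃ x y : ZMod 2, n + γ.1 * n * γ.1ᵀ = x • p + y • q ∧
      (x = 0 ∨ θ p ∈ cj g (AA θ)) ∧ (y = 0 ∨ θ q ∈ cj g (AA θ))) :
    θ n ∈ cj g (AA θ) := by
  refine h.nt (p := θ p) (q := θ q) (r := θ (p + q)) (h.sq n) fun e he => ?_
  obtain ⟨γ, hγ⟩ := h.yy7_ex ha (hE he)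
  obtain ⟨x, y, e1, hx, hy⟩ := k e he γ hγ
  have e2 : θ n * e * (θ n)⁻¹ * e⁻¹ = θ (x • p + y • q) := by
    rw [← e1, h.add, ← hγ.2 n hn, h.inv]
    simp only [mul_assoc]
  rw [e2]
  refine ⟨?_, ?_⟩
  · rw [h.add]
    refine mul_mem ?_ ?_
    · rcases z01 x with rfl | rfl
      · rw [zero_smul, h.zero]; exact one_mem _
      · rw [one_smul]; exact hx.resolve_left one_ne_zero
    · rcases z01 y with rfl | rfl
      · rw [zero_smul, h.zero]; exact one_mem _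
      · rw [one_smul]; exact hy.resolve_left one_ne_zero
  · rcases sm2 x y p q with e3 | e3 | e3 | e3 <;> rw [e3]
    exacts [Or.inl h.zero, Or.inr (Or.inl rfl), Or.inr (Or.inr (Or.inl rfl)),
      Or.inr (Or.inr (Or.inr rfl))]

theorem yy7_fix {g e : G} {γ : L5} (he : e ∈ cj g (AA θ)) (hγ : Ac θ e γ) {n : Mt} (hn : W6 n)
    (k : θ n ∈ cj g (AA θ)) : n + γ.1 * n * γ.1ᵀ = 0 := by
  have e1 := hγ.2 n hn
  rw [comm_of_sq (h.yy7_sq g) he k, mul_inv_cancel_right] at e1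
  rw [← h.inj' hn.1 (hn.1.act _) e1, CA.madd]

theorem yy7_r4 {a g : G} (ha : Sw θ ψ a) (hE : cj g (AA θ) ≤ TT θ ψ ⊔ zpowers a) {e : G}
    (he : e ∈ cj g (AA θ)) {γ : L5} (hγ : Ac θ e γ) : R4 γ := by
  have w : ∀ i j : Fin 5, i.val < 4 → j.val < 4 → W6 (wm i j) := w6_wm
  have a01 := h.yy7_step ha hE (w 0 1 (by decide) (by decide))
    fun e he γ k => ⟨_, _, c01 k.1, Or.inl rfl, Or.inl rfl⟩
  have a02 := h.yy7_step ha hE (w 0 2 (by decide) (by decide))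
    fun e he γ k => ⟨_, _, c02 k.1, Or.inr a01, Or.inl rfl⟩
  have a03 := h.yy7_step ha hE (w 0 3 (by decide) (by decide))
    fun e he γ k => ⟨_, _, c03 k.1, Or.inr a01, Or.inr a02⟩
  have a12 := h.yy7_step ha hE (w 1 2 (by decide) (by decide))
    fun e he γ k => ⟨_, _, c12 k.1, Or.inr a01, Or.inr a02⟩
  have b : ∀ e ∈ cj g (AA θ), ∀ γ, Ac θ e γ → γ.1 0 1 = 0 ∧ γ.1 0 2 = 0 ∧ γ.1 1 2 = 0 ∧
      γ.1 1 3 = 0 ∧ γ.1 2 3 = 0 := fun e he γ k => by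
    have b1 := sm_zero' ((c02 k.1).symm.trans (h.yy7_fix he k (w 0 2 (by decide) (by decide)) a02))
    have b2 := sm_zero ((c03 k.1).symm.trans (h.yy7_fix he k (w 0 3 (by decide) (by decide)) a03))
    have b3 := sm_zero ((c12 k.1).symm.trans (h.yy7_fix he k (w 1 2 (by decide) (by decide)) a12))
    refine ⟨b3.2, ?_, b1, b2.1, b2.2⟩
    have := b3.1
    rwa [b1, mul_zero, add_zero] at this
  have a13 := h.yy7_step ha hE (w 1 3 (by decide) (by decide))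
    fun e he γ k => ⟨_, _, c13 k.1 (b e he γ k).1 (b e he γ k).2.2.2.2, Or.inr a01, Or.inl rfl⟩
  obtain ⟨b1, b2, b3, b4, b5⟩ := b e he γ hγ
  exact hγ.1.r4 b1 b2 (sm_zero' ((c13 hγ.1 b1 b5).symm.trans
    (h.yy7_fix he hγ (w 1 3 (by decide) (by decide)) a13))) b3 b4 b5

theorem yy7_A2T : A2 θ ψ ≤ TT θ ψ := (le_sup_right.trans h.sup02.le).trans h.O14_le_TT

theorem yy7_nA2 {a : G} (ha : Sw θ ψ a) : cj a (A2 θ ψ) = A2 θ ψ := by
  have k := h.e10 (B := cj a (A2 θ ψ)) (cj_le_iff.2 fun t ht => h.sw_conj ha (h.yy7_A2T ht))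
    (by
      rintro _ ⟨x, hx, rfl⟩
      rw [← map_mul, h.sq2 x hx, map_one]) (by rw [card_cj, h.card_A2])
  rcases k with k | k | k
  · exact absurd (cj_inj.1 (ha.a10.trans k.symm)) h.ne12
  · exact absurd (cj_inj.1 (ha.a01.trans k.symm)) h.ne02
  · exact k

end Fr

theorem Fr.ee_le (h : Fr θ ψ) {a g : G} (ha : Sw θ ψ a)
    (hE : cj g (AA θ) ≤ TT θ ψ ⊔ zpowers a) : cj g (AA θ) ≤ TT θ ψ := by
  intro b hb
  by_contra hbT
  have hab : a * b ∈ TT θ ψ := (h.sw_cases ha (hE hb)).resolve_left hbT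
  have sq := h.yy7_sq g
  have cm : ∀ {x y : G}, x ∈ cj g (AA θ) → y ∈ cj g (AA θ) → x * y = y * x :=
    fun hx hy => comm_of_sq sq hx hy
  have cm2 : ∀ {x y : G}, x ∈ A2 θ ψ → y ∈ A2 θ ψ → x * y = y * x :=
    fun hx hy => comm_of_sq h.sq2 hx hy
  have mv : ∀ {B B' : Subgroup G}, TT θ ψ ≤ Ns B → cj a B' = B → ∀ x ∈ B, b * x * b⁻¹ ∈ B' :=
    fun {B B'} k1 k2 x hx => by
      have e1 : a * b * x * (a * b)⁻¹ ∈ B := (mem_normalizer_iff.1 (k1 hab) x).1 hx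
      rw [← k2, mem_cj] at e1
      simpa [mul_assoc] using e1
  have hZ : Z6 θ ≤ A2 θ ψ := le_sup_left
  have i2 : ∀ e ∈ cj g (AA θ), e ∈ TT θ ψ → e ∈ A2 θ ψ := fun e he ht => by
    obtain ⟨m, γ, hm, hγ, e1⟩ := h.mem_TT.1 ht
    have hr := h.yy7_r4 ha hE he (e1 ▸ h.yy7_ac hm hγ)
    have e2 : b * e * b⁻¹ = e := by rw [cm hb he, mul_inv_cancel_right]
    rcases h.invO (h.mem_O14.2 ⟨m, γ, hm, hr, e1⟩) (sq e he) with k | k | k
    · exact hZ (h.inf01.le ⟨k, e2 ▸ mv h.TT_le_Ns ha.a10 e k⟩)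
    · exact hZ (h.inf01.le ⟨e2 ▸ mv (Fr.TT_le_G01.trans h.G01_A1) ha.a01 e k, k⟩)
    · exact k
  have i3 : ∀ e ∈ cj g (AA θ), e ∈ A2 θ ψ ∨ ∃ u ∈ A2 θ ψ, e = u * b := fun e he => by
    rcases h.sw_cases ha (hE he) with k | k
    · exact Or.inl (i2 e he k)
    · refine Or.inr ⟨e * b, i2 _ (mul_mem he hb) (h.sw_mul ha k hab), ?_⟩
      rw [mul_assoc, sq b hb, mul_one]
  have bi : b⁻¹ = b := inv_eq_of_mul_eq_one_right (sq b hb)
  have le : A2 θ ψ ≤ cj g (AA θ) := fun c hc => by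
    have c2 := h.sq2 c hc
    have ci : c⁻¹ = c := inv_eq_of_mul_eq_one_right c2
    have hc' : b * c * b⁻¹ ∈ A2 θ ψ := mv (Fr.TT_le_G01.trans h.G01_A2) (h.yy7_nA2 ha) c hc
    have hd : c * (b * c * b⁻¹) ∈ A2 θ ψ := mul_mem hc hc'
    have db : b * (c * (b * c * b⁻¹)) = c * (b * c * b⁻¹) * b := by
      rw [mul_assoc c, inv_mul_cancel_right, cm2 hc hc', ← mul_assoc, ← mul_assoc, ← mul_assoc,
        sq b hb, one_mul, bi, mul_assoc]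
    have dE : c * (b * c * b⁻¹) ∈ cj g (AA θ) := h.yy7_C fun e he => by
      rcases i3 e he with k | ⟨u, hu, rfl⟩
      · exact cm2 k hd
      · rw [mul_assoc u, db, ← mul_assoc, cm2 hu hd, mul_assoc]
    refine h.nt (p := c * (b * c * b⁻¹)) (q := 1) (r := 1) c2 fun e he => ?_
    rcases i3 e he with k | ⟨u, hu, rfl⟩
    · have e1 : c * e * c⁻¹ * e⁻¹ = 1 := by rw [cm2 hc k]; group
      rw [e1]
      exact ⟨one_mem _, Or.inl rfl⟩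
    · have e1 : c * (u * b) * c⁻¹ * (u * b)⁻¹ = c * (b * c * b⁻¹) := by
        calc c * (u * b) * c⁻¹ * (u * b)⁻¹ = c * u * (b * c⁻¹ * b⁻¹) * u⁻¹ := by group
          _ = u * (c * (b * c * b⁻¹)) * u⁻¹ := by rw [ci, cm2 hc hu, mul_assoc u]
          _ = _ := by rw [cm2 hu hd, mul_inv_cancel_right]
      rw [e1]
      exact ⟨dE, Or.inr (Or.inl rfl)⟩
  have e := Subgroup.eq_of_le_of_card_ge le (by rw [card_cj, h.card_AA, h.card_A2])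
  exact hbT (h.yy7_A2T (e ▸ hb))

end Cfsg.Lib.R10
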