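import Cfsg.Agent.R10.E10
import Cfsg.Agent.R10.Y0
import Cfsg.Agent.R10.Y2
import Cfsg.Agent.R10.Y3
import Cfsg.Agent.R10.Y4
import Cfsg.Agent.R10.Y5a
import Cfsg.Agent.R10.Y5b
import Cfsg.Agent.R10.Y7

/-! The Sylow 2-subgroup of `G` over `T`. -/

set_option autoImplicit false

namespace Cfsg.Lib.R10

open Subgroup Cfsg.Lib.Trans Cfsg.Lib.Gold Matrix

universe u

variable {G : Type u} [Group G] [Finite G] {θ : Mt → G} {ψ : L5 →* G}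

namespace Y8

variable (h : Fr θ ψ)
include h

theorem three {g : G} (hg : cj g (AA θ) ≤ TT θ ψ) :
    cj g (AA θ) = AA θ ∨ cj g (AA θ) = A1 θ ψ ∨ cj g (AA θ) = A2 θ ψ := by
  refine h.e10 hg (fun b hb => ?_) (by rw [card_cj, h.card_AA])
  obtain ⟨m, -, e⟩ := h.mem_AA.1 (mem_cj.1 hb)
  calc _ = g * (g⁻¹ * b * g * (g⁻¹ * b * g)) * g⁻¹ := by group
    _ = 1 := by rw [← e, h.sq]; group

theorem nA2 (g : G) : cj g (AA θ) ≠ A2 θ ψ := fun e => by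
  obtain ⟨n, hn, e'⟩ := h.toN e (Fr.TT_le_G01.trans h.G01_A2)
  obtain ⟨k1, k2, k3, -⟩ := h.perm hn
  exact h.nA2_of k1 k2 k3 e'

theorem two {g : G} (hg : cj g (AA θ) ≤ TT θ ψ) : cj g (AA θ) = AA θ ∨ cj g (AA θ) = A1 θ ψ :=
  (three h hg).imp_right fun k => k.resolve_right (nA2 h g)

theorem sw {g : G} (e : cj g (AA θ) = A1 θ ψ) : ∃ a, Sw θ ψ a := by
  obtain ⟨n, hn, e'⟩ := h.toN e (Fr.TT_le_G01.trans h.G01_A1)
  obtain ⟨k1, k2, k3, k4⟩ := h.perm hn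
  have e1 : cj n (A1 θ ψ) = AA θ := by
    rcases k4 _ (.inr (.inl rfl)) with k | k | k
    · exact k
    · exact absurd (cj_inj.1 (e'.trans k.symm)) h.ne01
    · exact absurd (by rw [← k, ← e', cj_cj]) (nA2 h (n * n))
  obtain ⟨a, ha⟩ := h.sw0 k1 k2 k3 e' e1
  exact h.sw ha

/-- A 2-subgroup over `T` that sees every normalising element is Sylow. -/
theorem syl {S : Subgroup G} (hp : IsPGroup 2 S) (TS : TT θ ψ ≤ S)
    (k : ∀ g, cj g (AA θ) ≤ S → ∃ s ∈ S, cj (s * g) (AA θ) = AA θ) : IsSylowIn 2 S ⊤ := by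
  refine isSylowIn_of_maximal le_top hp fun P hP SP _ => ?_
  by_contra ne
  obtain ⟨g, ⟨gP, gN⟩, gS⟩ := SetLike.exists_of_lt 
    (lt_inf_normalizer hP (lt_of_le_not_ge SP ne))
  obtain ⟨s, hs, e⟩ := k g ((cj_mono g (le_sup_left.trans TS)).trans (cj_eq_of_mem_normalizer gN).le)
  have e2 := h.sylT.eq_inf hP (TS.trans SP)
  have : s * g ∈ TT θ ψ := e2 ▸ ⟨mul_mem (SP hs) gP, mem_Ns_iff.2 e⟩
  exact gS ((mul_mem_cancel_left hs).1 (TS this))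

theorem fus {S : Subgroup G} (hS : IsSylowIn 2 S ⊤)
    (k : ∀ g, cj g (AA θ) ≤ S → cj g (AA θ) = AA θ ∨ (cj g (AA θ) = A1 θ ψ ∧ ∃ a, Sw θ ψ a))
    (B : Subgroup G) (g : G) (hB : B ≤ AA θ) (hg : cj g B ≤ AA θ) :
    ∃ n ∈ Ns (AA θ), ∀ b ∈ B, g * b * g⁻¹ = n * b * n⁻¹ := by
  have hA : IsPGroup 2 (AA θ) := h.sylT.isPGroup.to_le le_sup_left
  have cA : ∀ x ∈ AA θ, ∀ y ∈ AA θ, x * y = y * x := fun x hx y hy => by
    obtain ⟨m, -, rfl⟩ := h.mem_AA.1 hx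
    obtain ⟨m', -, rfl⟩ := h.mem_AA.1 hy
    exact h.comm _ _
  have a1 : AA θ ≤ Cs B := fun x hx => mem_Cs.2 fun b hb => cA b (hB hb) x hx
  have a2 : cj g⁻¹ (AA θ) ≤ Cs B := fun x hx => mem_Cs.2 fun b hb => by
    have := cA _ (cj_le_iff.1 hg b hb) _ (mem_cj_inv.1 hx)
    calc _ = g⁻¹ * (g * b * g⁻¹ * (g * x * g⁻¹)) * g := by group
      _ = _ := by rw [this]; group
  obtain ⟨P, hP, AP⟩ := exists_isSylowIn_ge hA a1
  obtain ⟨c, hc, e1⟩ := hP.exists_cj_le (isPGroup_cj hA g⁻¹) a2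
  obtain ⟨u, -, e2⟩ := hS.exists_cj_le hP.isPGroup le_top
  have cb : ∀ b ∈ B, c * b * c⁻¹ = b := fun b hb => by rw [← mem_Cs.1 hc b hb, mul_inv_cancel_right]
  have fin : ∀ v w : G, cj v (AA θ) = AA θ → cj (w * v * c * g⁻¹) (AA θ) = AA θ →
      (∀ b ∈ B, w * (v * b * v⁻¹) * w⁻¹ = v * b * v⁻¹) →
      ∃ n ∈ Ns (AA θ), ∀ b ∈ B, g * b * g⁻¹ = n * b * n⁻¹ := fun v w ev ew eb =>
    ⟨(w * v * c * g⁻¹)⁻¹ * v, mul_mem (inv_mem (mem_Ns_iff.2 ew)) (mem_Ns_iff.2 ev), fun b hb => by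
      calc _ = (w * v * c * g⁻¹)⁻¹ * (w * (v * (c * b * c⁻¹) * v⁻¹) * w⁻¹) * (w * v * c * g⁻¹) := by
            group
        _ = _ := by rw [cb b hb, eb b hb]; group⟩
  have f1 := k u ((cj_mono u AP).trans e2)
  have f2 := k (u * c * g⁻¹) (by rw [← cj_cj, ← cj_cj]; exact (cj_mono u e1).trans e2)
  have mix : ∀ v a : G, Sw θ ψ a → cj v (AA θ) = AA θ → cj (v * c * g⁻¹) (AA θ) = A1 θ ψ →
      ∃ n ∈ Ns (AA θ), ∀ b ∈ B, g * b * g⁻¹ = n * b * n⁻¹ := fun v a ha ev ew => by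
    refine fin v a ev (by rw [mul_assoc, mul_assoc, ← cj_cj, ← mul_assoc, ew, ha.a10]) fun b hb => ?_
    have m0 : v * b * v⁻¹ ∈ AA θ := ev ▸ conj_mem_cj.2 (hB hb)
    have m1 : v * b * v⁻¹ ∈ A1 θ ψ := by
      have := conj_mem_cj (g := v * c * g⁻¹).2 (cj_le_iff.1 hg b hb)
      rw [ew] at this
      convert this using 1
      conv_lhs => rw [← cb b hb]
      group
    have m2 : v * b * v⁻¹ ∈ Z6 θ := h.inf01 ▸ ⟨m0, m1⟩
    rw [← mem_Cs.1 ha.cZ _ m2, mul_inv_cancel_right]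
  rcases f1 with f1 | ⟨f1, a, ha⟩ <;> rcases f2 with f2 | ⟨f2, a', ha'⟩
  · exact fin u 1 f1 (by rwa [one_mul]) fun b _ => by group
  · exact mix u a' ha' f1 f2
  · exact mix (a * u) a ha (by rw [← cj_cj, f1, ha.a10])
      (by rw [mul_assoc, mul_assoc, ← cj_cj, ← mul_assoc, f2, ha.a01])
  · exact fin (a * u) 1 (by rw [← cj_cj, f1, ha.a10])
      (by rw [one_mul, mul_assoc, mul_assoc, ← cj_cj, ← mul_assoc, f2, ha.a10]) fun b _ => by group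

end Y8

open Y8

theorem Fr.sy (h : Fr θ ψ) : ∃ S, Sy θ ψ S := by
  by_cases e : ∃ g, cj g (AA θ) = A1 θ ψ
  · obtain ⟨g, e⟩ := e
    obtain ⟨a, ha⟩ := Y8.sw h e
    have k : ∀ g, cj g (AA θ) ≤ TT θ ψ ⊔ zpowers a → cj g (AA θ) = AA θ ∨ cj g (AA θ) = A1 θ ψ :=
      fun g hg => two h (h.ee_le ha hg)
    have hT := h.sylT.isPGroup
    have hp : IsPGroup 2 (TT θ ψ ⊔ zpowers a : Subgroup G) := fun s => by
      have : s.1 * s.1 ∈ TT θ ψ := (h.sw_cases ha s.2).elim (fun x => mul_mem x x)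
        fun x => h.sw_mul ha x x
      obtain ⟨n, hn⟩ := hT ⟨_, this⟩
      refine ⟨n + 1, Subtype.ext ?_⟩
      have := congrArg Subtype.val hn
      simp only [SubmonoidClass.mk_pow, OneMemClass.coe_one] at this
      rw [SubmonoidClass.coe_pow, pow_succ', pow_mul, pow_two, this, OneMemClass.coe_one]
    have hS := syl h hp le_sup_left fun g hg => (k g hg).elim
      (fun x => ⟨1, one_mem _, by rwa [one_mul]⟩)
      fun x => ⟨a, mem_sup_right (mem_zpowers a), by rw [← cj_cj, x, ha.a10]⟩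
    exact ⟨_, hS, .inr ⟨a, ha, rfl, k⟩,
      fus h hS fun g hg => (k g hg).imp_right fun x => ⟨x, a, ha⟩⟩
  · have k : ∀ g, cj g (AA θ) ≤ TT θ ψ → cj g (AA θ) = AA θ :=
      fun g hg => (two h hg).resolve_right fun x => e ⟨g, x⟩
    have hS := syl h h.sylT.isPGroup le_rfl fun g hg => ⟨1, one_mem _, by rw [one_mul, k g hg]⟩
    exact ⟨_, hS, .inl ⟨rfl, k⟩, fus h hS fun g hg => .inl (k g hg)⟩

end Cfsg.Lib.R10
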