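import Cfsg.Agent.R10.CC
import Cfsg.Agent.R10.Ho2

/-! Definitions for the determination of the Sylow 2-subgroup. -/

set_option autoImplicit false

namespace Cfsg.Lib.R10

open Subgroup Cfsg.Lib.Trans Cfsg.Lib.Gold Matrix
open scoped commutatorElement

universe u

/-- The stabiliser of the hyperplane `⟨e 0, …, e 3⟩`. -/
def P4 (g : L5) : Prop := ∀ j : Fin 5, j.val < 4 → g.1 4 j = 0

instance (g : L5) : Decidable (P4 g) := inferInstanceAs (Decidable (∀ _, _))

/-- Upper unitriangular matrices. -/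
def U5 : Subgroup L5 := CA.mkSub Up up_one fun _ _ => Up.mul

theorem mem_U5 {g : L5} : g ∈ U5 ↔ Up g := Iff.rfl

variable {G : Type u} [Group G]

/-- An element interchanging `A` and `A1`, before the last adjustment. -/
structure Sw0 (θ : Mt → G) (ψ : L5 →* G) (a : G) : Prop where
  sq : a * a ∈ O14 θ ψ
  a01 : cj a (AA θ) = A1 θ ψ
  a10 : cj a (A1 θ ψ) = AA θ
  cZ : a ∈ Cs (Z6 θ)
  cG : ∀ g ∈ G01 θ ψ, ⁅a, g⁆ ∈ O14 θ ψ

end Cfsg.Lib.R10
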